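import Cfsg.Agent.Lib.M24X.CentData

/-!
# The centraliser of a fixed-point-free involution of `M24`.
-/

set_option autoImplicit false
set_option maxRecDepth 100000

namespace Cfsg.Agent.Lib.M24X

open Cfsg Cfsg.Agent.Lib.Golay MulAction
open scoped Pointwise

/-! ### General tools for chains of subgroups given by lists -/

theorem perm_pt_idx {l : List ℕ} (hl : isPerm l = true) (p : GolayPt) :
    perm l p = pt (lk l (idx p)) := by
  rw [perm_apply hl, Cfsg.Agent.Lib.Golay.lp]

theorem transversal_nodup {T : List (List ℕ)} (hT : ∀ l ∈ T, isPerm l = true) {b : ℕ} (hb : b < 24)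
    (hnd : (T.map fun l => lk l b).Nodup) : ((T.map perm).map fun t => t (pt b)).Nodup := by
  rw [List.map_map]
  have h1 : ((T.map fun l => lk l b).map pt).Nodup := by
    refine List.Nodup.map_on ?_ hnd
    intro a ha c hc he
    obtain ⟨l, hl, rfl⟩ := List.mem_map.mp ha
    obtain ⟨l', hl', rfl⟩ := List.mem_map.mp hc
    have h2 := congrArg idx he
    rwa [idx_pt (isPerm_lt (hT l hl) hb), idx_pt (isPerm_lt (hT l' hl') hb)] at h2
  rw [List.map_map] at h1
  convert h1 using 1
  apply List.map_congr_left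
  intro l hl
  simp only [Function.comp_apply]
  exact perm_pt (hT l hl) hb

theorem exists_transversal {T : List (List ℕ)} (hT : ∀ l ∈ T, isPerm l = true) {b : ℕ} (hb : b < 24)
    {q : GolayPt} (h : idx q ∈ T.map fun l => lk l b) : ∃ t ∈ T.map perm, q = t (pt b) := by
  obtain ⟨l, hl, he⟩ := List.mem_map.mp h
  refine ⟨perm l, List.mem_map_of_mem hl, ?_⟩
  rw [perm_pt (hT l hl) hb, he, pt_idx]

theorem card_of_listing (K : Subgroup (Equiv.Perm GolayPt)) {Z : List (List ℕ)}
    (hv : ∀ l ∈ Z, isPerm l = true) (hnd : Z.Nodup) (hK : ∀ g, g ∈ K ↔ ∃ l ∈ Z, g = perm l) :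
    Nat.card K = Z.length := by
  classical
  have h1 : (K : Set (Equiv.Perm GolayPt)) = ((Z.map perm).toFinset : Finset _) := by
    ext g
    simp only [SetLike.mem_coe, hK, Finset.mem_coe, List.mem_toFinset, List.mem_map, eq_comm]
  have h2 : (Z.map perm).Nodup := by
    refine List.Nodup.map_on ?_ hnd
    intro a ha b hb he
    exact perm_inj (hv a ha) (hv b hb) he
  have h3 : Nat.card K = (K : Set (Equiv.Perm GolayPt)).ncard := rfl
  rw [h3, h1, Set.ncard_coe_finset, List.toFinset_card_of_nodup h2, List.length_map]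

/-! ### The centraliser -/

/-- The centraliser of the representative `tB` in `M24`. -/
def CtB : Subgroup (Equiv.Perm GolayPt) := M24 ⊓ Subgroup.centralizer {perm tB}

theorem mem_CtB {g : Equiv.Perm GolayPt} : g ∈ CtB ↔ g ∈ M24 ∧ g * perm tB = perm tB * g := by
  rw [CtB, Subgroup.mem_inf, Subgroup.mem_centralizer_singleton_iff]

/-- Commutation test with `tB`. -/
def commTB (l : List ℕ) : Bool := mulL l tB == mulL tB l

theorem comm_of_commTB {l : List ℕ} (hl : isPerm l = true) (h : commTB l = true) :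
    perm l * perm tB = perm tB * perm l := by
  rw [← perm_mulL hl isPerm_tB, ← perm_mulL isPerm_tB hl]
  have : mulL l tB = mulL tB l := by simpa [commTB] using h
  rw [this]

theorem commTB_of_comm {l : List ℕ} (hl : isPerm l = true) (h : perm l * perm tB = perm tB * perm l) :
    commTB l = true := by
  have : mulL l tB = mulL tB l := by
    apply perm_inj (isPerm_mulL hl isPerm_tB) (isPerm_mulL isPerm_tB hl)
    rw [perm_mulL hl isPerm_tB, perm_mulL isPerm_tB hl, h]
  simp [commTB, this]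

/-- Validity of elements of the centraliser. -/
def okC (l : List ℕ) : Bool := isPerm l && autCheck l && commTB l

theorem perm_mem_CtB {l : List ℕ} (h : okC l = true) : perm l ∈ CtB := by
  simp only [okC, Bool.and_eq_true] at h
  exact mem_CtB.mpr ⟨perm_mem_M24 h.1.1 h.1.2, comm_of_commTB h.1.1 h.2⟩

theorem okC_perm {l : List ℕ} (h : okC l = true) : isPerm l = true := by
  simp only [okC, Bool.and_eq_true] at h
  exact h.1.1

theorem cW24_ok : cW24.all okC = true := by decide +kernel
theorem cT1_ok : cT1.all okC = true := by decide +kernel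
theorem cZ_ok : cZ.all okC = true := by decide +kernel

theorem cW24_perm : ∀ l ∈ cW24, isPerm l = true := fun l hl => okC_perm (List.all_eq_true.mp cW24_ok l hl)
theorem cT1_perm : ∀ l ∈ cT1, isPerm l = true := fun l hl => okC_perm (List.all_eq_true.mp cT1_ok l hl)
theorem cZ_perm : ∀ l ∈ cZ, isPerm l = true := fun l hl => okC_perm (List.all_eq_true.mp cZ_ok l hl)

theorem cW24_cover : ∀ i : Fin 24, (i : ℕ) ∈ cW24.map fun l => lk l 23 := by decide +kernel

/-- Every point is the image of `23` under an element of the centraliser. -/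
theorem exists_CtB_map (q : GolayPt) : ∃ c ∈ CtB, c (pt 23) = q := by
  have h := cW24_cover ⟨idx q, idx_lt q⟩
  obtain ⟨t, ht, he⟩ := exists_transversal cW24_perm (by norm_num) h
  obtain ⟨l, hl, rfl⟩ := List.mem_map.mp ht
  exact ⟨perm l, perm_mem_CtB (List.all_eq_true.mp cW24_ok l hl), he.symm⟩

theorem lk_tB_23 : lk tB 23 = 0 := by decide +kernel
theorem lk_tB_1 : lk tB 1 = 2 := by decide +kernel

theorem tB_pt23 : perm tB (pt 23) = pt 0 := by
  rw [perm_pt isPerm_tB (by norm_num), lk_tB_23]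

theorem tB_pt1 : perm tB (pt 1) = pt 2 := by
  rw [perm_pt isPerm_tB (by norm_num), lk_tB_1]

theorem comm_apply {g : Equiv.Perm GolayPt} (h : g * perm tB = perm tB * g) (p : GolayPt) :
    g (perm tB p) = perm tB (g p) := by
  have := congrArg (fun f : Equiv.Perm GolayPt => f p) h
  simpa [Equiv.Perm.mul_apply] using this

/-- Elements fixing the point `23` do not send `1` to `8` or `18`. -/
theorem cR_ok : cR.all (fun y => isPerm y && autCheck y && Nat.beq (lk y 23) 23 && Nat.beq (lk y 0) 0 &&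
    Nat.beq (lk y 2) (lk tB (lk y 1)) && coset4All y (fun l => !commTB l)) = true := by
  decide +kernel

theorem cT1_cover : ∀ i : Fin 24, (i : ℕ) ∈ cT1.map (fun l => lk l 1) ∨ (i : ℕ) = 23 ∨ (i : ℕ) = 0 ∨
    (i : ℕ) ∈ cR.map (fun l => lk l 1) := by decide +kernel

theorem hup1 {g : Equiv.Perm GolayPt} (hg : g ∈ CtB ⊓ stabilizer (Equiv.Perm GolayPt) (pt 23)) :
    ∃ t ∈ cT1.map perm, g (pt 1) = t (pt 1) := by
  obtain ⟨hC, h23⟩ := Subgroup.mem_inf.mp hg
  obtain ⟨hM, hc⟩ := mem_CtB.mp hC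
  have h23' : g (pt 23) = pt 23 := mem_stabilizer_iff.mp h23
  have h0 : g (pt 0) = pt 0 := by
    rw [← tB_pt23, comm_apply hc, h23']
  rcases cT1_cover ⟨idx (g (pt 1)), idx_lt _⟩ with h | h | h | h
  · exact exists_transversal cT1_perm (by norm_num) h
  · exfalso
    have h1 : g (pt 1) = pt 23 := by
      rw [← pt_idx (g (pt 1))]
      exact congrArg pt h
    rw [← h23'] at h1
    exact absurd (congrArg idx (g.injective h1)) (by
      rw [idx_pt (by norm_num), idx_pt (by norm_num)]
      norm_num)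
  · exfalso
    have h1 : g (pt 1) = pt 0 := by
      rw [← pt_idx (g (pt 1))]
      exact congrArg pt h
    rw [← h0] at h1
    exact absurd (congrArg idx (g.injective h1)) (by
      rw [idx_pt (by norm_num), idx_pt (by norm_num)]
      norm_num)
  · exfalso
    obtain ⟨y, hy, hye⟩ := List.mem_map.mp h
    have hok := List.all_eq_true.mp cR_ok y hy
    simp only [Bool.and_eq_true, Nat.beq_eq] at hok
    obtain ⟨⟨⟨⟨⟨yp, ya⟩, y23⟩, y0⟩, y2⟩, yc⟩ := hok
    have hg1 : g (pt 1) = perm y (pt 1) := by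
      rw [perm_pt yp (by norm_num), hye, pt_idx]
    obtain ⟨l, hl, hle, hP⟩ := coset4_prop yp ya yc hM
      (by rw [perm_pt yp (by norm_num), y23]; exact h23')
      (by rw [perm_pt yp (by norm_num), y0]; exact h0)
      hg1
      (by
        have h2 : g (pt 2) = perm tB (g (pt 1)) := by
          rw [← tB_pt1, comm_apply hc]
        rw [h2, hg1, perm_pt yp (by norm_num), perm_pt isPerm_tB (isPerm_lt yp (by norm_num)),
          perm_pt yp (by norm_num), y2])
    rw [hle] at hc
    rw [commTB_of_comm hl hc] at hP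
    simp at hP

/-- The subgroup of the centraliser fixing the points `23` and `1`. -/
theorem mem_H2_iff (g : Equiv.Perm GolayPt) :
    g ∈ (CtB ⊓ stabilizer (Equiv.Perm GolayPt) (pt 23)) ⊓ stabilizer (Equiv.Perm GolayPt) (pt 1) ↔
      ∃ l ∈ cZ, g = perm l := by
  have hcheck : coset4All idL (fun l => !commTB l || cZ.contains l) = true := by decide +kernel
  have hfix : cZ.all (fun l => Nat.beq (lk l 23) 23 && Nat.beq (lk l 1) 1) = true := by decide +kernel
  constructor
  · intro hg
    obtain ⟨hg1, h1⟩ := Subgroup.mem_inf.mp hg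
    obtain ⟨hC, h23⟩ := Subgroup.mem_inf.mp hg1
    obtain ⟨hM, hc⟩ := mem_CtB.mp hC
    have h23' : g (pt 23) = pt 23 := mem_stabilizer_iff.mp h23
    have h1' : g (pt 1) = pt 1 := mem_stabilizer_iff.mp h1
    have h0 : g (pt 0) = pt 0 := by
      rw [← tB_pt23, comm_apply hc, h23']
    have h2 : g (pt 2) = pt 2 := by
      rw [← tB_pt1, comm_apply hc, h1']
    have hid : ∀ i, i < 24 → perm idL (pt i) = pt i := by
      intro i _
      rw [perm_idL]
      rfl
    obtain ⟨l, hl, hle, hP⟩ := coset4_prop isPerm_idL (by decide +kernel) hcheck hM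
      (by rw [hid _ (by norm_num)]; exact h23') (by rw [hid _ (by norm_num)]; exact h0)
      (by rw [hid _ (by norm_num)]; exact h1') (by rw [hid _ (by norm_num)]; exact h2)
    rw [hle] at hc
    rw [commTB_of_comm hl hc] at hP
    simp only [Bool.not_true, Bool.false_or, List.contains_iff_mem] at hP
    exact ⟨l, hP, hle⟩
  · rintro ⟨l, hl, rfl⟩
    have hok := List.all_eq_true.mp hfix l hl
    simp only [Bool.and_eq_true, Nat.beq_eq] at hok
    have hp := cZ_perm l hl
    refine Subgroup.mem_inf.mpr ⟨Subgroup.mem_inf.mpr ⟨perm_mem_CtB (List.all_eq_true.mp cZ_ok l hl), ?_⟩, ?_⟩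
    · rw [mem_stabilizer_iff, Equiv.Perm.smul_def, perm_pt hp (by norm_num), hok.1]
    · rw [mem_stabilizer_iff, Equiv.Perm.smul_def, perm_pt hp (by norm_num), hok.2]

theorem card_CtB : Nat.card CtB = 7680 := by
  have h1 := card_eq_length_mul CtB (pt 23) (cW24.map perm)
    (fun t ht => by
      obtain ⟨l, hl, rfl⟩ := List.mem_map.mp ht
      exact perm_mem_CtB (List.all_eq_true.mp cW24_ok l hl))
    (transversal_nodup cW24_perm (by norm_num) (by decide +kernel))
    (fun g _ => exists_transversal cW24_perm (by norm_num) (cW24_cover ⟨idx (g (pt 23)), idx_lt _⟩))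
  have h2 := card_eq_length_mul (CtB ⊓ stabilizer (Equiv.Perm GolayPt) (pt 23)) (pt 1) (cT1.map perm)
    (fun t ht => by
      obtain ⟨l, hl, rfl⟩ := List.mem_map.mp ht
      refine Subgroup.mem_inf.mpr ⟨perm_mem_CtB (List.all_eq_true.mp cT1_ok l hl), ?_⟩
      have hf : lk l 23 = 23 := by
        have hfix : cT1.all (fun l => Nat.beq (lk l 23) 23) = true := by decide +kernel
        exact Nat.eq_of_beq_eq_true (List.all_eq_true.mp hfix l hl)
      rw [mem_stabilizer_iff, Equiv.Perm.smul_def, perm_pt (cT1_perm l hl) (by norm_num), hf])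
    (transversal_nodup cT1_perm (by norm_num) (by decide +kernel))
    (fun g hg => hup1 hg)
  have h3 := card_of_listing _ cZ_perm (by decide +kernel) mem_H2_iff
  have l1 : (cW24.map perm).length = 24 := by simp; decide +kernel
  have l2 : (cT1.map perm).length = 20 := by simp; decide +kernel
  have l3 : cZ.length = 16 := by decide +kernel
  rw [h1, h2, h3, l1, l2, l3]

/-! ### The fixed sextet -/

theorem cS1_fixed : cS1.all (fun m => Nat.beq (pull tB m) m) = true := by decide +kernel

theorem fam_cS1_mem : fam cS1 ∈ sextets := fam_mem_sextets (by decide +kernel)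

theorem cS1_unique : sextetL.all (fun L => !(L.all fun m => Nat.beq (pull tB m) m) || eqSetB L cS1) = true := by
  decide +kernel

theorem cS1_bd : bdB cS1 = true := by decide +kernel

theorem CtB_fix_sextet {c : Equiv.Perm GolayPt} (hc : c ∈ CtB) : c • fam cS1 = fam cS1 := by
  obtain ⟨hM, hcc⟩ := mem_CtB.mp hc
  have h1 : c • fam cS1 ∈ sextets := smul_sextet hM fam_cS1_mem
  obtain ⟨L, hL, he⟩ := mem_sextets_iff.mp h1
  have hb := bdB_iff.mp (sextetL_bd hL)
  have hall : (L.all fun m => Nat.beq (pull tB m) m) = true := by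
    apply List.all_eq_true.mpr
    intro m hm
    rw [← fixed_mask_iff isPerm_tB (hb m hm)]
    have hm2 : finOf m ∈ c • fam cS1 := by
      rw [← he]
      exact mem_fam.mpr ⟨m, hm, rfl⟩
    obtain ⟨t, ht, hte⟩ := Finset.mem_smul_finset.mp hm2
    obtain ⟨m0, hm0, rfl⟩ := mem_fam.mp ht
    have hfix := List.all_eq_true.mp cS1_fixed m0 hm0
    have hb0 := bdB_iff.mp cS1_bd m0 hm0
    have hfix2 := (fixed_mask_iff isPerm_tB hb0).mpr hfix
    rw [← hte, ← mul_smul, ← hcc, mul_smul, hfix2]
  have h2 := List.all_eq_true.mp cS1_unique L hL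
  rw [hall] at h2
  simp only [Bool.not_true, Bool.false_or] at h2
  rw [← he]
  exact fam_eq_of_eqSetB h2

/-! ### Transport to an arbitrary fixed-point-free involution -/

theorem centraliser_fpf (t : Equiv.Perm GolayPt) (ht : t ∈ M24) (h₂ : orderOf t = 2) (h₀ : ∀ p, t p ≠ p) :
    Nat.card {c : Equiv.Perm GolayPt // c ∈ M24 ∧ c * t = t * c} = 7680 ∧
      (∀ p q : GolayPt, ∃ c ∈ M24, c * t = t * c ∧ c p = q) ∧
      ∃ S ∈ sextets, t • S = S ∧ ∀ c ∈ M24, c * t = t * c → c • S = S := by
  obtain ⟨k, hk, he⟩ := conj_tB_of_fpf ht h₂ ((fpf_iff_card t).mp h₀)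
  have hk' := M24.inv_mem hk
  have ht2 : t = k⁻¹ * perm tB * k := by
    rw [← he]
    group
  have key1 : ∀ c, c ∈ M24 → c * t = t * c → k * c * k⁻¹ ∈ CtB := by
    intro c hc hct
    refine mem_CtB.mpr ⟨M24.mul_mem (M24.mul_mem hk hc) hk', ?_⟩
    rw [← he]
    calc k * c * k⁻¹ * (k * t * k⁻¹) = k * (c * t) * k⁻¹ := by group
      _ = k * (t * c) * k⁻¹ := by rw [hct]
      _ = k * t * k⁻¹ * (k * c * k⁻¹) := by group
  have key2 : ∀ c, c ∈ CtB → k⁻¹ * c * k ∈ M24 ∧ (k⁻¹ * c * k) * t = t * (k⁻¹ * c * k) := by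
    intro c hc
    obtain ⟨h1, h2⟩ := mem_CtB.mp hc
    refine ⟨M24.mul_mem (M24.mul_mem hk' h1) hk, ?_⟩
    rw [ht2]
    calc k⁻¹ * c * k * (k⁻¹ * perm tB * k) = k⁻¹ * (c * perm tB) * k := by group
      _ = k⁻¹ * (perm tB * c) * k := by rw [h2]
      _ = k⁻¹ * perm tB * k * (k⁻¹ * c * k) := by group
  refine ⟨?_, ?_, ?_⟩
  · rw [← card_CtB]
    apply Nat.card_congr
    exact ⟨fun c => ⟨k * c.1 * k⁻¹, key1 c.1 c.2.1 c.2.2⟩,
      fun c => ⟨k⁻¹ * c.1 * k, key2 c.1 c.2⟩,
      fun c => Subtype.ext (by simp [mul_assoc]),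
      fun c => Subtype.ext (by simp [mul_assoc])⟩
  · intro p q
    obtain ⟨c1, hc1, e1⟩ := exists_CtB_map (k p)
    obtain ⟨c2, hc2, e2⟩ := exists_CtB_map (k q)
    have hc := CtB.mul_mem hc2 (CtB.inv_mem hc1)
    obtain ⟨h3, h4⟩ := key2 _ hc
    refine ⟨_, h3, h4, ?_⟩
    simp only [Equiv.Perm.mul_apply]
    rw [← e1]
    simp [e2]
  · refine ⟨k⁻¹ • fam cS1, smul_sextet hk' fam_cS1_mem, ?_, ?_⟩
    · have htC : perm tB ∈ CtB := mem_CtB.mpr ⟨perm_mem_M24 isPerm_tB aut_tB, rfl⟩
      rw [ht2]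
      simp only [mul_smul, smul_inv_smul]
      rw [CtB_fix_sextet htC]
    · intro c hc hct
      have h5 := CtB_fix_sextet (key1 c hc hct)
      rw [mul_smul, mul_smul] at h5
      have h6 : c • k⁻¹ • fam cS1 = k⁻¹ • (k • c • k⁻¹ • fam cS1) := by simp
      rw [h6, h5]

end Cfsg.Agent.Lib.M24X
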