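import Cfsg.Agent.Lib.M24X.ClassData

/-!
# Conjugacy classes of elements of orders 2 and 3 in `M24`.
-/

set_option autoImplicit false
set_option maxRecDepth 100000

namespace Cfsg.Agent.Lib.M24X

open Cfsg Cfsg.Agent.Lib.Golay MulAction
open scoped Pointwise

/-- Boolean test over a coset of the stabiliser of the first four base points. -/
def coset4All (x : List ℕ) (P : List ℕ → Bool) : Bool :=
  m24T4.all fun a => m24T5.all fun b => m24T6.all fun c => P (mulL x (mulL a (mulL b c)))

/-- Boolean test over a coset of the stabiliser of the first five base points. -/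
def coset5All (x : List ℕ) (P : List ℕ → Bool) : Bool :=
  m24T5.all fun b => m24T6.all fun c => P (mulL x (mulL b c))

theorem coset4_prop {x : List ℕ} (hx : isPerm x = true) (hxm : autCheck x = true)
    {P : List ℕ → Bool} (hall : coset4All x P = true) {g : Equiv.Perm GolayPt} (hg : g ∈ M24)
    (h0 : g (pt 23) = perm x (pt 23)) (h1 : g (pt 0) = perm x (pt 0))
    (h2 : g (pt 1) = perm x (pt 1)) (h3 : g (pt 2) = perm x (pt 2)) :
    ∃ l, isPerm l = true ∧ g = perm l ∧ P l = true := by
  obtain ⟨a, ha, b, hb, c, hc, hp, he⟩ := dec4_coset hx hxm hg h0 h1 h2 h3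
  refine ⟨_, hp, he, ?_⟩
  exact List.all_eq_true.mp (List.all_eq_true.mp (List.all_eq_true.mp hall a ha) b hb) c hc

theorem dec5_coset {x : List ℕ} (hx : isPerm x = true) (hxm : autCheck x = true)
    {g : Equiv.Perm GolayPt} (hg : g ∈ M24)
    (h0 : g (pt 23) = perm x (pt 23)) (h1 : g (pt 0) = perm x (pt 0)) (h2 : g (pt 1) = perm x (pt 1))
    (h3 : g (pt 2) = perm x (pt 2)) (h4 : g (pt 3) = perm x (pt 3)) :
    ∃ b ∈ m24T5, ∃ c ∈ m24T6, isPerm (mulL x (mulL b c)) = true ∧
      g = perm (mulL x (mulL b c)) := by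
  have hxM := perm_mem_M24 hx hxm
  have hs : (perm x)⁻¹ * g ∈ stabL M24 [23, 0, 1, 2, 3] := by
    rw [mem_stabL]
    refine ⟨M24.mul_mem (M24.inv_mem hxM) hg, ?_⟩
    intro b hb
    simp only [List.mem_cons, List.not_mem_nil, or_false] at hb
    rw [Equiv.Perm.mul_apply]
    rcases hb with rfl | rfl | rfl | rfl | rfl
    · rw [h0]; simp
    · rw [h1]; simp
    · rw [h2]; simp
    · rw [h3]; simp
    · rw [h4]; simp
  obtain ⟨b, hb, c, hc, hp, he⟩ := dec5 hs
  refine ⟨b, hb, c, hc, isPerm_mulL hx hp, ?_⟩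
  rw [perm_mulL hx hp, ← he]
  simp

theorem coset5_prop {x : List ℕ} (hx : isPerm x = true) (hxm : autCheck x = true)
    {P : List ℕ → Bool} (hall : coset5All x P = true) {g : Equiv.Perm GolayPt} (hg : g ∈ M24)
    (h0 : g (pt 23) = perm x (pt 23)) (h1 : g (pt 0) = perm x (pt 0))
    (h2 : g (pt 1) = perm x (pt 1)) (h3 : g (pt 2) = perm x (pt 2)) (h4 : g (pt 3) = perm x (pt 3)) :
    ∃ l, isPerm l = true ∧ g = perm l ∧ P l = true := by
  obtain ⟨b, hb, c, hc, hp, he⟩ := dec5_coset hx hxm hg h0 h1 h2 h3 h4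
  refine ⟨_, hp, he, ?_⟩
  exact List.all_eq_true.mp (List.all_eq_true.mp hall b hb) c hc

/-! ### Elements of small order as lists -/

theorem mulL_eq_idL_of {l : List ℕ} (hl : isPerm l = true) (h : perm l * perm l = 1) :
    mulL l l = idL := by
  apply perm_inj (isPerm_mulL hl hl) isPerm_idL
  rw [perm_mulL hl hl, h, perm_idL]

theorem mulL3_eq_idL_of {l : List ℕ} (hl : isPerm l = true) (h : perm l * perm l * perm l = 1) :
    mulL l (mulL l l) = idL := by
  apply perm_inj (isPerm_mulL hl (isPerm_mulL hl hl)) isPerm_idL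
  rw [perm_mulL hl (isPerm_mulL hl hl), perm_mulL hl hl, perm_idL, ← mul_assoc, h]

/-- The involution test for a list. -/
def isInvL (l : List ℕ) : Bool := mulL l l == idL

/-- The test of order dividing three. -/
def isOrd3L (l : List ℕ) : Bool := mulL l (mulL l l) == idL

theorem inv_class_check : coset4All x02 (fun l => !isInvL l || conjWit W2 l tA || conjWit W2 l tB) = true := by
  decide +kernel

theorem ord3_class_check : coset4All x03 (fun l => !isOrd3L l || conjWit W3 l a3 || conjWit W3 l b3) = true := by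
  decide +kernel

theorem W2_ok : W2.all (fun h => isPerm h && autCheck h) = true := by decide +kernel

theorem W3_ok : W3.all (fun h => isPerm h && autCheck h) = true := by decide +kernel

theorem isPerm_x02 : isPerm x02 = true := by decide +kernel
theorem aut_x02 : autCheck x02 = true := by decide +kernel
theorem isPerm_x03 : isPerm x03 = true := by decide +kernel
theorem aut_x03 : autCheck x03 = true := by decide +kernel
theorem isPerm_tA : isPerm tA = true := by decide +kernel
theorem isPerm_tB : isPerm tB = true := by decide +kernel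
theorem isPerm_a3 : isPerm a3 = true := by decide +kernel
theorem isPerm_b3 : isPerm b3 = true := by decide +kernel
theorem aut_tA : autCheck tA = true := by decide +kernel
theorem aut_tB : autCheck tB = true := by decide +kernel
theorem aut_a3 : autCheck a3 = true := by decide +kernel
theorem aut_b3 : autCheck b3 = true := by decide +kernel

theorem exists_moved_ne {g : Equiv.Perm GolayPt} (hg : g ∈ M24) (hne : g ≠ 1) (s : Finset GolayPt)
    (hs : s.card < 8) : ∃ p, g p ≠ p ∧ p ∉ s := by
  have h := moved_card hg hne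
  by_contra hc
  push Not at hc
  have h2 : (Finset.univ.filter fun p => g p ≠ p) ⊆ s := by
    intro p hp
    exact hc p (Finset.mem_filter.mp hp).2
  have := Finset.card_le_card h2
  omega

/-- Every involution of `M24` is conjugate to one of the two representatives. -/
theorem exists_conj_invol {g : Equiv.Perm GolayPt} (hg : g ∈ M24) (h2 : orderOf g = 2) :
    (∃ k ∈ M24, k * g * k⁻¹ = perm tA) ∨ (∃ k ∈ M24, k * g * k⁻¹ = perm tB) := by
  have hg2 : g ^ 2 = 1 := by rw [← h2]; exact pow_orderOf_eq_one g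
  have hgg : ∀ x, g (g x) = x := fun x => by
    have : (g ^ 2) x = x := by rw [hg2]; rfl
    rwa [pow_two, Equiv.Perm.mul_apply] at this
  have hne : g ≠ 1 := by
    rintro rfl
    simp at h2
  obtain ⟨p, hp, -⟩ := exists_moved_ne hg hne ∅ (by simp)
  obtain ⟨r, hr, hr2⟩ := exists_moved_ne hg hne {p, g p} (Finset.card_le_two.trans_lt (by norm_num))
  simp only [Finset.mem_insert, Finset.mem_singleton, not_or] at hr2
  have h12 : p ≠ g p := hp.symm
  have h13 : p ≠ r := fun h => hr2.1 h.symm
  have h14 : p ≠ g r := fun h => hr2.2 (by rw [h, hgg])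
  have h23 : g p ≠ r := fun h => hr2.2 h.symm
  have h24 : g p ≠ g r := fun h => h13 (g.injective h)
  have h34 : r ≠ g r := hr.symm
  obtain ⟨h, hh, e1, e2, e3, e4⟩ := exists_to_base4 h12 h13 h14 h23 h24 h34
  have hinv1 : h⁻¹ (pt 23) = p := by rw [← e1]; simp
  have hinv2 : h⁻¹ (pt 0) = g p := by rw [← e2]; simp
  have hinv3 : h⁻¹ (pt 1) = r := by rw [← e3]; simp
  have hinv4 : h⁻¹ (pt 2) = g r := by rw [← e4]; simp
  have hM : h * g * h⁻¹ ∈ M24 := M24.mul_mem (M24.mul_mem hh hg) (M24.inv_mem hh)
  have v0 : lk x02 23 = 0 := by decide +kernel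
  have v1 : lk x02 0 = 23 := by decide +kernel
  have v2 : lk x02 1 = 2 := by decide +kernel
  have v3 : lk x02 2 = 1 := by decide +kernel
  obtain ⟨l, hl, he, hP⟩ := coset4_prop isPerm_x02 aut_x02 inv_class_check hM
    (by
      rw [perm_pt isPerm_x02 (by norm_num), v0, Equiv.Perm.mul_apply, Equiv.Perm.mul_apply, hinv1, e2])
    (by
      rw [perm_pt isPerm_x02 (by norm_num), v1, Equiv.Perm.mul_apply, Equiv.Perm.mul_apply, hinv2, hgg,
        e1])
    (by
      rw [perm_pt isPerm_x02 (by norm_num), v2, Equiv.Perm.mul_apply, Equiv.Perm.mul_apply, hinv3, e4])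
    (by
      rw [perm_pt isPerm_x02 (by norm_num), v3, Equiv.Perm.mul_apply, Equiv.Perm.mul_apply, hinv4, hgg,
        e3])
  have hinv : isInvL l = true := by
    have h5 : perm l * perm l = 1 := by
      rw [← he]
      have : (h * g * h⁻¹) * (h * g * h⁻¹) = h * (g ^ 2) * h⁻¹ := by
        rw [pow_two]; simp [mul_assoc]
      rw [this, hg2]
      simp
    simp [isInvL, mulL_eq_idL_of hl h5]
  rw [hinv] at hP
  simp only [Bool.not_true, Bool.false_or, Bool.or_eq_true] at hP
  rcases hP with hP | hP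
  · obtain ⟨k, hk, hk2⟩ := exists_conj_of_wit W2_ok hl isPerm_tA hP
    left
    refine ⟨k * h, M24.mul_mem hk hh, ?_⟩
    rw [← hk2, ← he]
    group
  · obtain ⟨k, hk, hk2⟩ := exists_conj_of_wit W2_ok hl isPerm_tB hP
    right
    refine ⟨k * h, M24.mul_mem hk hh, ?_⟩
    rw [← hk2, ← he]
    group

/-- Every element of order three of `M24` is conjugate to one of the two representatives. -/
theorem exists_conj_ord3 {g : Equiv.Perm GolayPt} (hg : g ∈ M24) (h3 : orderOf g = 3) :
    (∃ k ∈ M24, k * g * k⁻¹ = perm a3) ∨ (∃ k ∈ M24, k * g * k⁻¹ = perm b3) := by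
  have hg3 : g ^ 3 = 1 := by rw [← h3]; exact pow_orderOf_eq_one g
  have hggg : ∀ x, g (g (g x)) = x := fun x => by
    have : (g ^ 3) x = x := by rw [hg3]; rfl
    rwa [pow_succ, pow_two, Equiv.Perm.mul_apply, Equiv.Perm.mul_apply] at this
  have hne : g ≠ 1 := by
    rintro rfl
    simp at h3
  obtain ⟨p, hp, -⟩ := exists_moved_ne hg hne ∅ (by simp)
  have hp2 : g (g p) ≠ g p := fun h => hp (g.injective h)
  have hp3 : g (g p) ≠ p := fun h => hp (by
    have := hggg p
    rw [h] at this
    exact this)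
  obtain ⟨s, hs, hs2⟩ := exists_moved_ne hg hne {p, g p, g (g p)} (Finset.card_le_three.trans_lt (by norm_num))
  simp only [Finset.mem_insert, Finset.mem_singleton, not_or] at hs2
  have hs3 : g s ≠ p := fun h => hs2.2.2 (by rw [← h, hggg])
  have hs4 : g s ≠ g p := fun h => hs2.1 (g.injective h)
  have hs5 : g s ≠ g (g p) := fun h => hs2.2.1 (g.injective h)
  let f : Fin 5 → GolayPt := ![p, g p, g (g p), s, g s]
  have hf : Function.Injective f := by
    intro i j hij
    fin_cases i <;> fin_cases j <;> first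
      | rfl
      | (exfalso; simp only [f] at hij
         first
          | exact hp hij.symm
          | exact hp hij
          | exact hp2 hij
          | exact hp2 hij.symm
          | exact hp3 hij
          | exact hp3 hij.symm
          | exact hs hij
          | exact hs hij.symm
          | exact hs2.1 hij
          | exact hs2.1 hij.symm
          | exact hs2.2.1 hij
          | exact hs2.2.1 hij.symm
          | exact hs2.2.2 hij
          | exact hs2.2.2 hij.symm
          | exact hs3 hij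
          | exact hs3 hij.symm
          | exact hs4 hij
          | exact hs4 hij.symm
          | exact hs5 hij
          | exact hs5 hij.symm)
  obtain ⟨h, hh, he⟩ := exists_to_base hf
  have e1 : h p = pt 23 := he 0
  have e2 : h (g p) = pt 0 := he 1
  have e3 : h (g (g p)) = pt 1 := he 2
  have e4 : h s = pt 2 := he 3
  have e5 : h (g s) = pt 3 := he 4
  have hinv1 : h⁻¹ (pt 23) = p := by rw [← e1]; simp
  have hinv2 : h⁻¹ (pt 0) = g p := by rw [← e2]; simp
  have hinv3 : h⁻¹ (pt 1) = g (g p) := by rw [← e3]; simp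
  have hinv4 : h⁻¹ (pt 2) = s := by rw [← e4]; simp
  have hM : h * g * h⁻¹ ∈ M24 := M24.mul_mem (M24.mul_mem hh hg) (M24.inv_mem hh)
  have v0 : lk x03 23 = 0 := by decide +kernel
  have v1 : lk x03 0 = 1 := by decide +kernel
  have v2 : lk x03 1 = 23 := by decide +kernel
  have v3 : lk x03 2 = 3 := by decide +kernel
  obtain ⟨l, hl, he', hP⟩ := coset4_prop isPerm_x03 aut_x03 ord3_class_check hM
    (by
      rw [perm_pt isPerm_x03 (by norm_num), v0, Equiv.Perm.mul_apply, Equiv.Perm.mul_apply, hinv1, e2])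
    (by
      rw [perm_pt isPerm_x03 (by norm_num), v1, Equiv.Perm.mul_apply, Equiv.Perm.mul_apply, hinv2, e3])
    (by
      rw [perm_pt isPerm_x03 (by norm_num), v2, Equiv.Perm.mul_apply, Equiv.Perm.mul_apply, hinv3,
        hggg, e1])
    (by
      rw [perm_pt isPerm_x03 (by norm_num), v3, Equiv.Perm.mul_apply, Equiv.Perm.mul_apply, hinv4, e5])
  have hinv : isOrd3L l = true := by
    have h5 : perm l * perm l * perm l = 1 := by
      rw [← he']
      have : (h * g * h⁻¹) * (h * g * h⁻¹) * (h * g * h⁻¹) = h * (g ^ 3) * h⁻¹ := by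
        rw [pow_succ, pow_two]; simp [mul_assoc]
      rw [this, hg3]
      simp
    simp [isOrd3L, mulL3_eq_idL_of hl h5]
  rw [hinv] at hP
  simp only [Bool.not_true, Bool.false_or, Bool.or_eq_true] at hP
  rcases hP with hP | hP
  · obtain ⟨k, hk, hk2⟩ := exists_conj_of_wit W3_ok hl isPerm_a3 hP
    left
    refine ⟨k * h, M24.mul_mem hk hh, ?_⟩
    rw [← hk2, ← he']
    group
  · obtain ⟨k, hk, hk2⟩ := exists_conj_of_wit W3_ok hl isPerm_b3 hP
    right
    refine ⟨k * h, M24.mul_mem hk hh, ?_⟩
    rw [← hk2, ← he']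
    group

/-! ### Fixed points -/

theorem perm_fix_iff {l : List ℕ} (hl : isPerm l = true) (p : GolayPt) :
    perm l p = p ↔ lk l (idx p) = idx p := by
  rw [← idx_perm hl]
  exact idx_injective.eq_iff.symm

theorem fix_eq_finOf {l : List ℕ} (hl : isPerm l = true) :
    (Finset.univ.filter fun p => perm l p = p) = finOf (fixMask l) := by
  ext p
  rw [Finset.mem_filter, mem_finOf, fixMask, testBit_maskL, List.mem_filter, perm_fix_iff hl]
  simp only [Finset.mem_univ, true_and, List.mem_range, Nat.beq_eq, idx_lt p]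

theorem fix_card {l : List ℕ} (hl : isPerm l = true) (hb : fixMask l < 2 ^ 24) :
    (Finset.univ.filter fun p => perm l p = p).card = pop (fixMask l) := by
  rw [fix_eq_finOf hl, card_finOf hb]

theorem mem_fix_filter (f : Equiv.Perm GolayPt) (p : GolayPt) :
    p ∈ (Finset.univ.filter fun p => f p = p) ↔ f p = p := by
  simp

theorem fix_filter_conj (k g : Equiv.Perm GolayPt) :
    (Finset.univ.filter fun p => (k * g * k⁻¹) p = p) = k • (Finset.univ.filter fun p => g p = p) := by
  ext p
  rw [Finset.mem_smul_finset, mem_fix_filter]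
  constructor
  · intro h
    refine ⟨k⁻¹ p, (mem_fix_filter _ _).mpr ?_, by simp⟩
    apply k.injective
    simpa using h
  · rintro ⟨q, hq, rfl⟩
    rw [mem_fix_filter] at hq
    simp [hq]

theorem fix_card_conj (k g : Equiv.Perm GolayPt) :
    (Finset.univ.filter fun p => (k * g * k⁻¹) p = p).card = (Finset.univ.filter fun p => g p = p).card := by
  rw [fix_filter_conj, Finset.card_smul_finset]

theorem tA_card : (Finset.univ.filter fun p => perm tA p = p).card = 8 := by
  rw [fix_card isPerm_tA (by decide +kernel)]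
  decide +kernel

theorem tB_card : (Finset.univ.filter fun p => perm tB p = p).card = 0 := by
  rw [fix_card isPerm_tB (by decide +kernel)]
  decide +kernel

theorem a3_card : (Finset.univ.filter fun p => perm a3 p = p).card = 6 := by
  rw [fix_card isPerm_a3 (by decide +kernel)]
  decide +kernel

theorem b3_card : (Finset.univ.filter fun p => perm b3 p = p).card = 0 := by
  rw [fix_card isPerm_b3 (by decide +kernel)]
  decide +kernel

theorem fpf_iff_card (g : Equiv.Perm GolayPt) :
    (∀ p, g p ≠ p) ↔ (Finset.univ.filter fun p => g p = p).card = 0 := by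
  rw [Finset.card_eq_zero, Finset.filter_eq_empty_iff]
  simp

/-- An involution with the fixed-point count of a representative is conjugate to it. -/
theorem conj_tA_of_card {g : Equiv.Perm GolayPt} (hg : g ∈ M24) (h2 : orderOf g = 2)
    (hc : (Finset.univ.filter fun p => g p = p).card ≠ 0) : ∃ k ∈ M24, k * g * k⁻¹ = perm tA := by
  rcases exists_conj_invol hg h2 with h | ⟨k, hk, he⟩
  · exact h
  · exfalso
    apply hc
    rw [← fix_card_conj k, he, tB_card]

theorem conj_tB_of_fpf {g : Equiv.Perm GolayPt} (hg : g ∈ M24) (h2 : orderOf g = 2)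
    (hc : (Finset.univ.filter fun p => g p = p).card = 0) : ∃ k ∈ M24, k * g * k⁻¹ = perm tB := by
  rcases exists_conj_invol hg h2 with ⟨k, hk, he⟩ | h
  · exfalso
    have := fix_card_conj k g
    rw [he, tA_card, hc] at this
    omega
  · exact h

theorem conj_a3_of_card {g : Equiv.Perm GolayPt} (hg : g ∈ M24) (h3 : orderOf g = 3)
    (hc : (Finset.univ.filter fun p => g p = p).card ≠ 0) : ∃ k ∈ M24, k * g * k⁻¹ = perm a3 := by
  rcases exists_conj_ord3 hg h3 with h | ⟨k, hk, he⟩
  · exact h
  · exfalso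
    apply hc
    rw [← fix_card_conj k, he, b3_card]

theorem conj_b3_of_fpf {g : Equiv.Perm GolayPt} (hg : g ∈ M24) (h3 : orderOf g = 3)
    (hc : (Finset.univ.filter fun p => g p = p).card = 0) : ∃ k ∈ M24, k * g * k⁻¹ = perm b3 := by
  rcases exists_conj_ord3 hg h3 with ⟨k, hk, he⟩ | h
  · exfalso
    have := fix_card_conj k g
    rw [he, a3_card, hc] at this
    omega
  · exact h

/-! ### Counting fixed objects -/

theorem ncard_fixed_conj {β : Type*} [MulAction (Equiv.Perm GolayPt) β] {Ω : Set β}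
    {k g : Equiv.Perm GolayPt} (hΩ : ∀ x ∈ Ω, k • x ∈ Ω) (hΩ' : ∀ x ∈ Ω, k⁻¹ • x ∈ Ω) :
    {x | x ∈ Ω ∧ (k * g * k⁻¹) • x = x}.ncard = {x | x ∈ Ω ∧ g • x = x}.ncard := by
  have : {x | x ∈ Ω ∧ (k * g * k⁻¹) • x = x} = (fun y => k • y) '' {x | x ∈ Ω ∧ g • x = x} := by
    ext x
    constructor
    · rintro ⟨h1, h2⟩
      refine ⟨k⁻¹ • x, ⟨hΩ' x h1, ?_⟩, by simp⟩
      rw [mul_smul, mul_smul] at h2
      rw [← mul_smul, mul_smul]
      apply (MulAction.injective k)
      simpa using h2
    · rintro ⟨y, ⟨h1, h2⟩, rfl⟩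
      refine ⟨hΩ y h1, ?_⟩
      simp only [mul_smul, inv_smul_smul, h2]
  rw [this]
  exact Set.InjOn.ncard_image (fun a _ b _ h => MulAction.injective k h)

theorem ncard_fixed_list {α β : Type*} (toObj : α → β) (ΩL : List α) (Ω : Set β)
    (hΩ : ∀ x, x ∈ Ω ↔ ∃ a ∈ ΩL, toObj a = x) (hnd : (ΩL.map toObj).Nodup) (P : β → Prop)
    (p : α → Bool) (hp : ∀ a ∈ ΩL, P (toObj a) ↔ p a = true) :
    {x | x ∈ Ω ∧ P x}.ncard = (ΩL.filter p).length := by
  classical
  have hsub : ((ΩL.filter p).map toObj).Nodup :=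
    hnd.sublist (List.Sublist.map _ List.filter_sublist)
  have : {x | x ∈ Ω ∧ P x} = (((ΩL.filter p).map toObj).toFinset : Finset β) := by
    ext x
    simp only [Set.mem_ofPred_eq, hΩ, Finset.mem_coe, List.mem_toFinset, List.mem_map, List.mem_filter]
    constructor
    · rintro ⟨⟨a, ha, rfl⟩, h⟩
      exact ⟨a, ⟨ha, (hp a ha).mp h⟩, rfl⟩
    · rintro ⟨a, ⟨ha, h⟩, rfl⟩
      exact ⟨⟨a, ha, rfl⟩, (hp a ha).mpr h⟩
  rw [this, Set.ncard_coe_finset, List.toFinset_card_of_nodup hsub, List.length_map]

theorem fixed_mask_iff {l : List ℕ} (hl : isPerm l = true) {m : ℕ} (hm : m < 2 ^ 24) :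
    perm l • finOf m = finOf m ↔ Nat.beq (pull l m) m = true := by
  rw [Nat.beq_eq, ← finOf_eq_iff (pull_lt hl m) hm, ← finOf_pull hl]
  constructor
  · intro h
    conv_lhs => rw [← h]
    simp
  · intro h
    conv_lhs => rw [← h]
    simp

theorem fixed_fam_iff {l : List ℕ} (hl : isPerm l = true) {L : List ℕ} (hL : bdB L = true) :
    perm l • fam L = fam L ↔ eqSetB (L.map (pull l)) L = true := by
  constructor
  · intro h
    apply eqSetB_of_fam_eq _ hL
    · rw [← smul_fam hl]
      conv_lhs => rw [← h]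
      simp
    · rw [bdB_iff]
      intro m hm
      obtain ⟨k, _, rfl⟩ := List.mem_map.mp hm
      exact pull_lt hl k
  · intro h
    have h2 := smul_fam hl L
    rw [fam_eq_of_eqSetB h] at h2
    conv_lhs => rw [← h2]
    simp

theorem octads_iff (x : Finset GolayPt) : x ∈ octads ↔ ∃ a ∈ octadL, finOf a = x := by
  rw [mem_octads_iff]
  simp only [eq_comm]

theorem dodecads_iff (x : Finset GolayPt) : x ∈ dodecads ↔ ∃ a ∈ dodecadL, finOf a = x := by
  rw [mem_dodecads_iff]
  simp only [eq_comm]

theorem octadL_map_nodup : (octadL.map finOf).Nodup := by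
  refine List.Nodup.map_on ?_ octadL_nodup
  intro a ha b hb h
  exact finOf_injOn (octadL_lt ha) (octadL_lt hb) h

theorem dodecadL_map_nodup : (dodecadL.map finOf).Nodup := by
  refine List.Nodup.map_on ?_ dodecadL_nodup
  intro a ha b hb h
  exact finOf_injOn (dodecadL_lt ha) (dodecadL_lt hb) h

/-- Number of fixed octads of a list permutation. -/
theorem ncard_fix_octads {l : List ℕ} (hl : isPerm l = true) :
    {o | o ∈ octads ∧ perm l • o = o}.ncard = (octadL.filter fun m => Nat.beq (pull l m) m).length :=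
  ncard_fixed_list finOf octadL octads octads_iff octadL_map_nodup _ _
    (fun _ ha => fixed_mask_iff hl (octadL_lt ha))

theorem ncard_fix_dodecads {l : List ℕ} (hl : isPerm l = true) :
    {o | o ∈ dodecads ∧ perm l • o = o}.ncard =
      (dodecadL.filter fun m => Nat.beq (pull l m) m).length :=
  ncard_fixed_list finOf dodecadL dodecads dodecads_iff dodecadL_map_nodup _ _
    (fun _ ha => fixed_mask_iff hl (dodecadL_lt ha))

theorem ncard_fix_sextets {l : List ℕ} (hl : isPerm l = true) :
    {o | o ∈ sextets ∧ perm l • o = o}.ncard =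
      (sextetL.filter fun L => eqSetB (L.map (pull l)) L).length :=
  ncard_fixed_list fam sextetL sextets (fun _ => mem_sextets_iff) sextetL_map_nodup _ _
    (fun _ ha => fixed_fam_iff hl (sextetL_bd ha))

theorem ncard_fix_trios {l : List ℕ} (hl : isPerm l = true) :
    {o | o ∈ trios ∧ perm l • o = o}.ncard =
      (trioL.filter fun L => eqSetB (L.map (pull l)) L).length :=
  ncard_fixed_list fam trioL trios (fun _ => mem_trios_iff) trioL_map_nodup _ _
    (fun _ ha => fixed_fam_iff hl (trioL_bd ha))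

/-- Transport of the number of fixed objects to a conjugate. -/
theorem ncard_fix_transport {β : Type*} [MulAction (Equiv.Perm GolayPt) β] {Ω : Set β}
    (hΩ : ∀ g ∈ M24, ∀ x ∈ Ω, g • x ∈ Ω) {k g g' : Equiv.Perm GolayPt} (hk : k ∈ M24)
    (he : k * g * k⁻¹ = g') :
    {x | x ∈ Ω ∧ g • x = x}.ncard = {x | x ∈ Ω ∧ g' • x = x}.ncard := by
  rw [← he]
  exact (ncard_fixed_conj (hΩ k hk) (hΩ k⁻¹ (M24.inv_mem hk))).symm

theorem octads_inv : ∀ g ∈ M24, ∀ x ∈ octads, g • x ∈ octads := fun _ hg _ hx => smul_octad hg hx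
theorem dodecads_inv : ∀ g ∈ M24, ∀ x ∈ dodecads, g • x ∈ dodecads := fun _ hg _ hx => smul_dodecad hg hx
theorem sextets_inv : ∀ g ∈ M24, ∀ x ∈ sextets, g • x ∈ sextets := fun _ hg _ hx => smul_sextet hg hx
theorem trios_inv : ∀ g ∈ M24, ∀ x ∈ trios, g • x ∈ trios := fun _ hg _ hx => smul_trio hg hx

end Cfsg.Agent.Lib.M24X
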