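import Cfsg.Agent.Lib.M24X.OctadOrbits

set_option autoImplicit false
set_option maxRecDepth 100000

namespace Cfsg.Agent.Lib.M24X

def dpGens : List (List ℕ) := [
  [21,0,2,3,18,7,4,20,6,9,1,8,13,5,22,14,15,17,11,10,12,19,23,16],
  [1,6,2,18,4,12,10,15,21,16,3,0,23,22,9,14,5,20,19,11,13,8,17,7],
  [22,17,5,16,23,8,9,10,14,1,20,15,2,19,6,3,4,18,12,13,11,7,0,21],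
  [14,16,15,13,12,11,23,19,20,4,22,7,1,6,10,0,2,3,9,17,21,5,18,8]]
def d0 : ℕ := 2887007
def d1 : ℕ := 13890208
def dGensM : List (List ℕ) := [
  [13,18,20,23,17,10,6,5,12,19,21,3,14,1,0,15,22,11,9,2,8,4,7,16],
  [8,5,11,23,18,7,16,13,19,22,15,0,6,14,2,4,12,21,1,9,10,20,3,17],
  [16,5,23,15,19,9,2,14,3,18,17,0,8,6,7,1,20,10,22,13,4,12,21,11]]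
def dOpsM : List ℕ := [
  1,1,1,1,1,1,1,1,0,2,0,0,2,0,3,0,0,2,1,3,0,0,0,3,1,0,2,3,0,0,3,3,0,0,0,0,2,1,1,0,2,1,0,0,0,2,1,
  1,0,0,2,1,0,3,0,0,0,3,1,1,0,3,0,0,2,3,0,0,3,0,0,0,3,1,2,1,3,0,0,0,3,1,0,2,0,3,0,0,0,2,2,3,0,0,
  3,2,1,0,0,0,0,3,1,0,2,1,3,0,0,2,0,0,3,0,0,0,0,2,1,1,1,0,0,2,1,2,2,0,0,3,3,0,0,0,2,1,0,0,3,0,0,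
  3,1,1,0,0,2,1,0,3,0,0,0,0,2,1,1,0,3,0,0,2,3,2,0,0,0,3,1,1,0,2,0,0,3,0,0,0,3,1,2,3,1,0,0,0,3,3,
  0,0,0,2,1,1,0,3,0,0,2,1,0,0,3,1,0,0,0,3,1,3,0,0,2,2,0,0,3,1,0,2,0,3,0,0,0,0,0,3,1,2,1,3,3,0,0,
  0,2,3,0,0,3,1,1,0,0,2,0,3,0,0,0,3,1,1,0,3,0,0,2,1,0,2,0,3,0,0,0,0,2,1,1,2,0,0,2,1,0,2,0,0,3,1,
  3,0,0,0,0,2,1,0,3,1,0,2,0,0,0,3,1,2,0,0,2,1,0,2,0,0,3,1,0,2,0,0,0,0,3,3,2,0,3,0,0,0,0,0,2,1,1,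
  1,2,1,0,2,0,0,3,0,0,2,3,2,3,0,0,3,2,0,0,0,0,3,1,2,0,3,0,0,3,1,0,0,0,0,2,2,1,1,0,0,2,0,0,3,1,2,
  0,0,3,1,0,3,0,0,0,0,3,1,1,1,0,2,0,3,3,0,0,0,2,1,0,3,0,0,3,1,2,0,0,2,0,3,0,0,0,2,1,0,2,2,0,0,3,
  1,0,3,0,0,0,3,3,2,0,0,0,0,0,2,1,1,1,2,0,3,0,0,2,3,3,0,0,0,0,2,1,0,2,3,0,0,0,3,1,1,0,3,0,0,2,1,
  0,0,0,0,2,1,2,1,0,3,0,0,3,0,0,2,3,3,0,0,0,3,1,1,0,3,3,0,0,0,2,3,0,0,0,0,3,1,1,0,2,0,3,3,3,0,0,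
  0,0,3,1,2,0,0,0,0,0,3,1,1,3,2,0,3,0,0,0,2,1,0,2,2,0,3,0,0,3,1,0,3,0,0,0,0,2,1,1,0,2,0,3,0,0,2,
  1,1,0,2,0,0,0,3,1,2,0,3,0,0,0,0,3,1,2,0,3,1,0,2,0,3,0,0,0,2,0,3,2,3,0,0,3,2,2,0,0,0,0,0,0,0,0,
  2,1,1,1,1,1,3,2,0,3,0,0,0,2,0,3,3,0,0,0,2,0,3,1,1,0,0,3,0,0,0,2,1,2,1,0,0,0,2,1,1,0,2,0,0,3,1,
  0,0,0,3,1,1,0,2,0,0,3,3,0,0,0,0,3,1,1,1,0,2,1,0,0,0,2,2,0,0,3,1,1,0,0,2,0,3,0,0,0,2,2,0,3,2,0,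
  0,0,3,1,0,2,1,3,0,0,3,0,0,3,1,0,0,0,0,0,2,1,1,1,3,0,0,3,0,0,3,1,3,0,0,3,1,0,3,0,0,0,0,2,1,2,0,
  0,2,1,0,3,1,0,0,0,3,1,0,2,0,0,0,3,1,2,2,0,0,3,2,0,0,0,2,2,1,1,0,0,2,0,3,0,0,0,3,1,2,0,0,2,0,3,
  1,0,3,0,0,0,0,0,3,1,1,1,1,0,2,0,0,2,0,3,0,0,3,1,2,0,0,3,2,0,0,0,0,2,1,1,0,3,1,0,2,0,3,0,0,0,2,
  3,0,0,3,1,0,2,1,0,0,3,2,1,0,0,0,0,0,3,1,1,1,0,3,0,0,2,0,3,2,0,3,0,0,0,2,1,3,0,0,3,1,3,0,0,3,0,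
  0,0,3,1,0,2,0,0,0,0,0,2,1,1,1,0,2,1,0,2,1,0,0,3,0,0,3,1,1,0,3,0,0,3,0,0,0,2,2,1,1,0,3,3,0,0,0,
  3,2,0,3,0,0,0,3,1,0,2,1,0,0,0,0,3,1,1,1,0,2,0,3,0,0,2,0,0,2,1,1,0,2,0,3,0,0,2,1,0,2,0,3,0,0,0,
  3,1,0,2,1,0,0,3,2,0,0,0,0,0,2,1,2,1,1,0,2,0,3,0,0,2,0,0,3,1,2,0,0,2,0,0,0,2,1,1,3,0,0,0,2,1,3,
  0,0,2,1,0,3,0,0,3,1,0,2,0,3,3,0,0,0,0,3,1,0,2,2,0,3,0,0,3,3,0,0,0,0,3,1,3,0,0,2,1,1,0,0,2,3,0,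
  0,3,1,0,2,3,0,0,0,0,3,1,2,0,0,3,1,3,0,0,2,0,3,0,0,0,0,0,3,1,1,1,1,0,2,0,3,0,0,2,0,3,1,1,0,0,2,
  0,0,0,2,1,2,0,3,0,0,2,0,3,0,0,3,1,1,0,2,0,0,0,0,3,1,0,2,1,3,0,0,2,0,3,1,1,0,0,0,0,3,1,1,0,2,0,
  3,0,0,3,3,0,0,0,0,0,0,3,1,2,1,1,1,2,0,0,3,0,0,3,2,0,0,0,2,1,0,3,1,0,0,0,3,3,1,0,3,0,0,0,0,3,1,
  1,1,0,0,2,1,0,2,1,0,0,0,3,1,0,3,0,0,0,2,1,1,0,2,1,0,0,0,0,3,1,1,0,3,0,0,2,2,0,0,0,0,0,2,1,1,1,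
  0,3,2,0,3,2,0,0,0,0,2,1,1,0,0,2,0,3,1,2,0,3,0,0,3,0,0,0,3,1,3,0,0,3,1,0,0,0,0,2,1,2,3,1,0,0,0,
  3,0,0,2,1,0,2,2,0,3,0,0,0,3,2,0,3,0,0,0,3,1,3,3,0,0,0,2,0,0,0,3,1,1,1,1,0,3,0,0,3,0,0,2,1,3,0,
  0,2,1,1,0,0,2,0,0,0,3,1,1,1,0,0,2,0,0,0,0,2,1,1,0,2,3,0,0,3,0,0,2,1,0,2,2,0,3,0,0,3,1,0,2,0,0,
  0,3,1,3,0,0,2,2,0,3,1,0,0,0,3,2,0,3,0,0,0,0,3,1,1,2,0,0,2,3,0,0,0,2,1,0,2,0,0,3,1,2,0,3,0,0,3,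
  0,0,0,0,0,0,3,1,1,1,1,3,1,0,3,0,0,0,2,1,2,0,0,2,1,0,2,0,0,3,2,2,0,0,0,0,3,1,0,2,1,3,0,0,2,0,3,
  0,0,0,0,2,1,3,1,0,3,0,0,0,2,1,3,0,0,3,1,0,2,0,0,0,3,1,0,2,2,3,0,0,0,3,3,0,0,0,0,3,1,1,1,0,0,2,
  1,0,3,0,0,3,0,0,2,2,3,1,0,0,0,3,2,0,3,3,0,0,0,0,3,1,2,3,0,0,0,2,3,0,0,3,3,2,0,0,0,0,0,0,2,1,1,
  1,1,0,0,2,1,0,0,3,1,0,2,1,0,0,0,0,2,1,0,2,3,0,0,3,2,0,0,0,3,1,0,3,2,0,0,0,0,2,1,3,1,0,0,0,2,1,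
  3,0,0,2,1,0,2,1,0,0,0,3,0,0,3,1,0,2,0,3,0,0,0,3,1,1,1,0,3,0,0,2,2,0,0,3,2,0,3,0,0,0,2,1,1,0,3,
  0,0,2,2,0,0,0,3,2,0,0,0,0,3,1,1,2,0,3,1,0,0,0,2,1,2,0,3,1,0,0,0,2,3,2,0,0,0,3,1,1,0,0,2,0,0,0,
  3,2,3,0,0,0,0,2,1,1,2,0,0,3,0,0,2,1,0,0,3,2,2,0,0,3,1,0,2,0,0,0,0,3,1,1,2,0,0,2,0,0,2,2,3,0,0,
  3,0,0,3,1,0,2,1,0,3,0,0,3,1,0,2,0,0,0,0,0,0,2,1,1,1,1,0,3,2,0,3,0,0,0,3,1,3,0,0,3,3,0,0,0,0,2,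
  1,1,1,2,0,0,0,0,2,1,2,0,0,3,3,0,0,0,3,1,0,2,1,0,0,0,0,3,1,1,0,0,2,3,2,0,3,0,0,0,3,3,1,0,3,0,0,
  0,0,0,2,1,1,2,2,0,0,3,2,0,0,0,2,2,2,0,0,3,0,0,3,2,1,0,3,0,0,0,0,2,1,1,0,2,2,0,0,3,3,1,0,0,0,0,
  2,1,1,0,3,0,0,2,0,0,3,1,2,1,0,0,0,3,1,0,0,0,0,0,3,1,1,1,0,2,0,0,2,2,0,0,3,1,0,0,0,2,1,2,1,0,0,
  3,1,0,0,0,2,1,0,2,3,0,0,3,1,0,0,0,0,3,1,1,1,0,0,2,0,3,2,0,0,0,2,1,1,2,0,0,3,0,0,2,0,0,3,2,3,0,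
  0,3,1,0,2,0,0,0,0,0,0,3,1,1,1,1,1,0,2,0,0,2,1,0,0,0,3,1,0,3,2,0,0,0,0,2,1,1,0,2,2,0,0,3,3,0,0,
  0,3,1,0,2,1,0,2,0,3,0,0,3,0,0,0,3,1,1,0,2,0,0,2,0,3,1,1,0,0,0,0,0,2,1,2,2,2,0,0,0,3,1,0,2,0,3,
  2,0,0,0,0,2,1,1,0,2,2,0,0,0,2,1,2,0,3,0,0,2,3,0,0,3,1,0,0,0,0,3,1,0,2,3,1,0,2,0,0,0,3,1,0,2,1,
  0,0,3,0,0,0,0,3,1,1,3,0,0,2,2,1,0,0,0,0,2,1,2,1,1,0,0,0,0,2,1,0,0,3,1,0,2,3,0,0,3,1,0,0,0,0,3,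
  1,1,3,0,0,3,3,0,0,0,2,1,1,0,0,2,1,0,0,3,3,0,0,0,3,1,3,0,0,0,0,0,0,0,0,2,1,1,1,1,1,0,2,3,3,0,0,
  0,3,1,0,2,1,0,2,0,3,0,0,0,0,2,1,1,3,0,0,2,1,0,3,0,0,3,2,0,0,0,2,0,3,2,2,0,0,3,1,0,3,0,0,0,0,3,
  1,1,0,3,0,0,2,2,2,2,0,0,3,0,0,3,0,0,3,2,3,0,0,0,0,0,2,1,1,1,3,0,0,2,3,0,0,3,1,0,0,0,2,1,2,0,0,
  2,0,0,3,1,1,0,0,3,0,0,0,2,1,1,0,3,0,0,2,1,1,0,0,2,0,0,3,1,0,2,1,0,2,0,0,0,0,3,1,1,0,2,0,3,2,0,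
  3,0,0,0,2,1,0,0,3,0,0,0,0,2,1,1,1,1,1,0,0,3,3,0,0,0,2,1,1,0,3,0,0,3,3,0,0,0,3,2,1,0,3,2,0,0,0,
  3,1,0,2,1,0,0,0,0,0,2,1,1,0,2,1,0,0,3,0,0,2,2,1,0,0,3,0,0,3,1,1,0,0,2,0,3,2,0,0,0,0,3,1,1,3,0,
  0,2,1,0,2,0,0,3,2,0,0,0,2,1,1,0,0,3,0,0,3,1,3,0,0,3,2,0,0,0,0,0,2,2,1,1,1,0,2,0,3,0,0,3,2,0,0,
  0,2,1,1,0,3,0,0,2,2,0,0,3,1,0,3,0,0,0,3,1,1,0,2,0,0,3,2,0,0,0,0,3,1,1,0,3,0,0,2,1,0,2,0,3,3,0,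
  0,0,3,3,2,0,0,0,0,0,3,1,1,1,1,0,2,0,0,2,1,0,0,3,3,0,0,0,2,1,1,0,3,0,0,0,3,0,0,2,2,1,0,2,0,3,0,
  0,3,2,1,0,0,0,0,3,1,1,0,2,1,0,3,0,0,3,1,0,2,0,0,0,2,1,0,3,0,0,0,0,0,3,1,1,1,2,0,3,2,0,0,0,2,2,
  0,0,3,1,3,0,0,0,0,2,1,1,0,3,0,0,2,1,2,0,3,0,0,0,3,2,0,0,0,3,1,1,0,0,3,1,1,0,2,0,3,0,0,0,0,0,2,
  1,0,2,1,1,2,0,3,0,0,3,2,0,0,0,2,2,3,1,0,0,0,3,0,0,3,0,0,3,1,0,2,2,2,0,0,3,2,0,0,0,3,2,1,0,0,0,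
  0,0,3,1,1,2,0,3,2,1,0,0,3,0,0,0,2,2,0,3,0,0,3,1,2,0,3,0,0,2,3,1,0,0,0,0,0,2,1,1,0,3,0,0,2,1,0,
  2,0,3,1,0,2,0,0,0,3,1,0,2,3,2,0,0,0,3,0,0,0,3,1,1,0,3,1,0,0,0,2,1,0,3,0,0,3,1,1,0,0,3,3,0,0,0,
  0,0,0,0,2,1,1,1,1,1,2,0,0,0,2,1,0,2,0,0,3,0,0,2,1,1,1,0,0,3,1,0,2,0,0,0,2,2,0,3,0,0,3,3,3,0,0,
  0,0,3,1,0,3,3,3,0,0,0,0,0,2,1,1,2,3,0,0,0,2,1,1,0,0,2,2,0,0,0,3,1,0,2,0,3,3,0,0,0,0,2,1,1,0,3,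
  2,0,0,0,3,1,2,0,0,0,0,3,1,1,2,0,0,2,0,0,2,3,2,0,3,0,0,0,3,0,0,0,3,1,3,3,0,0,0,2,1,2,2,0,0,3,0,
  0,2,1,0,2,0,3,1,1,0,0,0,0,3,3,0,0,0,3,1,2,1,0,0,3,2,0,0,0,3,1,0,2,3,0,0,3,3,0,0,0,0,0,0,2,1,1,
  1,2,2,0,0,0,2,2,0,3,0,0,3,1,0,2,0,3,0,0,0,2,1,2,0,0,3,1,0,3,1,0,2,0,0,0,0,3,1,1,1,0,0,3,1,0,0,
  0,2,2,1,0,2,0,0,0,3,1,0,2,2,0,0,0,0,0,2,1,2,1,3,0,0,3,0,0,3,1,3,0,0,3,1,0,2,0,0,0,0,2,1,1,1,1,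
  0,0,0,2,0,0,2,1,3,0,0,3,1,0,2,0,3,0,0,0,3,2,0,3,2,0,0,0,0,3,1,0,2,2,0,0,3,2,3,0,0,0,0,0,3,1,1,
  3,1,0,0,0,2,1,0,3,2,3,0,0,3,0,0,0,3,1,0,2,1,0,2,0,0,0,0,2,2,1,1,0,0,2,3,0,0,3,0,0,0,3,1,1,0,2,
  0,3,0,0,2,1,0,3,3,0,0,0,0,0,0,3,1,1,1,2,2,0,0,3,1,0,0,0,3,1,0,0,0,2,1,2,1,0,2,0,3,0,0,3,3,0,0,
  0,2,1,1,0,2,0,0,2,2,0,0,0,3,1,0,2,3,0,0,0,0,3,1,3,0,0,0,0,2,1,1,2,0,0,2,3,0,0,3,1,3,0,0,2,2,0,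
  0,3,0,0,0,2,1,1,2,0,3,0,0,2,1,0,2,0,0,3,1,0,2,0,3,0,0,0,2,3,3,0,0,0,0,3,1,2,0,0,2,2,0,0,3,2,2,
  0,0,0,0,0,3,1,1,1,3,0,0,3,0,0,3,1,2,0,0,2,3,0,0,0,0,2,1,2,1,0,0,0,2,3,0,0,3,2,0,0,0,3,1,1,2,0,
  0,2,2,0,3,0,0,0,2,1,1,0,0,3,2,0,0,0,3,1,1,0,0,2,3,0,0,3,1,0,2,0,0,0,0,0,0,0,3,1,1,3,2,3,0,0,3,
  1,3,0,0,0,0,0,2,1,1,1,2,0,0,2,3,2,0,0,0,0,2,1,3,0,0,2,0,0,3,0,0,2,1,3,0,0,2,1,0,2,0,3,0,0,3,1,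
  2,0,0,2,3,0,0,0,0,3,1,3,3,0,0,0,2,1,0,2,0,3,0,0,0,0,3,1,1,1,3,1,0,0,0,2,0,3,0,0,2,3,1,0,2,0,0,
  0,3,2,0,3,3,0,0,0,0,0,0,2,1,1,2,1,0,3,0,0,3,1,0,2,0,0,0,2,1,1,1,0,0,3,0,0,2,3,3,0,0,0,3,3,0,0,
  0,3,1,1,1,0,0,2,1,0,0,0,2,2,0,3,0,0,3,1,1,0,2,0,3,0,0,2,0,0,0,0,2,1,1,2,1,0,0,3,3,0,0,0,3,2,1,
  0,0,0,0,2,1,2,0,3,0,0,2,1,0,0,0,3,2,1,0,2,1,0,0,3,0,0,3,1,0,3,1,0,0,0,0,0,3,1,1,1,0,2,2,0,0,0,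
  2,3,0,0,0,2,1,1,1,0,0,2,0,3,0,0,2,1,2,0,0,0,3,1,1,2,0,0,0,2,2,0,0,3,0,0,0,3,1,1,0,0,3,1,0,2,1,
  0,0,0,0,0,0,3,1,2,2,2,0,0,3,2,0,3,1,0,0,0,0,3,1,2,2,0,0,0,2,2,0,0,3,1,3,0,0,3,2,0,3,0,0,0,0,0,
  2,1,2,3,0,0,3,1,2,0,0,2,0,3,0,0,0,2,1,1,2,0,0,2,2,0,3,0,0,3,0,0,3,1,0,0,0,3,1,1,3,0,0,2,1,0,2,
  0,0,3,1,0,0,0,2,2,0,3,0,0,0,0,3,1,1,2,0,0,2,1,2,0,0,2,0,0,3,1,0,0,0,2,2,1,0,2,3,0,0,3,0,0,3,2,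
  3,0,0,0,0,3,1,1,0,3,0,0,2,2,0,3,3,0,0,0,3,1,0,2,0,3,0,0,0,0,0,0,0,3,1,1,1,1,3,2,0,3,0,0,0,2,1,
  2,0,0,2,2,0,3,2,0,0,0,3,1,0,3,2,0,0,0,0,3,2,3,0,0,3,1,0,0,0,0,2,1,1,1,2,0,0,2,0,0,2,3,1,0,0,0,
  3,1,0,2,0,3,0,0,0,2,1,2,3,0,0,0,2,1,3,0,0,2,0,0,3,0,0,3,1,0,2,2,0,3,0,0,3,1,0,3,0,0,0,0,3,1,1,
  2,0,3,1,0,2,0,0,0,2,3,3,0,0,0,3,1,0,2,2,0,0,3,0,0,0,2,1,2,0,0,2,1,0,2,3,0,0,3,0,0,3,1,0,2,0,0,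
  0,3,1,1,0,3,3,0,0,0,2,1,0,2,0,0,3,0,0,0,0,2,1,1,1,1,3,0,0,0,3,0,0,2,1,1,3,0,0,3,0,0,3,1,0,0,0,
  3,1,1,1,0,0,0,2,2,2,0,3,0,0,3,2,0,0,0,3,1,1,0,0,2,0,0,0,0,2,1,1,0,2,1,0,3,0,0,3,1,1,0,0,2,0,0,
  0,2,1,1,0,2,3,0,0,3,0,0,2,1,0,2,0,0,0,3,1,2,0,0,2,1,0,3,0,0,3,1,0,2,0,3,0,0,0,0,3,1,1,2,0,0,2,
  1,0,2,0,3,0,0,3,2,0,0,0,2,1,0,3,2,0,0,0,3,1,1,0,2,1,0,0,0,2,2,3,0,0,3,0,0,0,0,0,3,1,1,1,1,0,2,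
  0,3,0,0,2,0,3,2,0,3,0,0,0,2,1,1,0,3,0,0,2,1,2,0,0,2,2,0,0,0,3,2,1,0,0,0,0,3,1,2,3,0,0,3,0,0,2,
  0,0,0,2,2,1,1,0,0,2,0,3,3,2,0,0,0,0,3,1,1,2,0,0,0,2,2,0,0,3,0,0,0,3,1,1,2,3,0,0,0,2,1,3,0,0,0,
  3,0,0,2,1,3,3,0,0,0,2,2,2,0,3,0,0,0,3,3,0,0,0,3,1,3,3,0,0,0,2,1,0,2,1,0,0,0,0,0,0,0,2,1,1,1,1,
  2,1,0,0,0,2,1,1,0,0,3,2,0,0,0,3,0,0,2,1,1,2,0,3,0,0,3,2,0,0,0,3,2,2,0,0,0,0,3,1,2,0,3,0,0,2,1,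
  2,0,0,2,3,0,0,0,3,1,1,0,0,3,2,0,0,0,0,0,3,1,1,1,0,0,2,1,1,0,2,0,0,3,0,0,3,2,0,0,0,2,2,1,1,0,2,
  0,0,0,3,0,0,3,1,1,0,3,1,0,3,0,0,0,3,2,0,0,0,0,0,2,1,1,1,1,1,0,0,3,0,0,2,1,0,2,2,0,0,0,3,2,0,0,
  0,2,1,1,0,0,2,0,3,1,1,0,0,2,0,3,0,0,0,0,2,2,1,1,1,0,0,3,0,0,2,1,0,2,0,3,0,0,0,3,1,1,2,0,0,2,0,
  3,2,0,0,0,2,2,0,0,3,0,0,0,3,1,1,1,1,0,0,2,0,0,2,1,2,0,0,2,0,0,3,0,0,2,2,0,3,1,0,2,0,0,0,3,1,0,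
  3,2,0,3,3,0,0,0,0,0,0,3,1,1,1,2,0,0,2,1,1,0,3,0,0,0,3,1,0,3,0,0,0,2,1,1,0,2,0,0,3,1,0,0,0,0,2,
  1,1,0,2,0,3,1,0,0,0,2,1,1,0,3,1,0,0,0,2,3,0,0,3,3,0,0,0,3,2,2,0,3,3,0,0,0,3,1,0,0,0,0,3,1,1,1,
  0,0,2,2,3,0,0,3,2,0,3,0,0,0,3,0,0,2,1,0,2,1,0,0,0,3,1,1,0,3,2,0,0,0,3,1,0,2,0,3,1,0,3,0,0,0,0,
  0,0,0,3,1,1,1,1,0,2,1,3,0,0,2,1,0,0,0,3,1,2,0,0,3,0,0,0,2,1,2,0,0,2,0,3,1,0,2,0,3,3,0,0,0,0,3,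
  1,1,0,2,0,3,3,0,0,0,3,2,0,3,0,0,0,0,3,1,2,2,0,0,3,2,1,0,0,3,1,0,0,0,0,2,1,3,0,0,2,3,0,0,3,1,0,
  0,0,3,1,1,2,0,0,3,0,0,2,1,1,0,0,2,0,3,0,0,3,1,0,0,0,0,0,2,1,2,1,1,3,0,0,2,0,0,3,0,0,3,1,0,2,1,
  3,0,0,2,0,0,3,1,3,0,0,3,0,0,0,0,2,1,1,1,1,0,0,0,3,2,0,0,0,2,1,2,0,0,2,3,0,0,3,1,0,3,0,0,0,3,1,
  0,2,1,0,2,2,0,0,3,0,0,3,3,0,0,0,0,3,1,1,1,2,0,0,0,2,2,2,0,0,3,0,0,3,2,0,3,0,0,0,2,2,2,1,0,0,0,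
  3,1,0,0,0,0,0,3,1,1,1,3,0,0,3,1,0,0,0,3,1,2,0,3,0,0,2,2,0,3,0,0,3,0,0,0,2,1,1,3,0,0,2,3,0,0,3,
  1,0,0,0,2,1,1,0,2,0,0,3,2,0,0,0,3,1,0,2,0,3,1,0,0,0,0,3,1,2,3,0,0,3,2,0,3,0,0,0,2,1,3,1,0,0,0,
  2,0,3,2,0,0,0,3,1,2,0,3,0,0,3,2,0,3,2]
def dPM : ℕ := 1658945

def dpRoot0 : List ℕ := [
  8388643,5505088,33168,594944,2107904,147468]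

def dpOps0 : List ℕ := [
  1,1,1,1,2,0,4,3,0,0,0,2,1,0,3,0,4,4,0,0,0,3,3,0,4,3,0,0,0,4,1,0,0,0,2,1,1,0,3,0,0,2,2,4,0,0,4,
  0,0,3,1,0,2,0,3,0,4,0,0,0,3,1,3,0,4,1,0,3,0,0,0,2,1,0,2,0,4,4,0,0,0,3,1,0,4,0,0,4,2,0,3,0,4,0,
  0,0,4,1,0,2,2,0,3,0,4,0,0,3,1,0,4,0,0,4,2,0,0,0,0,2,1,1,3,3,0,0,4,4,0,0,0,3,1,0,3,2,0,0,0,0,2,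
  1,3,1,0,2,0,0,4,0,0,2,2,0,0,3,4,0,0,4,1,0,3,0,0,0,3,1,4,0,0,2,2,0,0,3,3,0,0,4,0,0,4,1,1,0,2,0,
  3,0,0,2,3,0,0,3,1,2,0,0,0,0,0,3,1,1,1,0,2,0,4,0,0,2,1,0,3,0,4,0,0,3,2,0,3,0,0,4,3,4,0,0,4,0,0,
  0,3,1,2,0,0,2,1,0,0,3,2,0,3,0,0,4,1,0,4,0,0,0,4,2,3,0,0,3,1,0,4,0,0,4,1,0,3,0,0,0,0,4,1,1,2,0,
  0,3,2,0,0,4,1,0,4,0,0,0,3,1,1,0,0,2,2,0,0,3,2,0,0,4,1,0,3,0,4,0,0,0,0,0,2,1,1,1,1,0,4,0,0,2,2,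
  0,0,4,0,0,2,1,3,0,0,2,2,0,0,3,2,0,0,4,2,0,4,0,0,0,3,2,0,4,1,0,3,0,0,0,4,1,3,0,4,0,0,3,2,0,3,0,
  4,0,0,0,0,2,1,1,4,0,0,2,3,0,0,3,3,0,0,0,2,2,4,1,0,0,0,3,0,4,1,0,3,0,0,0,3,2,0,4,4,0,0,0,4,1,1,
  0,3,0,0,2,2,0,3,0,0,4,2,0,3,0,0,0,0,3,1,2,0,3,3,0,0,4,0,0,2,2,1,0,2,0,0,0,3,3,0,4,0,0,4,1,2,0,
  0,3,1,0,0,0,0,4,1,1,0,3,1,0,0,4,1,0,2,0,0,0,2,1,2,0,0,3,1,0,3,0,0,4,2,0,0,0,3,1,0,3,2,0,3,0,0,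
  4,3,0,0,0,4,3,3,0,0,4,2,0,0,0,0,0,3,1,1,3,0,0,2,1,2,0,4,0,0,3,4,0,0,4,0,0,3,1,0,2,2,0,4,0,0,3,
  2,0,3,0,0,4,0,0,4,2,1,0,0,3,2,0,3,0,0,4,1,0,0,0,0,2,1,2,4,0,0,3,4,0,0,4,2,0,3,0,0,0,2,2,0,3,0,
  0,3,4,0,0,4,1,0,4,3,0,4,0,0,0,0,3,1,1,1,0,0,2,2,0,0,4,0,0,2,1,0,2,0,4,4,0,0,0,3,2,2,0,0,3,0,0,
  4,1,1,0,0,3,0,4,0,0,0,4,1,1,1,0,3,0,0,2,0,3,0,0,3,2,0,3,0,4,0,0,4,1,2,0,0,2,0,3,0,4,0,0,0,0,4,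
  1,1,2,0,0,2,1,2,0,0,2,0,3,0,0,3,4,0,0,4,1,0,4,0,0,0,2,1,1,0,0,2,3,0,0,3,1,1,0,0,2,0,0,0,3,2,2,
  0,3,0,0,3,1,0,2,0,0,0,4,1,2,0,3,3,0,0,4,4,0,0,0,2,1,0,2,4,0,0,0,4,2]

def dpP0 : ℕ := 52282

def dpRoot1 : List ℕ := [
  8388645,3152,2457600,4199040,1581312,147466]

def dpOps1 : List ℕ := [
  1,1,1,1,4,1,0,0,0,2,1,0,2,0,3,0,0,3,2,0,3,4,0,0,4,4,0,0,0,4,1,0,2,0,3,3,0,0,4,3,0,0,0,0,2,1,1,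
  0,0,2,1,0,2,0,3,0,4,0,0,3,1,0,4,0,0,4,1,0,2,4,0,0,3,0,0,0,3,2,1,0,4,0,0,0,4,2,1,0,0,3,2,3,0,0,
  0,4,2,0,0,0,0,2,1,1,0,3,2,0,3,4,0,0,0,4,2,0,4,0,0,0,2,2,1,0,2,0,4,0,0,4,1,4,0,0,3,0,4,0,0,0,4,
  1,0,2,4,0,0,3,1,4,0,0,3,0,4,0,0,4,2,0,3,4,0,0,4,0,0,0,0,3,1,1,1,0,3,0,4,0,0,2,2,0,3,0,4,0,0,3,
  1,0,2,0,3,1,0,0,0,4,1,0,3,0,0,0,2,1,1,0,4,0,0,3,2,1,0,0,3,0,4,0,0,4,1,0,2,0,3,0,4,3,0,0,0,0,3,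
  1,4,0,0,2,2,0,3,0,0,3,1,0,0,0,4,1,1,0,3,0,0,2,1,0,2,0,3,0,4,4,0,0,0,3,1,0,4,3,0,0,0,4,1,0,3,0,
  0,0,0,4,1,1,3,0,0,2,1,0,4,0,0,3,2,0,3,0,4,0,0,4,2,0,3,2,0,0,0,0,2,1,2,0,4,3,0,0,0,2,3,0,0,3,3,
  0,4,0,0,4,2,0,3,0,4,0,0,0,3,1,3,0,0,2,0,3,1,0,3,0,0,4,1,0,2,0,4,0,0,0,4,1,3,0,0,2,4,0,0,3,1,0,
  2,0,4,0,0,0,0,0,2,1,1,1,1,2,0,0,2,0,4,0,0,2,1,0,0,3,2,0,0,0,2,1,0,2,0,3,1,0,2,0,3,0,0,0,3,2,0,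
  3,1,0,3,0,4,1,0,0,0,0,4,1,3,0,0,4,3,0,4,0,0,0,0,2,1,1,1,0,0,2,1,0,3,0,0,3,2,0,4,0,0,4,4,0,0,0,
  2,1,1,0,4,0,0,2,4,0,0,0,3,1,3,0,0,2,1,0,4,0,0,4,1,0,2,0,0,0,4,1,3,0,0,2,1,0,2,0,0,4,0,0,0,3,1,
  3,2,0,3,0,4,0,0,4,2,0,0,0,2,1,1,0,4,0,0,2,1,0,2,0,3,0,0,3,0,0,3,2,4,0,0,3,2,0,4,0,0,4,2,1,0,0,
  3,0,4,0,0,0,4,1,4,0,0,3,0,4,4,1,0,0,0,0,0,4,1,1,4,0,0,2,3,0,0,3,2,0,4,0,0,0,2,1,1,0,2,0,4,0,0,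
  2,3,0,4,0,0,3,1,0,4,0,0,4,4,0,0,0,3,1,4,0,0,2,1,0,2,4,0,0,0,3,2,0,0,4,0,0,4,1,4,0,0,2,2,0,3,0,
  0,3,1,0,0,4,0,0,0,0,3,1,1,1,2,0,3,0,0,2,0,3,4,0,0,0,2,1,2,0,0,2,1,0,0,3,0,0,3,1,2,0,3,0,0,3,0,
  0,0,2,2,1,3,0,4,0,0,2,2,0,3,0,0,0,3,1,0,2,1,0,4,0,0,0,4,2,2,0,0,3,2,0,0,4,0,0,0,3,1,4,1,0,4,0,
  0,0,4,1,3,0,0,3,0,4,4,0,0,0,0,4,1,2,3,0,4,0,0,3,0,0,2,1,1,0,0,2,1,0,0,3,2,0,0,4,0,0,3,1,2,0,0,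
  4,0,0,4,1,1,0,0,2,1,0,4,0,0,3,0,4,0,0,0,0,4,1,1,2,1,0,0,3,0,0,2,1,0,3,4,0,0,4,0,0,3,2,4,0,0,3,
  1,0,3,0,0,4,2,0,0,0,4,1,0,0,0,2,1,1,2,0,0,2,0,3,0,4,0,0,2,1,0,2,2,0,0,3,1,0,0,4,0,0,3,4,2,0,0,
  0,4,1,3,0,0,2,0,3,1,0,0,0,0,3,1,2,0,3,2,0,0,0,2,1,3,0,0,2,0,4,0,0,3,1,0,2,4,0,0,3,3,0,0,4,4,0,
  0,0,4,1,1,0,0,2,1,0,0,3,0,4,0,0,0,4,1,1,3,0,0,3,0,4,0,0,3,1,0,2,1,0,0,4,0,0,4,2,0,3,0,4]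

def dpP1 : ℕ := 81686

def dpRoot2 : List ℕ := [
  8388615,2621632,1082880,268544,4268048,147496]

def dpOps2 : List ℕ := [
  1,1,1,1,2,2,0,3,0,0,4,0,0,2,3,1,0,0,0,3,2,0,4,1,0,0,0,4,1,0,2,3,0,4,0,0,3,2,0,0,4,1,0,2,0,4,0,
  0,0,0,2,1,1,4,0,0,2,3,0,0,3,2,0,3,0,0,4,2,0,0,0,2,1,3,0,0,2,2,0,0,0,3,2,0,3,3,0,0,4,0,0,4,1,4,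
  0,0,3,0,0,0,3,1,1,4,0,0,2,4,0,0,3,0,4,2,0,0,0,2,2,2,0,4,0,0,3,1,0,0,4,0,0,3,1,2,0,3,0,0,2,2,0,
  3,0,0,0,4,1,3,0,4,0,0,2,0,4,2,0,0,0,0,4,1,1,1,0,2,0,0,2,2,0,3,0,0,0,2,1,3,0,0,3,0,0,3,1,0,2,3,
  0,0,3,0,4,2,0,3,0,4,0,0,0,4,1,2,0,3,0,0,2,0,3,1,0,2,0,3,0,0,4,2,0,3,0,0,0,0,0,2,1,1,1,4,0,0,2,
  1,0,3,4,0,0,4,0,0,3,0,4,1,0,0,0,2,1,2,0,0,2,4,2,0,0,0,3,0,4,1,0,4,0,0,0,3,2,0,3,0,4,4,0,0,0,4,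
  1,0,2,0,3,2,0,0,4,0,0,0,2,1,1,4,0,0,2,0,4,1,0,0,0,2,4,1,0,2,0,0,0,3,1,3,0,4,0,0,2,2,0,4,0,0,0,
  4,1,0,2,0,3,2,0,0,4,0,0,0,3,1,1,2,0,0,2,1,0,0,3,3,0,0,0,2,2,0,3,2,0,3,0,4,0,0,0,4,1,0,2,3,0,0,
  4,3,0,0,0,0,4,1,2,2,0,0,4,2,0,0,0,2,1,2,0,0,2,0,3,0,4,0,0,3,2,0,3,1,0,0,4,2,0,3,0,4,0,0,0,4,2,
  3,0,0,4,0,0,0,0,3,1,1,1,0,0,2,1,0,3,0,4,0,0,3,2,0,3,0,4,0,0,4,1,0,2,1,0,0,3,3,0,0,0,0,2,1,2,4,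
  0,0,3,3,0,0,4,0,0,2,1,4,0,0,2,1,0,0,4,4,0,0,0,3,1,2,0,0,3,2,0,4,0,0,0,4,1,0,3,0,4,0,0,0,3,1,2,
  3,0,0,3,0,4,3,0,0,0,2,1,4,0,0,2,3,0,0,3,4,0,0,0,3,1,3,0,0,2,0,3,0,4,1,0,0,0,0,4,1,1,0,3,0,4,0,
  0,2,1,3,0,0,2,4,0,0,4,3,0,0,0,3,2,0,4,0,0,4,1,4,0,0,2,0,0,0,0,4,1,2,1,0,2,0,3,1,0,0,4,0,0,3,3,
  0,4,0,0,4,1,0,3,0,4,0,0,0,2,1,1,1,0,0,2,1,0,2,0,0,4,3,0,0,0,2,4,0,0,3,1,0,4,2,0,0,0,0,3,1,0,2,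
  2,0,4,0,0,3,1,0,2,0,0,4,1,0,2,0,3,4,0,0,4,1,0,3,0,0,0,0,4,2,1,1,0,0,2,0,3,0,4,0,0,3,2,0,4,2,0,
  4,0,0,0,4,1,2,0,0,3,0,0,0,0,0,2,1,1,1,2,0,4,1,0,3,0,0,0,3,1,0,0,4,1,0,3,0,0,0,2,2,1,0,2,0,3,0,
  4,0,0,3,1,0,2,3,0,0,3,2,0,0,4,0,0,4,4,2,0,0,0,0,3,1,1,3,0,0,4,3,0,0,0,2,4,1,0,0,0,3,1,4,0,0,2,
  1,0,0,4,0,0,4,1,0,4,1,0,0,0,0,4,1,1,0,2,0,3,2,0,0,4,2,0,0,0,2,1,2,0,0,2,0,0,4,2,0,4,2,0,3,0,0,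
  0,0,0,2,1,2,1,2,0,0,4,0,0,3,1,0,2,0,3,0,4,0,0,4,2,1,0,0,3,1,0,0,4,0,0,0,2,1,2,0,4,0,0,2,1,1,0,
  0,3,2,0,0,4,4,0,0,0,3,3,3,0,0,0,4,1,4,0,0,2,0,4,3,0,0,0,0,3,2,1,0,2,0,3,0,0,3,0,4,1,0,2,2,0,0,
  3,3,0,0,0,0,4,2,2,0,0,3,1,0,2,0,3,0,0,4,1,4,0,0,3,0,0,0,0,3,1,1,1,2,0,3,0,0,4,0,0,3,1,0,0,4,3,
  0,0,0,2,2,1,0,0,3,1,0,2,0,0,4,1,0,2,0,3,0,4,4,0,0,0,0,3,2,3,0,0,3,1,0,2,0,3,3,0,0,0,4,1,0,2,0,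
  3,0,4,4,0,0,0,0,4,1,1,2,0,0,3,3,0,0,0,2,2,0,4,0,0,4,1,0,2,4,0,0,3,0,0,0,0,4,1,1,1,0,2,0,3,0,4,
  0,0,2,3,0,0,3,2,0,0,4,1,0,0,0,2,1,1,0,2,0,0,2,1,0,2,0,4,0,0,3,2,0,3,1,0,0,0,4,0,0,3,1,0,3,2,0,
  3,0,4,0,0,4,1,0,2,0,0,0,4,1,3,0,4,0,0,2,1,0,3,0,4,4,0,0,0,3,1,0,3,0,4,0,0,4,1,0,2,0,3,0,0,0,0,
  0,3,1,1,1,0,2,1,0,3,0,4,0,0,3,4,0,0,4,2,0,3,0,0,0,2,1,1,0,3,0,4,0,0,3,2,0,3,0,0,4,1,0,4,0,0,0,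
  3,1,1,0,2,0,3,0,0,2,1,0,2,0,0,3,1,0,2,0,3,0,4,0,0,4,2,2,0,0,3,0,4,0,0,0,4,1,1,0,0,2,4,0,0,3,1,
  0,0,4,2,0,4,0,0,0,0,2,1,1,0,2,1,0,2,0,3,0,4,0,0,3,1,0,2,4,0,0,4,0,0,4,4,0,0,0,2,1,1,0,3,0,4,0,
  0,2,2,1,0,0,0,3,2,0,3,0,0,4,2,0,0,0,3,1,1,0,2,0,3,1,0,4,0,0,4,0,0,2,1,0,2,0,0,3,2,2,0,0,0,4,3,
  0,0,0,4,1,2,0,0,3,3,0,4,0,0,4,1,0,0,0,0,3,1,1,2,0,3,0,0,2,1,0,2,0,0,3,1,0,0,0,2,1,2,0,0,2,1,0,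
  2,0,3,0,0,3,1,0,3,0,4,0,0,4,1,0,3,0,0,0,3,1,1,0,0,3,4,0,0,4,1,0,3,0,4,3,0,0,0,0,4,3,4,0,0,4,0,
  0,0,4,1,1,3,0,4,0,0,4,0,0,2,1,1,0,0,3,0,4,0,0,3,1,3,0,4,0,0,3,0,4,2,0,3,0,4,0,0,0,4,1,2,0,4,0,
  0,2,1,0,0,3,1,0,0,4,3,0,0,0,0,0,4,1,1,2,4,0,0,3,0,4,3,0,0,0,2,1,4,0,0,2,1,0,0,3,0,4,1,0,3,0,0,
  0,3,2,1,0,0,3,3,0,0,4,2,0,0,0,4,1,2,0,0,3,2,0,4,0,0,0,0,2,1,1,2,0,3,0,0,2,2,0,0,3,3,0,4,0,0,4,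
  0,0,2,2,4,3,0,0,0,3,2,0,3,0,4,0,0,4,3,0,4,0,0,0,3,1,1,0,3,0,0,0,4,1,1,0,3,0,0,2,1,0,0,3,2,0,4,
  0,0,4,4,0,0,0,0,3,1,2,4,0,0,3,2,0,4,0,0,0,2,3,1,0,4,0,0,4,3,0,0,0,3,1,2,0,3,0,0,3,2,0,0,4,3,0,
  0,0,4,1,0,2,3,0,0,3,2,0,4,0,0,4,2,0,0,0,0,4,2,1,1,0,4,0,0,2,4,0,0,3,0,4,0,0,3,1,4,0,0,3,4,0,0,
  4,1,0,3,0,0,0,4,1,0,3,0,4,4]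

def dpP2 : ℕ := 258151

end Cfsg.Agent.Lib.M24X
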