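import Cfsg.Agent.Lib.M24X.OctadData

set_option autoImplicit false
set_option maxRecDepth 100000

namespace Cfsg.Agent.Lib.M24X

def joRoot0 : ℕ := 7079696
def joOps0 : List ℕ := [
  1,1,2,1,0,0,3,1,0,4,0,0,4,2,0,0,0,2,2,0,0,0,3,1,2,0,3,0,4,3,0,0,0,2,1,0,0,3,0,0,4,2,1,0,3,1,0,
  0,0,4,2,0,3,0,4]
def joP0 : ℕ := 237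

def joRoot1 : ℕ := 262637
def joOps1 : List ℕ := [
  1,1,2,1,2,0,3,0,4,0,0,3,1,0,3,0,0,4,3,0,4,0,0,0,3,1,2,0,4,3,0,0,0,2,1,0,4,0,0,3,2,0,3,0,4,1,0,
  0,0,0,0,2,1,1,1,0,2,0,0,2,2,0,3,4,0,0,0,3,1,3,0,0,0,4,3,0,4,0,0,0,3,2,1,0,2,0,0,3,1,0,0,4,1,0,
  4,0,0,0,4,1,1,0,3,0,0,2,0,3,1,0,0,0,0,3,1,1,0,3,0,0,2,2,1,0,2,0,0,4,1,0,0,0,3,2,1,0,0,4,0,0,4,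
  1,0,2,1,0,0,3,2,0,0,4,0,0,0,4,1,3,3,0,4,0,0,4,0,0,2,1,1,0,0,2,0,3,0,4,3,0,0,0,3,3,3,0,0,4,1,0,
  3,0,4,0,0,0,4,2,1,0,0,3,0,4,0,0,0,0,2,1,1,1,0,2,3,0,4,0,0,3,2,0,0,0,2,1,2,0,0,2,0,3,1,0,3,0,0,
  4,0,0,3,3,3,0,0,0,4,2,1,0,2,0,3,0,0,3,3,0,0,0,0,2,1,1,4,0,0,2,1,0,0,4,0,0,2,3,0,4,0,0,3,1,0,2,
  3,0,0,3,0,4,0,0,4,1,1,0,4,0,0,2,1,0,3,0,0,3,0,4,2,0,4,0,0,0,0,3,1,1,1,0,0,3,3,0,0,0,3,1,1,0,4,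
  0,0,3,1,0,0,0,4,2,0,4,3,0,0,0,0,4,1,1,0,2,0,4,0,0,2,2,4,0,0,4,4,0,0,0,3,2,0,3,0,4,0,0,0,0,3,1,
  1,1,0,2,2,0,0,3,0,0,2,0,3,3,0,4,0,0,4,1,0,3,0,4,0,0,0,2,2,3,0,4,3,0,0,0,4,2,1,0,0,3,0,4,2,0,0,
  0,0,3,1,0,3,3,4,0,0,4,0,0,0,4,1,1,0,3,1,0,0,4,0,0,2,1,0,2,4,0,0,0,3,1,0,0,4,1,3,0,0,2,0,3,0,0,
  0,0,4,1,2,2,0,3,1,0,2,0,0,4,0,0,0,2,1,1,0,4,0,0,2,2,0,4,0,0,3,4,2,0,0,0,0,3,1,3,0,4,0,0,2,4,0,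
  0,3,1,0,2,0,0,4,2,4,0,0,0,0,4,1,2,0,3,0,4,0,0,2,3,0,0,3,1,0,3,0,4,0,0,4,3]
def joP1 : ℕ := 19601

def joRoot2 : ℕ := 675712
def joOps2 : List ℕ := [
  1,1,1,1,4,0,0,3,4,0,0,4,2,0,3,0,4,4,0,0,0,0,2,1,1,0,3,3,0,0,0,3,1,4,0,0,4,0,0,4,1,0,2,0,3,2,0,
  0,4,0,0,0,3,1,1,0,3,0,4,0,0,2,1,4,0,0,4,0,0,4,1,0,4,3,0,0,0,0,4,1,2,2,0,0,0,2,1,0,2,0,3,4,0,0,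
  0,3,1,0,3,0,4,0,0,0,0,2,1,1,1,1,0,0,0,2,1,0,3,3,0,0,0,3,1,2,0,0,2,4,0,0,3,0,4,4,0,0,0,0,2,1,4,
  0,0,2,1,0,0,3,1,0,3,0,4,0,0,4,3,2,0,0,4,0,0,0,3,1,2,2,0,4,0,0,3,2,0,0,0,3,1,3,0,0,0,4,2,2,0,3,
  0,0,0,0,4,1,1,2,0,0,3,0,4,0,0,2,1,0,2,4,0,0,3,0,4,0,0,4,2,4,0,0,4,0,0,0,0,3,1,2,1,4,0,0,4,0,0,
  3,2,0,3,3,0,0,0,4,0,0,2,1,3,0,0,3,1,4,0,0,4,0,0,4,2,0,4,0,0,0,3,1,2,0,0,2,1,0,2,0,4,2,0,3,0,0,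
  0,3,4,0,0,4,1,4,0,0,2,4,0,0,0,0,4,0,0,0,2,1,1,1,3,0,4,0,0,2,1,0,3,0,4,0,0,3,1,0,4,0,0,4,2,0,3,
  0,0,0,2,1,2,0,4,2,0,0,0,3,4,0,0,4,1,0,3,0,4,0,0,0,3,1,3,0,0,2,3,0,4,0,0,3,3,0,4,0,0,4,1,0,2,3,
  0,0,0,0,4,1,1,0,2,0,0,3,4,0,0,4,1,0,2,0,3,0,0,0,0,3,2,1,1,0,0,2,0,3,4,4,0,0,0,4,2,0,4,4,0,0,0,
  0,3,1,1,0,4,0,0,2,4,0,0,3,1,0,2,0,3,0,0,4,1,0,4,0,0,0,4,1,2,0,4,0,0,2,2,0,4,0,0,3,2,0,0,4,2,0,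
  0,0,0,0,3,1,1,1,0,3,2,0,0,4,3,0,0,0,2,1,1,0,4,0,0,3,1,0,2,0,3,0,0,4,1,0,0,0,3,1,2,0,4,0,0,2,2,
  2,0,0,3,1,0,0,4,0,0,3,2,0,3,0,0,4,1,0,3,0,4,0,0,0,4,1,2,0,3,0,0,2,1,0,3,0,0,3,1,0,2,0,3,0,4,0,
  0,0,0,2,1,2,2,0,0,3,2,0,3,0,0,4,1,0,2,0,0,0,2,2,1,0,0,4,0,0,3,1,1,0,3,0,0,2,2,0,0,3,3,0,0,4,2,
  0,3,0,4,0,0,0,4,1,1,0,0,2,1,0,4,0,0,3,3,0,0,4,4,0,0,0,0,3,1,1,3,0,0,2,0,3,0,4,0,0,2,1,1,0,4,0,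
  0,2,0,4,3,0,4,0,0,0,3,2,2,0,0,4,2,0,0,0,4,1,1,0,0,3,3,0,0,4,1,0,0,0,0,4,2,1,2,0,4,0,0,2,4,0,0,
  3,1,0,2,0,0,4,1,0,0,0,3,1,1,0,4,0,0,3,1,0,0,4,0,0,4,3,3,0,0,4,2,0,0,0,0,0,4,1,1,3,0,4,1,0,2,0,
  3,0,0,0,2,1,0,2,4,0,0,4,1,0,2,0,3,0,0,0,3,1,0,0,4,1,0,3,0,4,3,0,4,0,0,0,0,2,3,3,1,0,2,0,0,4,1,
  0,0,0,4,1,1,0,0,2,0,4,3,0,0,0,0,3,1,3,0,4,1,0,0,0,2,2,2,0,3,0,4,0,0,4,3,0,0,0,3,1,2,0,0,2,0,0,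
  4,2,0,3,0,0,0,4,1,3,0,0,2,2,3,0,0,3,3,0,0,4,0,0,3,1,3,0,0,2,0,3,0,0,4,1,3,0,0,2,2,0,0,3]
def joP2 : ℕ := 50177


end Cfsg.Agent.Lib.M24X
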