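import Cfsg.Agent.Lib.M24X.ReeM23

/-!
# Generating triples of `M23`
-/

set_option autoImplicit false
set_option maxRecDepth 100000
set_option linter.unusedSimpArgs false
set_option linter.unusedVariables false
set_option linter.unusedSectionVars false
set_option linter.style.haveILetI false

namespace Cfsg.Agent.Lib.M24X.Ree

open Cfsg Cfsg.Agent.Lib.Golay Cfsg.Agent.Lib.M24X Cfsg.Agent.Lib.KnownSimple.MathieuOut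

/-- The shape of the data. -/
abbrev Trip := ℕ × ℕ × ℕ × List ℕ × List ℕ × List ℕ × List ℕ

/-- Orders `p q r`, elements `x y`, and words for the generators of `M23` in the elements. -/
def tripTable : List Trip := [
  (2,5,11,[0,3,2,1,10,5,11,7,20,9,4,6,12,19,17,21,18,14,16,13,8,15,22,23],[8,20,18,13,5,9,17,22,15,6,10,0,3,7,1,21,16,4,14,19,2,11,12,23],[0,1,1,0,1,0,1,0,1,1,1,0,1,0,1,1,0,1,1,0,1,0,1,0,1,0,1,1,1,0,1,1,1],[0,1,0,1,1,1,1,0,1,1,1,0,1,1,1,1,0,1,0,1,1,0,1,0,1,1,1,1,0]),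
  (2,5,23,[0,16,7,13,18,5,14,2,21,22,19,11,12,3,6,15,1,17,4,10,20,8,9,23],[11,4,15,1,2,12,6,17,22,5,21,9,0,8,13,3,16,10,18,7,14,19,20,23],[1,1,0,1,0,1,1,1,1,0,1,0,1,1,0,1,0,1,1,1,0,1,1,1,0,1,0,1,1,1,0,1,0,1,1],[1,0,1,1,1,1,0,1,0,1,1,0,1,0,1,1,1,0,1,1,0,1,1,0,1,1,1,0,1,1,1,0]),
  (2,7,7,[14,4,6,3,1,22,2,17,20,9,10,12,11,13,0,15,19,7,18,16,8,21,5,23],[1,4,16,22,18,13,21,9,8,10,6,12,14,11,2,20,5,0,3,19,7,15,17,23],[1,0,1,1,1,0,1,1,0,1,0,1,1,1,1,0,1,1,0,1,1,1,0,1,0,1,1,0,1,1,1,1,0,1],[0,1,1,1,0,1,1,0,1,0,1,1,1,0,1,1,0,1,1,0,1,1,0,1,1,0,1,1,1,0,1,1,0]),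
  (2,7,11,[3,2,1,0,7,5,6,4,16,9,12,11,10,20,14,19,8,17,21,15,13,18,22,23],[1,20,19,3,17,4,2,14,22,6,8,10,13,7,0,15,9,11,21,18,12,16,5,23],[1,0,1,1,1,0,1,1,1,1,0,1,0,1,0,1,1,0,1,1,1,1,1,1,0,1,1,1,1,1,0,1,0],[1,0,1,1,1,0,1,0,1,1,0,1,1,1,0,1,1,0,1,1,1,0,1,1,0,1,1,0,1,0,1,1,1,0]),
  (2,7,23,[6,1,2,16,4,5,0,19,14,17,11,10,12,15,8,13,3,9,22,7,20,21,18,23],[18,11,10,2,16,17,21,5,4,9,19,7,8,13,15,1,20,14,3,22,6,12,0,23],[1,0,1,1,1,1,0,1,1,0,1,0,1,1,0,1,1,0,1,1,0,1,1,1,1,0,1,1,1,1,1,0],[0,1,1,1,0,1,1,1,1,1,1,0,1,1,1,1,1,0,1,1,0,1,0,1,1,1,1,0]),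
  (2,11,11,[0,12,8,3,9,7,6,5,2,4,20,11,1,16,19,22,13,17,18,14,10,21,15,23],[21,5,9,11,20,0,18,7,10,17,12,19,14,22,1,3,8,13,2,6,16,4,15,23],[0,1,1,1,1,0,1,1,1,1,0,1,0,1,1,0,1,1,1,0,1,1,1,1,1,1,0],[0,1,1,0,1,0,1,1,0,1,1,1,1,0,1,1,1,1,1,1,0,1,1,1,1,1]),
  (2,11,23,[15,13,2,9,14,5,6,10,22,3,7,20,12,1,4,0,21,17,18,19,11,16,8,23],[9,12,6,19,18,7,5,13,11,1,4,21,15,8,16,17,3,14,2,20,0,10,22,23],[0,1,0,1,0,1,0,1,0,1,0,1,0,1,1,1,1,1,0,1,1,1,1,1,1,1,0,1,0,1,1,1],[0,1,1,1,1,0,1,1,0,1,0,1,1,1,1,0,1,0,1,1,1,0,1,1,0,1,1,1,1,1]),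
  (2,23,23,[17,1,5,3,12,2,6,15,16,9,19,18,4,22,14,7,8,0,11,10,20,21,13,23],[8,15,18,1,9,10,5,6,4,20,0,17,21,7,16,14,19,22,12,11,3,13,2,23],[1,0,1,1,1,1,0,1,1,1,0,1,1,1,1,1,1,1,1,0,1,0,1,1,1,1,1,0,1,1,0,1,1],[0,1,0,1,1,1,0,1,1,0,1,1,0,1,0,1,0,1,1,1,1,1,1,0,1,1,0,1,1,1,0,1,0]),
  (3,3,11,[21,1,2,22,4,18,13,14,10,7,19,11,3,20,9,0,5,17,16,8,6,15,12,23],[22,3,6,17,0,16,21,5,8,15,10,9,12,14,19,11,7,1,18,13,20,2,4,23],[0,0,1,0,1,1,0,1,0,1,0,1,1,0,0,1,0,1,0,1,0,0,1,1,0,0,1,1],[1,0,0,1,0,0,1,1,0,1,0,1,1,0,1,0,0,1,0,1,1,0,0,1,0,1,0,1]),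
  (3,3,23,[9,16,19,22,1,18,6,7,0,8,10,11,2,21,13,3,4,5,17,12,20,14,15,23],[6,2,7,9,18,3,19,1,4,5,20,13,12,22,10,15,16,17,8,0,14,21,11,23],[1,0,0,1,1,0,0,1,0,1,1,0,1,1,0,0,1,0,1,0,1,0,1,0,0,1,0,1,0,0,1,0],[0,0,1,1,0,1,0,0,1,0,1,0,0,1,0,0,1,0,0,1,0,1,0,0,1,0,1,0]),
  (3,5,5,[2,7,21,12,10,3,1,6,17,13,16,11,5,15,14,9,4,18,8,19,20,0,22,23],[0,14,2,21,5,11,10,7,18,15,4,6,13,1,20,19,17,22,9,8,12,16,3,23],[1,1,0,0,1,1,0,1,0,1,0,0,1,0,1,1,0,1,1,0,0,1,0],[0,1,1,1,1,0,1,0,0,1,1,0,0,1,1,1,0,0,1,0,1,1,1]),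
  (3,5,7,[8,0,12,6,15,5,10,4,1,19,3,2,11,13,14,7,16,21,18,22,17,20,9,23],[7,14,15,4,21,16,3,1,22,2,6,8,12,0,13,5,9,18,11,19,20,10,17,23],[0,1,0,0,1,0,0,1,0,1,0,1,1,1,1,0,1,1,1,1,0,0,1,0,1],[0,0,1,0,1,1,0,1,1,1,1,0,1,1,1,1,0,0,1,1,1,0,0,1,0,1]),
  (3,5,11,[11,1,2,4,18,7,6,20,21,19,22,16,10,8,14,15,0,9,3,17,5,13,12,23],[0,8,22,3,14,16,17,2,7,4,12,18,13,19,5,10,9,11,21,15,20,6,1,23],[0,1,1,0,1,1,0,1,1,0,1,0,1,0,1,0,1,1,1,0,0,1,0,1,1,1,0],[1,0,1,1,1,1,0,1,1,0,0,1,1,0,0,1,0,1,1,1,1,0,1,1]),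
  (3,5,23,[0,17,5,1,7,14,19,21,15,8,18,11,12,13,2,9,16,3,20,22,10,4,6,23],[20,19,6,14,1,0,5,11,3,9,22,18,7,12,10,4,15,17,13,16,2,21,8,23],[0,1,1,1,1,0,0,1,0,0,1,1,0,1,1,0,1,1,1,1,0,0,1,0,1,0,0],[0,0,1,1,0,1,0,1,1,0,0,1,1,0,1,0,1,1]),
  (3,7,7,[5,1,20,10,12,11,17,7,6,13,15,0,22,21,14,3,2,8,18,19,16,9,4,23],[16,22,10,12,4,13,8,1,2,9,21,5,17,19,3,0,11,7,20,15,6,18,14,23],[0,1,0,0,1,0,1,1,1,1,1,0,1,1,0,0,1,1,1,0,1,1,0,1,0,0,1],[0,0,1,1,0,1,0,1,1,1,0,0,1,1,0,1,1,1,0,1,0,1,0,1,0,1,1]),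
  (3,7,11,[10,0,14,15,8,5,20,17,9,4,1,11,12,2,13,18,16,22,3,19,21,6,7,23],[0,11,7,8,18,20,4,16,13,22,17,2,15,14,6,10,5,9,3,12,1,21,19,23],[0,1,1,1,0,1,1,0,1,1,1,1,1,0,1,1,1,1,0,1,1,0,0,1,0],[0,1,0,0,1,0,1,0,0,1,1,1,1,0,1,0,0,1,0,0,1,1,1,0,0]),
  (3,7,23,[0,16,2,11,4,17,20,3,10,5,18,7,14,13,19,15,22,9,8,12,21,6,1,23],[10,5,13,6,8,20,15,14,1,3,17,7,2,21,9,11,16,12,18,22,19,0,4,23],[0,0,1,1,0,0,1,1,0,1,1,0,1,1,0,0,1,1,0,1,0,1,1,1,1],[0,0,1,1,1,1,1,0,1,1,0,0,1,1,0,0,1,1,1,1,1,0,1,0,0,1,0,1]),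
  (3,11,11,[0,11,17,12,4,5,22,10,6,9,19,21,18,13,20,2,14,15,3,7,16,1,8,23],[12,20,17,4,21,13,10,3,8,15,0,2,14,22,19,11,7,16,9,1,5,18,6,23],[0,0,1,1,1,1,1,0,1,1,0,1,0,1,0,0,1,1,1,1,0,1,0,0,1,0],[0,1,0,0,1,1,0,1,1,1,1,0,1,0,0,1,0,1,0,1,0,0]),
  (3,11,23,[19,14,22,3,4,20,6,21,8,13,2,9,1,11,12,7,16,5,0,18,17,15,10,23],[1,7,0,20,6,12,9,3,5,22,17,4,15,19,14,11,2,13,8,16,10,18,21,23],[1,0,0,1,0,0,1,1,1,0,1,0,1,1,1,0,0,1,1,1,0,0,1],[1,1,1,1,1,0,1,0,1,0,1,1,1,1,1,1,1,0,1,0,1,0,1,1]),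
  (3,23,23,[13,16,20,15,6,5,9,7,0,4,12,10,11,8,1,17,14,3,18,2,19,21,22,23],[7,0,9,15,5,17,19,13,16,11,20,1,18,22,21,6,2,14,3,4,8,10,12,23],[1,1,1,0,1,1,1,1,0,1,1,1,1,1,1,0,0,1,0,1,0,1],[0,0,1,0,1,0,1,0,1,0,1,1,1,0,1,1,0,1,1,1,0,1,1,1,0,1,0,0]),
  (5,5,5,[5,9,6,7,1,21,15,0,11,12,10,17,14,16,4,13,2,18,22,19,20,3,8,23],[12,17,2,21,19,0,15,7,8,22,4,14,9,18,13,3,6,10,20,1,11,16,5,23],[1,1,0,1,1,0,0,1,1,1,0,0,0,1,0,0,1,0,0,1,1,0,1,0],[1,1,0,0,1,0,1,0,0,0,0,1,1,0,1,1,1,1,0,0,0]),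
  (5,5,7,[16,18,14,5,4,6,2,19,0,9,21,17,12,15,3,8,13,10,22,1,11,20,7,23],[6,7,18,1,2,8,10,12,4,3,20,21,9,16,14,13,11,17,5,0,19,15,22,23],[1,0,0,1,1,1,0,0,0,1,1,0,0,1,0,1,0,1,1,1,0,0,1,1,0],[1,1,1,1,0,0,0,1,0,1,0,0,0,1,0,0,1,0,0,1,0,1,0,0,1]),
  (5,5,11,[7,1,2,9,22,14,17,16,5,0,19,13,10,20,4,21,3,11,18,15,6,12,8,23],[21,18,0,11,2,17,12,9,22,14,10,13,7,5,6,1,16,3,8,19,4,20,15,23],[0,0,1,1,1,0,0,1,1,1,0,1,1,1,1,0,1,1,0,0,1,1,0,0,0,0],[0,0,1,0,0,0,1,1,0,1,1,1,0,0,1,0,1,0,0,0,1,0,1,1,0]),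
  (5,5,23,[8,1,13,2,3,15,19,11,17,18,4,22,5,10,14,9,0,21,12,7,20,16,6,23],[6,15,2,9,19,11,8,17,4,20,14,3,1,10,21,7,16,12,18,0,5,22,13,23],[0,0,1,1,1,0,0,0,0,1,1,0,0,1,1,0,1,0,0,1,1,0,0,0,0],[0,0,1,0,0,1,0,1,0,1,0,0,0,0,1,0,1,1,0,0,1]),
  (5,7,7,[16,17,12,2,5,15,6,8,14,13,4,22,0,21,1,19,3,7,18,10,20,11,9,23],[16,17,0,10,7,4,11,9,8,14,12,21,20,6,15,22,13,3,1,19,18,2,5,23],[0,0,0,0,1,0,1,1,1,1,1,0,0,0,1,1,1,1,0,1,1,1,0,0,0],[1,0,1,1,0,0,0,1,1,0,1,1,1,0,0,0,0,1]),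
  (5,7,11,[5,7,22,0,4,12,6,10,17,21,16,15,18,13,2,14,20,9,3,8,1,19,11,23],[7,20,3,11,1,14,19,13,12,5,10,15,9,2,16,0,22,17,4,18,21,6,8,23],[1,0,1,0,1,0,1,0,0,0,0,1,1,0,0,0,1,1,0,1,1,0,1,0],[0,0,1,1,0,1,0,1,0,1,1,0,0,1,1,1,0,0,0,1,0,0,0]),
  (5,7,23,[5,21,3,12,22,16,0,7,14,19,8,11,4,6,9,1,13,17,15,10,18,20,2,23],[11,20,4,12,0,6,10,9,7,16,2,5,13,19,14,8,1,18,22,17,15,21,3,23],[1,1,0,0,1,1,0,0,1,0,1,0,1,0,0,1,0,0,0,1,0,1,1,0,0],[1,1,0,0,1,1,1,0,1,1,0,1,1,0,0,0,1,1,0,0,1,1,0,1,0]),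
  (5,11,11,[19,1,7,0,11,21,22,12,14,5,9,3,15,8,6,17,16,2,10,4,20,18,13,23],[2,3,15,16,11,9,12,5,20,4,6,21,17,0,14,18,7,22,19,10,1,8,13,23],[0,0,1,1,0,0,0,1,1,1,1,0,1,0,0,0,1,1,0,0,1,1,1,0],[0,1,0,1,0,1,1,0,1,0,0,0,0,1,1,1,0,0,0,1,0]),
  (5,11,23,[9,13,11,21,4,0,18,7,10,20,15,22,8,3,5,19,16,1,2,12,14,17,6,23],[6,9,22,0,17,21,20,19,8,15,7,12,18,11,10,13,5,16,3,4,1,2,14,23],[0,0,0,1,0,0,0,1,0,1,1,1,0,0,1,0,1,0,0,1,1,0,1,0],[1,0,1,0,1,1,0,1,0,0,1,1,0,1,1,0,1,0,0,0,0,1]),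
  (5,23,23,[12,18,0,10,22,6,19,9,8,4,13,11,1,14,15,3,16,7,2,21,5,20,17,23],[13,19,3,0,8,21,12,9,6,10,11,20,18,22,16,17,4,14,7,2,5,1,15,23],[0,0,1,1,0,1,1,1,0,1,1,0,0,1,0,0,0,1,0,0,1,0,1,0,0],[0,1,0,1,1,0,0,1,1,0,1,0,1,1,0,0,1,1]),
  (7,7,7,[9,8,22,20,19,21,11,13,6,4,7,3,12,0,15,17,1,5,18,10,16,2,14,23],[9,12,17,0,18,1,22,15,5,8,2,21,3,7,4,14,13,6,16,19,20,10,11,23],[1,1,1,1,1,1,0,1,1,0,0,0,1,1,1,0,0,0,1,1,0,0,1],[0,1,0,0,1,0,0,1,1,0,0,0,1,1,1,0,0,0,1,1,1,1]),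
  (7,7,11,[1,6,21,9,5,14,7,19,13,11,22,16,12,15,20,4,10,3,18,2,8,0,17,23],[12,10,4,15,8,1,14,7,21,18,16,3,19,20,11,9,0,13,6,5,2,17,22,23],[1,1,0,0,1,0,1,1,0,0,0,1,0,1,1,0,1,0,0,1],[1,0,1,1,1,1,0,1,0,0,1,1,1,1,0,1,1,0,0,0,0,0,1]),
  (7,7,23,[11,15,21,12,13,6,7,18,8,3,14,10,0,22,9,5,16,2,19,1,4,20,17,23],[15,3,1,6,5,18,12,22,17,10,14,9,8,13,4,7,20,2,11,0,19,21,16,23],[1,0,0,0,0,0,1,1,1,0,1,1,1,0,1,0,1,0,0,0,0,1,1,0],[0,0,1,1,1,1,1,0,1,1,1,0,1,0,1,1,1,0,1,1,1,1,1,0]),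
  (7,11,11,[7,14,19,0,17,5,20,4,12,3,1,9,16,13,18,10,22,11,6,21,15,8,2,23],[8,13,3,15,9,19,10,6,17,11,20,16,2,7,4,21,5,22,18,0,12,1,14,23],[0,1,0,1,1,1,1,1,0,1,0,0,0,1,1,1,0,1,1,1,1,0,0],[1,0,1,0,0,1,1,1,0,1,1,1,1,0,0,0,1,0,1,1,1]),
  (7,11,23,[2,1,7,21,16,6,22,8,9,13,18,11,4,17,19,5,15,0,14,3,10,20,12,23],[6,19,10,12,15,21,17,14,18,7,5,1,11,2,3,22,16,4,9,20,8,0,13,23],[0,1,0,1,1,1,1,0,1,0,1,1,0,1,1,1,0,0,1,0,1,0,1,0],[1,1,0,1,0,0,1,0,1,1,0,1,1,1,1,0,1,0,0,0,1]),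
  (7,23,23,[5,16,2,20,3,22,6,8,11,18,21,13,14,19,17,0,7,10,12,1,15,9,4,23],[10,7,18,11,19,8,14,22,6,1,13,12,15,21,4,5,17,3,0,20,2,9,16,23],[1,0,0,0,1,1,1,1,0,0,1,1,0,0,0,0,1,0,1,0,1,0],[0,1,1,0,0,1,1,1,1,1,0,0,1,1,0,1,1,0,1,1,0,1,0,0]),
  (11,11,11,[5,8,12,20,19,18,6,21,3,22,17,2,10,4,16,1,9,7,15,0,13,14,11,23],[19,13,10,2,0,16,12,14,3,22,1,5,11,9,15,21,7,6,17,8,20,18,4,23],[1,0,0,1,1,1,0,0,0,1,0,0,0,0,0,1,0,1,1,0,0,1,0,1],[0,0,1,0,0,0,0,1,1,1,1,0,0,1,0,1,1,0,0,0,0,1,0]),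
  (11,11,23,[7,19,9,8,3,15,20,1,14,13,4,12,6,21,2,10,11,18,16,17,0,5,22,23],[7,14,11,12,16,8,13,10,0,4,1,19,18,20,22,2,17,15,5,6,9,21,3,23],[1,1,0,0,0,1,0,0,1,0,1,0,0,1,0,0,1,0,1,1,0,0,1],[1,1,0,0,0,0,1,1,1,1,1,1,0,1,1,1,1,0,1,0,1,0,0,0]),
  (11,23,23,[22,3,11,8,10,5,18,1,9,2,12,21,19,6,16,4,20,0,7,14,17,13,15,23],[2,14,12,21,1,18,11,16,20,4,0,8,9,22,3,19,6,7,17,13,15,5,10,23],[1,1,1,1,0,0,1,1,0,0,0,0,0,1,0,0,0,0,1,0,0,0,1],[0,1,0,1,0,0,0,0,1,0,0,0,1,1,0,0,1,0,0,0,0,1,1]),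
  (23,23,23,[7,4,6,10,3,20,19,15,9,2,13,18,5,0,1,12,22,16,21,11,8,17,14,23],[8,16,6,0,15,18,11,10,22,2,5,13,20,3,19,1,7,4,14,12,9,17,21,23],[1,0,1,0,0,0,0,1,1,1,0,1,1,0,0,1,0,0],[1,1,1,0,0,1,1,0,1,0,0,0,0,1,0,0,0,1,0,0,1,1,1])
]

/-- Evaluation of a word. -/
def wordL (x y : List ℕ) : List ℕ → List ℕ
  | [] => idL
  | l :: w => mulL (bif Nat.beq l 0 then x else y) (wordL x y w)

/-- The test for an entry. -/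
def chkT : Trip → Bool
  | (p, q, r, x, y, wa, wb) =>
    isPerm x && isPerm y && autCheck x && autCheck y && Nat.beq (lk x 23) 23 && Nat.beq (lk y 23) 23 &&
      (powL x p == idL) && (x != idL) && (powL y q == idL) && (y != idL) &&
      (powL (mulL x y) r == idL) && (mulL x y != idL) &&
      (wordL x y wa == Cfsg.Agent.S2063.aL) && (wordL x y wb == Cfsg.Agent.S2063.bL)

theorem word_mem {x y : List ℕ} (px : isPerm x = true) (py : isPerm y = true) {K : Subgroup (Equiv.Perm GolayPt)}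
    (hx : perm x ∈ K) (hy : perm y ∈ K) (w : List ℕ) : isPerm (wordL x y w) = true ∧ perm (wordL x y w) ∈ K := by
  induction w with
  | nil =>
    refine ⟨isPerm_idL, ?_⟩
    show perm idL ∈ K
    rw [perm_idL]
    exact K.one_mem
  | cons l w ih =>
    have h1 : isPerm (bif Nat.beq l 0 then x else y) = true ∧ perm (bif Nat.beq l 0 then x else y) ∈ K := by
      cases Nat.beq l 0
      · exact ⟨py, hy⟩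
      · exact ⟨px, hx⟩
    refine ⟨isPerm_mulL h1.1 ih.1, ?_⟩
    show perm (mulL _ _) ∈ K
    rw [perm_mulL h1.1 ih.1]
    exact K.mul_mem h1.2 ih.2

theorem pos_of_chk {p q r : ℕ} {x y wa wb : List ℕ} (hp : p.Prime) (hq : q.Prime) (hr : r.Prime)
    (h : chkT (p, q, r, x, y, wa, wb) = true) :
    ∃ x y z : ↥Spor.M23, orderOf x = p ∧ orderOf y = q ∧ orderOf z = r ∧ x * y * z = 1 ∧
      Subgroup.closure {x, y} = ⊤ := by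
  simp only [chkT, Bool.and_eq_true, beq_iff_eq, bne_iff_ne, Nat.beq_eq, ne_eq] at h
  obtain ⟨⟨⟨⟨⟨⟨⟨⟨⟨⟨⟨⟨⟨px, py⟩, ax⟩, ay⟩, lx⟩, ly⟩, ox⟩, nx⟩, oy⟩, ny⟩, oz⟩, nz⟩, wa1⟩, wb1⟩ := h
  have mx := Cfsg.Agent.S2063.mem_M23_of px ax lx
  have my := Cfsg.Agent.S2063.mem_M23_of py ay ly
  have pxy := isPerm_mulL px py
  haveI : Fact p.Prime := ⟨hp⟩
  haveI : Fact q.Prime := ⟨hq⟩
  haveI : Fact r.Prime := ⟨hr⟩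
  have h1 : orderOf (perm x) = p := orderOf_perm px ox nx
  have h2 : orderOf (perm y) = q := orderOf_perm py oy ny
  have h3 : orderOf (perm (mulL x y)) = r := orderOf_perm pxy oz nz
  refine ⟨⟨perm x, mx⟩, ⟨perm y, my⟩, (⟨perm x, mx⟩ * ⟨perm y, my⟩)⁻¹, ?_, ?_, ?_, ?_, ?_⟩
  · rw [Subgroup.orderOf_mk]; exact h1
  · rw [Subgroup.orderOf_mk]; exact h2
  · rw [orderOf_inv, ← Subgroup.orderOf_coe]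
    show orderOf (perm x * perm y) = r
    rw [← perm_mulL px py]
    exact h3
  · exact mul_inv_cancel _
  · apply closure_pair_eq_top mx my
    refine Cfsg.Agent.S2063.hgen.trans ?_
    rw [Subgroup.closure_le]
    have hxm : perm x ∈ Subgroup.closure {perm x, perm y} := Subgroup.subset_closure (by simp)
    have hym : perm y ∈ Subgroup.closure {perm x, perm y} := Subgroup.subset_closure (by simp)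
    rintro _ (rfl | rfl)
    · rw [← wa1]
      exact (word_mem px py hxm hym wa).2
    · rw [← wb1]
      exact (word_mem px py hxm hym wb).2

theorem tab_ok : tripTable.all chkT = true := by decide +kernel

/-- The primes dividing the order. -/
def L6 : List ℕ := [2, 3, 5, 7, 11, 23]

theorem prime_cases {s : ℕ} (hs : s.Prime) (h : s ∣ 10200960) : s ∈ L6 := by
  have e : 10200960 = 2 ^ 7 * 3 ^ 2 * 5 * 7 * 11 * 23 := by norm_num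
  rw [e] at h
  simp only [hs.dvd_mul] at h
  have hh : ∀ t : ℕ, t.Prime → s ∣ t → s = t := fun t ht hd => (Nat.prime_dvd_prime_iff_eq hs ht).1 hd
  simp only [L6, List.mem_cons, List.not_mem_nil, or_false]
  rcases h with ((((h | h) | h) | h) | h) | h
  · left; exact hh 2 (by norm_num) (hs.dvd_of_dvd_pow h)
  · right; left; exact hh 3 (by norm_num) (hs.dvd_of_dvd_pow h)
  · right; right; left; exact hh 5 (by norm_num) h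
  · right; right; right; left; exact hh 7 (by norm_num) h
  · right; right; right; right; left; exact hh 11 (by norm_num) h
  · right; right; right; right; right; exact hh 23 (by norm_num) h

theorem cover : ∀ p ∈ L6, ∀ q ∈ L6, ∀ r ∈ L6, p ≤ q → q ≤ r → ¬ (p = 2 ∧ q = 2) →
    ¬ ((p = 2 ∧ q = 3) ∨ (p = 2 ∧ q = 5 ∧ r = 5) ∨ (p = 2 ∧ q = 5 ∧ r = 7) ∨ (p = 3 ∧ q = 3 ∧ r ≤ 7)) →
    ∃ t ∈ tripTable, t.1 = p ∧ t.2.1 = q ∧ t.2.2.1 = r := by decide +kernel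

/-- The main theorem. -/
theorem main (p q r : ℕ) (hp : p.Prime) (hq : q.Prime) (hr : r.Prime) (hpq : p ≤ q) (hqr : q ≤ r)
    (hp2 : ¬ (p = 2 ∧ q = 2)) (hdvd : p ∣ 10200960 ∧ q ∣ 10200960 ∧ r ∣ 10200960) :
    (∃ x y z : ↥Spor.M23, orderOf x = p ∧ orderOf y = q ∧ orderOf z = r ∧ x * y * z = 1 ∧
        Subgroup.closure {x, y} = ⊤) ↔
      ¬ ((p = 2 ∧ q = 3) ∨ (p = 2 ∧ q = 5 ∧ r = 5) ∨ (p = 2 ∧ q = 5 ∧ r = 7) ∨ (p = 3 ∧ q = 3 ∧ r ≤ 7)) := by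
  constructor
  · rintro ⟨x, y, z, hx, hy, hz, hxyz, hgen⟩ hexc
    have hR := ree hxyz hgen
    rcases hexc with ⟨rfl, rfl⟩ | ⟨rfl, rfl, rfl⟩ | ⟨rfl, rfl, rfl⟩ | ⟨rfl, rfl, hle⟩
    · have h1 := dd_two hx
      have h2 := dd_three hy
      have h3 := dd_any z
      omega
    · have h1 := dd_two hx
      have h2 := dd_five hy
      have h3 := dd_five hz
      omega
    · have h1 := dd_two hx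
      have h2 := dd_five hy
      have h3 := dd_seven hz
      omega
    · have h1 := dd_three hx
      have h2 := dd_three hy
      have h3 : dd z.1 ≤ 18 := by
        interval_cases r
        · have := dd_three hz
          omega
        · norm_num at hr
        · have := dd_five hz
          omega
        · norm_num at hr
        · exact dd_seven hz
      omega
  · intro hn
    obtain ⟨t, ht, rfl, rfl, rfl⟩ := cover p (prime_cases hp hdvd.1) q (prime_cases hq hdvd.2.1) r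
      (prime_cases hr hdvd.2.2) hpq hqr hp2 hn
    obtain ⟨a, b, c, x, y, wa, wb⟩ := t
    exact pos_of_chk hp hq hr (List.all_eq_true.mp tab_ok _ ht)

end Cfsg.Agent.Lib.M24X.Ree
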