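import Cfsg.Agent.Lib.M24X.Orbits

set_option autoImplicit false
set_option maxRecDepth 100000

namespace Cfsg.Agent.Lib.M24X

def octGens : List (List ℕ) := [
  [5,17,23,0,21,1,7,4,8,6,22,16,19,20,2,9,18,3,15,10,11,12,13,14],
  [5,2,0,14,8,1,12,11,4,10,9,20,15,6,17,13,7,23,22,21,16,19,18,3],
  [3,2,14,23,4,5,7,13,8,12,20,18,10,22,17,11,19,0,9,6,15,16,21,1],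
  [0,3,2,23,12,17,7,20,4,15,6,11,16,22,1,21,8,5,18,9,10,19,13,14]]

def octRoot0 : List ℕ := [
  8536111,3704512,4536592]

def octOps0 : List ℕ := [
  1,1,1,0,0,2,4,0,0,4,4,0,0,0,2,1,0,0,3,2,2,0,0,4,1]

def octP0 : ℕ := 262

def octRoot1 : List ℕ := [
  8391797,4038912,4346506]

def octOps1 : List ℕ := [
  1,1,1,1,1,0,0,2,1,0,2,0,3,0,0,3,1,2,0,0,2,4,0,0,3,1,0,0,4,0,0,4,1,0,2,0,0,0,2,3,2,0,3,0,0,4,0,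
  0,3,1,1,0,0,2,2,1,0,0,4,0,0,4,3,0,4,2,0,0,0,0,4,1,1,0,4,0,0,2,1,0,3,0,0,3,1,0,2,0,0,4,0,0,0,2,
  1,1,2,0,3,0,4,0,0,2,0,4,1,0,2,0,0,0,2,1,1,0,2,0,0,2,0,3,1,2,0,0,4,2,0,3,0,0,0,4,0,0,3,2,1,0,2,
  0,0,3,1,0,2,0,0,4,1,0,2,0,0,0,4,1,1,0,2,2,0,4,0,0,3,1,0,2,0,4,0,0,0,2,3,0,0,3,2,0,0,0,0,3,1,1,
  1,4,0,0,0,2,3,0,0,3,3,0,4,0,0,4,2,3,0,0,3,0,4,0,0,0,2,1,1,0,2,0,3,0,0,2,1,0,2,0,4,0,0,3,3,0,0,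
  0,3,1,4,0,0,4,3,0,4,0,0,0,4,1,1,4,0,0,2,0,0,2,1,0,3,0,4,0,0,3,2,0,0,4,1,0,4,0,0,0,0,4,1,1,1,0,
  2,0,4,0,0,2,1,0,2,0,4,0,0,3,1,0,2,0,0,4,1,0,3,0,0,0,2,1,1,0,4,0,0,2,1,0,3,0,4,0,0,3,0,4,4,0,0,
  0,3,1,1,0,2,0,0,2,3,0,0,4,3,0,4,0,0,0,0,0,2,1,1,1,3,0,0,2,1,0,0,3,0,4,1,0,4,0,0,0,2,1,0,2,1,0,
  0,3,4,0,0,0,3,1,0,2,2,0,3,0,0,3,0,4,0,0,4,1,3,0,4,0,0,3,1,0,0,0,0,2,1,3,0,0,2,1,2,0,0,4,4,0,0,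
  0,3,1,4,0,0,2,0,3,1,0,0,4,1,0,3,0,4,0,0,0,4,1,1,0,3,0,0,2,0,3,0,4,3,0,4,0,0,0,0,3,1,1,1,0,2,0,
  0,2,0,3,1,0,3,0,0,0,2,1,0,2,0,0,3,1,4,0,0,0,4,1,2,0,0,2,0,3,3,0,4,0,0,4,2,0,0,0,0,4,2,2,4,0,0,
  3,1,0,0,4,0,0,4,1,2,0,0,2,1,0,4,2,0,0,0,4,0,0,0,0,3,1,1,1,1,0,0,2,0,4,0,0,4,1,0,3,2,0,0,0,0,2,
  1,1,3,0,0,3,2,0,4,0,0,0,2,4,1,0,0,0,3,1,0,2,0,3,0,4,2,0,0,0,4,1,1,0,3,0,0,3,1,0,4,0,0,4,1,0,0,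
  0,0,3,1,1,0,2,0,3,1,0,3,0,0,4,2,0,4,0,0,0,2,1,3,0,0,0,3,2,0,4,4,0,0,0,4,2,1,0,0,3,2,0,3,0,0,0,
  0,4,1,1,0,2,0,3,0,4,0,0,2,1,2,0,0,3,0,4,1,0,0,0,3,1,4,0,0,3,0,4,1,0,4,0,0,0,4,1,0,3,0,4,0,0,0,
  0,4,1,1,3,2,0,0,0,2,1,0,2,0,4,1,0,0,0,3,3,1,0,0,0,4,2,2,0,3,0,0,3,0,0,0,2,1,1,0,3,0,0,2,1,0,3,
  1,0,2,0,0,4,3,0,0,0,3,1,1,0,0,2,2,0,0,3,0,0,0,3,1,2,0,4,0,0,2,2,4,0,0,3,0,4,4,0,0,0,3,1,0,2,1,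
  0,0,3,0,0,4,1,0,3,0,0,0,4,1,0,2,3,0,0,3,2,0,3,1,0,0,4,0,0,4,1,4,0,0,2]

def octP1 : ℕ := 176401

def octRoot2 : List ℕ := [
  8391797,3539848,4845570]

def octOps2 : List ℕ := [
  1,1,1,1,1,1,1,0,2,0,3,0,4,0,0,3,1,0,4,0,0,0,2,1,0,3,2,0,3,0,4,0,0,4,1,0,4,0,0,0,3,1,2,0,3,0,0,
  4,0,0,0,2,1,1,4,0,0,2,2,0,3,0,4,0,0,3,3,0,0,4,3,0,0,0,2,1,4,0,0,2,1,0,3,0,0,3,0,4,2,0,0,0,3,1,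
  2,0,0,3,1,0,2,0,3,0,4,0,0,4,0,0,4,2,1,0,2,0,3,0,0,3,4,0,0,4,1,0,4,0,0,0,0,3,1,2,0,3,0,4,1,0,2,
  0,0,0,2,1,1,0,3,0,4,0,0,2,3,4,0,0,0,4,2,0,0,0,4,1,0,2,2,0,3,0,0,4,1,0,0,0,0,4,1,3,0,4,1,0,3,0,
  0,0,2,1,0,2,4,0,0,4,0,0,4,1,0,2,2,0,0,3,1,0,0,0,0,0,2,1,1,1,2,0,3,2,0,0,0,2,1,0,4,0,0,3,1,0,4,
  0,0,4,1,0,2,0,4,0,0,0,2,2,3,0,4,0,0,3,2,0,3,0,0,4,1,0,2,0,3,0,0,0,3,2,0,3,1,0,3,0,4,0,0,4,1,0,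
  2,0,3,0,0,0,4,1,0,2,4,0,0,4,1,0,2,0,4,0,0,0,0,2,2,1,0,3,0,4,3,0,4,0,0,0,3,1,3,0,0,2,3,4,0,0,0,
  3,2,0,4,0,0,4,4,0,0,0,4,1,1,0,2,0,3,0,4,0,0,2,1,0,0,4,4,0,0,0,0,3,1,1,2,0,0,4,0,0,3,1,0,2,3,0,
  4,0,0,3,0,0,4,2,3,0,0,3,1,0,0,4,1,0,3,0,0,0,0,4,1,2,2,0,3,0,0,4,0,0,2,1,3,0,0,2,3,0,4,0,0,3,0,
  4,0,0,3,1,0,2,0,3,0,4,1,0,0,0,4,1,0,2,3,0,0,3,2,0,0,0,0,0,3,2,1,1,0,4,0,0,2,1,0,3,0,4,2,0,0,0,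
  3,2,3,0,0,3,1,0,4,0,0,4,2,0,3,0,4,0,0,0,4,1,0,2,2,0,3,0,0,3,0,4,1,0,4,0,0,0,0,3,1,1,3,0,0,3,1,
  0,0,4,3,0,0,0,2,1,0,2,3,0,0,3,0,4,0,0,3,1,0,2,2,0,0,3,1,0,2,0,0,4,2,0,3,0,0,0,4,1,2,0,0,2,3,0,
  0,3,0,4,1,0,2,0,0,0,0,4,1,1,1,0,4,0,0,2,2,0,3,0,0,4,2,0,0,0,2,1,2,0,4,0,0,2,3,0,0,3,1,0,0,4,0,
  0,3,1,2,0,3,0,0,3,2,0,3,0,0,4,2,0,3,0,0,0,4,1,1,0,2,0,4,0,0,2,3,0,0,3,0,4,0,0,0,0,4,1,1,1,0,2,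
  3,0,4,0,0,3,2,0,0,0,2,1,0,4,1,0,0,0,3,1,0,3,2,0,3,0,0,0,4,1,2,0,4,0,0,2,3,0,4,0,0,3,4,0,0,0,0,
  2,2,1,3,0,0,2,4,0,0,4,2,0,3,0,0,0,3,2,3,0,4,0,0,4,0,0,4,1,2,0,0,2,0,3,2,0,4,0,0,4,2,0,0,0,0,3,
  1,3,2,0,0,4,1,0,4,0,0,0,2,1,0,2,0,3,2,0,0,4,0,0,3,1,3,0,0,2,0,3,3,0,0,0,4,1,2,0,0,4,0,0,0,4,1,
  1,2,0,0,2,2,0,0,4,2,0,0,0,4,1,1,0,0,2,1,0,4,0,0,3,3,0,0,0,0,0,0,2,1,1,1,3,0,4,3,0,0,0,2,1,1,0,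
  3,0,4,0,0,2,0,4,0,0,3,1,2,0,0,2,0,0,4,1,1,0,2,0,4,0,0,3,1,0,0,4,0,0,0,2,1,2,0,4,0,0,2,2,3,0,0,
  3,1,0,2,0,0,4,2,0,0,0,3,2,2,0,3,3,0,0,0,4,2,0,0,0,4,1,3,0,0,2,0,3,1,0,3,0,4,0,0,4,0,0,0,3,1,1,
  2,0,3,0,0,4,1,0,3,0,4,0,0,0,2,1,4,0,0,2,4,0,0,0,3,1,1,0,0,4,0,0,4,1,2,0,4,0,0,4,2,0,0,0,0,4,1,
  2,1,0,0,0,2,1,0,2,0,3,3,0,0,0,3,4,0,0,0,0,2,1,1,1,1,0,2,0,0,3,2,0,3,0,4,0,0,0,3,1,0,2,0,4,0,0,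
  4,1,1,0,0,4,1,0,0,0,0,2,1,2,2,0,4,0,0,4,0,0,3,1,2,0,4,0,0,2,2,0,3,0,0,3,1,0,3,0,0,0,4,2,4,0,0,
  0,0,3,1,1,0,2,0,3,2,0,3,0,0,4,1,0,3,0,0,0,2,1,4,0,0,2,2,0,4,0,0,3,1,0,4,0,0,4,1,0,3,0,0,0,3,2,
  4,0,0,3,3,0,0,4,2,0,4,0,0,0,4,2,1,0,2,0,0,4,1,0,0,0,0,4,1,1,4,0,0,2,0,4,0,0,2,3,3,0,0,0,3,2,4,
  0,0,3,0,4,0,0,4,2,0,3,1,0,0,0,0,0,3,1,1,1,1,0,0,4,0,0,2,1,0,2,2,0,4,0,0,4,0,0,3,1,3,0,0,2,1,0,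
  0,0,4,3,0,4,0,0,0,2,1,1,0,2,2,0,3,0,0,0,2,2,0,3,1,0,2,0,0,4,3,0,4,0,0,0,3,1,0,2,3,0,0,3,1,0,2,
  0,0,0,4,2,0,3,0,0,0,3,1,2,1,0,3,0,4,0,0,4,2,0,3,0,4,0,0,0,2,1,1,0,2,0,0,2,3,0,0,4,2,0,0,0,3,1,
  4,0,0,2,4,0,0,4,0,0,4,1,2,0,0,3,2,0,4,0,0,0,0,4,1,1,3,0,0,2,3,0,0,4,0,0,2,4,1,0,3,0,4,0,0,0,3,
  1,2,0,4,0,0,2,0,0,4,1,0,2,0,3,4,2,0,0,0,0,0,0,4,1,1,1,0,4,2,0,0,0,2,2,4,0,0,3,0,4,3,0,4,0,0,0,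
  3,1,2,0,3,0,0,0,4,1,1,0,3,0,4,0,0,2,0,3,0,4,0,0,0,2,1,1,3,0,0,0,2,1,0,2,0,3,0,0,3,1,3,0,0,4,0,
  0,4,1,1,0,0,2,2,0,3,0,4,0,0,3,3,0,0,4,1,0,2,0,4,0,0,0,0,3,2,1,4,0,0,3,3,0,4,0,0,4,4,0,0,0,3,1,
  4,0,0,2,2,0,0,3,0,4,4,0,0,0,0,4,1,1,3,0,4,0,0,4,2,0,3,0,0,0,2,3,2,0,0,4,1,0,3,0,0,0,3,1,0,0,4,
  2,0,0,0,0,0,3,1,1,1,1,0,2,0,4,4,0,0,0,2,1,2,0,3,0,0,4,3,0,0,0,3,2,2,0,0,3,1,0,0,0,0,2,1,4,1,0,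
  0,0,2,1,1,0,3,0,4,0,0,2,3,0,4,0,0,3,0,4,0,0,3,2,3,0,0,3,2,0,3,0,4,0,0,4,0,0,4,2,0,4,2,0,0,0,0,
  3,1,1,3,0,0,3,2,0,0,4,0,0,2,1,3,0,0,2,4,0,0,0,3,1,0,2,3,0,0,3,0,4,0,0,4,1,3,0,0,2,0,3,1,0,0,0,
  0,0,2,1,1,1,0,3,0,4,0,0,2,2,2,0,0,4,1,0,0,0,3,1,0,2,0,4,4,0,0,0,4,1,1,0,0,2,2,0,3,0,4,0,0,3,0,
  0,0,2,1,1,1,0,0,3,0,4,0,0,2,4,0,0,4,1,1,0,0,3,4,0,0,0,0,3,1,4,0,0,2,1,0,4,0,0,3,2,2,0,3,0,0,0,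
  4,1,2,0,3,0,0,2,0,3,3,0,0,0,0,4,1,2,2,0,0,3,0,4,0,0,2,1,1,0,0,2,1,0,0,3,1,0,2,0,0,4,0,0,3,1,4,
  0,0,3,4,0,0,0,0,0,3,1,1,1,0,0,2,3,1,0,0,0,3,1,0,3,3,0,4,0,0,4,4,0,0,0,4,1,4,0,0,2,2,0,0,3,3,0,
  0,4,1,0,3,0,0,0,0,2,1,1,2,0,0,2,3,0,0,3,0,4,1,0,0,0,2,1,1,0,2,0,3,0,0,2,1,0,3,0,0,0,4,2,1,0,3,
  0,0,4,0,0,0,3,1,1,1,0,2,0,0,2,1,0,2,0,0,4,0,0,2,2,0,3,0,4,0,0,3,2,0,3,1,0,0,4,1,0,3,0,4,0,0,0,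
  4,3,2,0,0,0,0,4,3,3,1,0,4,0,0,4,3,0,4,0,0,0,4,1,0,2,0,3,1,0,2,0,0,0,0,0,4,1,1,2,1,0,0,3,0,4,2,
  0,3,0,0,0,3,2,0,3,0,0,0,2,1,1,4,0,0,4,0,0,2,1,0,2,0,3,0,0,3,1,1,0,0,2,0,3,2,0,3,0,0,4,3,0,0,0,
  4,2,0,3,0,0,0,3,1,1,0,2,4,0,0,3,3,0,4,0,0,4,2,0,0,0,2,1,1,0,0,2,1,0,0,4,3,0,0,0,3,1,2,0,0,3,0,
  0,4,1,1,0,2,0,0,0,0,4,1,1,1,0,2,0,0,0,2,3,1,0,0,4,3,0,0,0,4,1,0,2,1,0,0,3,1,0,0,0,0,0,0,4,1,1,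
  1,4,3,0,0,0,2,1,0,2,1,0,3,0,0,0,3,3,2,0,3,0,0,0,4,2,1,0,0,3,0,4,0,0,0,2,1,1,1,0,0,3,0,4,0,0,2,
  1,1,0,0,2,0,0,3,1,0,2,0,3,0,4,2,0,4,0,0,0,4,2,2,0,0,0,0,3,1,1,2,0,0,3,0,4,0,0,2,1,3,0,0,3,4,0,
  0,0,3,4,0,0,4,1,4,0,0,2,4,0,0,3,0,4,0,0,0,4,1,1,4,0,0,2,4,0,0,3,0,4,3,0,0,0,2,1,0,3,0,0,3,3,0,
  4,4,0,0,0,4,2,1,0,0,0,0,0,2,1,1,1,0,2,2,0,0,3,0,0,2,2,1,0,0,0,3,1,1,0,0,3,0,4,0,0,4,1,1,0,0,2,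
  4,0,0,3,0,0,0,2,2,1,0,3,0,0,3,1,2,0,0,2,1,0,0,4,0,0,4,3,0,4,0,0,0,4,1,2,0,3,0,0,2,1,2,0,3,0,0,
  4,0,0,3,1,0,2,2,0,0,3,0,4,0,0,0,0,3,1,1,3,3,0,0,0,2,1,4,0,0,2,3,0,0,4,0,0,3,1,2,0,0,2,0,3,4,0,
  0,4,0,0,0,2,1,1,0,3,0,4,0,0,2,0,3,1,0,2,4,0,0,3,0,4,0,0,4,1,3,0,0,2,2,0,0,4,2,0,3,0,0,0,0,3,1,
  3,0,4,2,0,0,0,2,1,4,0,0,3,0,0,0,4,1,1,3,0,0,2,3,0,0,3,0,0,2,1,0,2,0,4,0,0,3,1,1,0,0,3,0,0,4,2,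
  0,3,0,4,0,0,0,0,4,1,1,1,3,0,0,2,1,0,2,0,4,0,0,4,0,0,2,1,0,4,4,0,0,0,3,1,2,0,0,2,1,0,0,3,0,4,0,
  0,0,2,1,4,4,0,0,0,2,1,1,0,4,0,0,2,0,3,0,4,1,0,0,0,4,3,0,0,0,3,1,1,0,3,3,0,0,4,0,0,2,0,3,0,0,4,
  1,1,0,2,4,0,0,0,2,1,0,2,0,3,0,4,0,0,3,3,0,4,1,0,0,0,0,0,0,0,2,1,1,1,1,2,0,3,4,0,0,4,0,0,2,2,2,
  0,3,0,0,3,0,4,0,0,3,1,2,0,0,2,0,3,3,0,0,0,0,2,1,1,0,2,2,0,0,3,2,0,0,0,2,3,4,0,0,0,3,0,4,2,3,0,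
  0,3,3,0,0,0,0,3,2,2,0,3,1,0,0,4,4,0,0,0,3,2,0,3,1,0,4,0,0,4,0,0,4,1,4,0,0,2,4,0,0,0,0,4,1,1,0,
  2,0,3,0,0,2,1,0,2,0,4,3,0,0,0,3,1,0,3,2,0,0,4,3,0,0,0,4,1,0,2,2,0,0,3,2,0,3,0,0,4,0,0,0,0,2,1,
  1,1,0,2,0,4,0,0,2,2,1,0,4,0,0,3,0,4,0,0,3,4,2,0,0,0,4,0,0,2,1,3,0,4,0,0,2,0,3,3,0,4,3,0,4,0,0,
  0,4,1,0,4,2,0,0,0,0,3,1,1,4,0,0,2,3,0,4,0,0,0,2,2,0,4,0,0,3,1,0,2,1,0,3,0,0,0,4,0,0,4,2,2,0,3,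
  2,0,3,0,0,4,0,0,3,1,1,0,0,4,0,0,4,2,0,3,0,4,0,0,0,0,3,1,1,1,0,2,0,3,0,4,0,0,2,3,0,4,0,0,3,1,0,
  2,0,3,0,4,3,0,0,0,4,1,1,0,0,2,4,0,0,3,0,0,0,2,1,1,1,0,0,2,0,0,2,1,1,0,0,2,0,3,0,4,0,0,3,1,4,0,
  0,3,4,0,0,0,0,3,1,1,0,0,2,1,0,2,0,0,3,1,3,0,0,3,0,4,0,0,4,1,0,2,0,3,0,4,3,0,0,0,0,4,1,1,0,2,0,
  3,0,4,0,0,2,3,4,0,0,4,0,0,3,2,0,3,1,0,0,4,0,0,4,2,1,0,0,3,4,0,0,0,0,0,4,1,1,2,0,0,2,2,2,0,0,3,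
  4,0,0,4,1,0,0,0,3,1,0,3,0,4,0,0,4,1,0,2,4,0,0,4,0,0,0,2,2,1,1,0,0,2,0,3,0,4,1,0,4,0,0,0,4,1,4,
  0,0,3,0,4,1,0,0,0,0,3,1,1,0,3,0,4,2,0,0,0,4,1,3,0,0,3,0,0,0,4,2,1,1,0,0,3,1,0,3,0,0,4,4,0,0,0,
  3,2,0,0,4,3,3,0,0,0,0,0,0,2,1,1,1,1,0,2,3,0,0,4,0,0,2,1,4,0,0,3,0,4,2,0,0,0,3,1,0,2,0,0,4,2,0,
  3,3,0,0,4,0,0,0,2,1,3,1,0,0,4,0,0,2,1,4,0,0,2,0,3,4,0,0,4,0,0,4,2,0,3,0,0,0,3,1,0,2,1,2,0,3,0,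
  4,0,0,3,0,0,3,4,0,0,4,1,0,3,1,0,0,0,0,4,1,1,0,3,1,0,0,4,0,0,4,2,4,0,0,3,0,4,0,0,0,0,2,1,2,1,1,
  0,0,2,1,0,2,0,0,4,0,0,3,2,0,3,0,4,0,0,4,0,0,3,2,1,0,3,0,4,0,0,3,1,3,0,0,2,0,3,0,0,4,1,4,0,0,2,
  1,0,0,3,4,0,0,4,4,0,0,0,0,4,2,1,0,2,1,0,0,3,0,4,0,0,3,0,4,1,2,0,0,2,0,4,0,0,0,0,3,1,2,0,3,1,2,
  0,0,3,0,0,0,2,1,1,3,0,0,2,0,4,0,0,2,2,0,3,0,4,0,0,3,0,4,1,0,2,0,3,0,4,0,0,0,3,1,2,0,4,0,0,3,2,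
  0,3,1,0,0,0,4,2,3,0,0,3,1,0,4,0,0,0,0,4,1,1,0,2,0,3,0,0,2,3,0,0,3,0,4,1,0,2,4,0,0,4,1,0,0,0,0,
  0,4,1,1,2,0,4,0,0,2,0,3,0,4,2,0,3,0,4,1,0,0,0,0,2,2,0,3,2,2,0,0,0,4,1,2,0,0,3,0,4,2,0,3,0,0,0,
  0,3,1,2,0,3,0,4,4,0,0,0,3,1,0,2,2,0,3,0,0,3,0,4,0,0,4,1,0,3,0,0,0,4,1,1,0,2,2,0,0,3,0,0,2,1,0,
  2,0,3,0,4,1,0,0,0,3,1,0,3,0,0,4,0,0,0,0,3,1,1,1,1,0,4,3,0,0,0,2,3,4,0,0,0,3,1,1,0,0,2,1,0,0,3,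
  0,0,4,1,0,2,0,3,2,0,0,4,1,0,0,0,0,2,1,1,0,3,0,0,2,1,0,2,0,0,3,2,0,4,0,0,4,2,0,0,0,3,1,3,0,4,2,
  0,0,0,2,1,0,2,0,3,1,0,0,0,3,1,4,0,0,3,0,0,0,4,1,2,0,4,0,0,2,2,0,3,0,0,0,0,2,1,1,2,0,3,0,4,2,0,
  0,0,4,1,0,3,0,0,0,2,1,1,0,2,0,4,0,0,2,1,0,4,0,0,3,2,0,3,0,4,1,0,0,0,4,1,1,0,0,3,0,4,0,0,0,4,2,
  1,0,0,3,4,0,0,0,0,3,1,1,2,0,4,0,0,2,2,0,3,3,0,0,0,3,1,2,0,0,2,0,0,4,1,0,2,0,0,0,2,1,1,0,2,0,0,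
  2,4,0,0,3,1,1,0,0,2,0,3,0,4,0,0,4,1,0,2,0,0,0,3,2,2,0,0,3,1,0,2,0,3,4,0,0,4,3,0,0,0,4,2,0,3,0,
  0,0,4,3,1,0,2,0,4,0,0,4,1,0,2,0,3,0,4,0,0,0,0,4,1,1,0,2,1,0,2,0,3,0,4,0,0,3,3,0,0,4,1,0,2,0,3,
  0,0,0,3,1,1,0,4,0,0,3,2,0,3,2,0,0,4,0,0,0,4,2,3,0,4,0,0,3,1,0,2,0,3,0,0,4,2,0,0,0,0,0,4,1,1,2,
  2,3,0,0,0,3,0,4,2,0,0,0,2,2,1,0,4,0,0,3,1,0,4,0,0,0,3,1,1,0,3,0,4,1,0,4,0,0,0,2,1,0,4,0,0,4,1,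
  0,3,0,4,0,0,0,4,1,1,0,2,0,3,0,4,0,0,2,1,4,0,0,3,0,4,0,0,3,1,0,0,4,1,2,0,0,4,3,0,0,0,0,0,2,1,1,
  3,0,0,2,2,0,3,0,0,3,1,0,3,1,0,0,4,0,0,0,2,1,2,0,4,0,0,2,1,0,0,3,1,0,3,0,4,0,0,4,1,0,2,0,3,4,0,
  0,0,0,4,2,2,0,4,1,0,0,0,3,2,0,0,4,2,0,4,0,0,0,0,3,1,1,3,3,0,0,0,2,1,4,0,0,2,0,0,3,1,0,2,2,0,0,
  4,3,0,0,0,4,1,0,2,0,3,0,4,0,0,0,2,2,2,0,4,0,0,3,2,3,0,0,0,0,3,1,2,0,3,0,4,0,0,2,1,0,3,0,0,0,4,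
  1,1,3,0,0,0,3,2,0,3,0,4,3,0,0,0,4,1,0,3,0,0,0,0,4,1,1,1,0,2,4,0,0,3,0,4,0,0,2,1,0,2,0,3,2,0,0,
  0,3,2,0,0,4,2,2,0,0,3,3,0,0,0,0,2,1,3,1,0,3,0,0,0,2,1,0,2,0,3,0,0,4,2,2,0,0,3,0,4,0,0,0,3,2,1,
  1,0,0,2,1,0,0,4,1,0,0,0,4,2,0,3,4,0,0,4,0,0,0,4,1,4,0,0,2,1,0,2,0,3,0,4,0,0,3,2,0,4,0,0,0,0,0,
  0,3,1,1,1,1,3,0,0,2,1,0,2,0,3,0,0,4,1,0,0,0,2,1,2,0,0,2,1,0,3,0,0,3,2,0,4,0,0,4,2,0,3,0,0,0,3,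
  1,0,2,2,0,3,2,0,0,4,2,0,0,0,4,2,0,4,0,0,0,4,1,3,0,0,2,1,0,4,0,0,0,0,2,1,1,3,1,0,0,4,0,0,2,4,0,
  0,3,1,0,2,2,0,3,0,0,4,0,0,0,2,2,1,0,3,0,4,0,0,3,2,0,4,0,0,4,1,1,0,0,2,2,0,0,3,0,4,0,0,0,3,1,2,
  2,0,0,0,2,3,0,0,3,2,0,3,0,0,0,4,2,4,0,0,3,1,0,3,0,4,1,0,0,0,4,4,0,0,0,0,3,1,1,2,2,0,0,4,0,0,2,
  0,3,1,2,0,3,0,0,2,0,0,4,2,0,0,0,2,1,4,0,0,2,1,0,2,0,3,0,4,0,0,4,2,4,0,0,3,1,0,0,0,0,3,1,3,0,0,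
  2,1,0,2,0,3,0,0,3,1,0,3,2,0,0,4,4,0,0,0,4,2,0,0,0,4,1,2,0,0,2,3,3,0,0,0,3,0,4,3,0,4,0,0,0,0,4,
  1,1,2,0,0,3,2,0,3,0,4,0,0,4,1,0,2,0,4,0,0,0,2,2,2,0,3,0,4,1,0,0,0,3,1,0,3,0,0,0,3,1,1,0,2,0,0,
  2,1,0,3,0,0,3,1,2,0,0,2,0,0,4,1,0,2,0,3,0,0,0,4,1,1,0,2,0,4,0,0,2,1,0,3,0,4,0,0,3,3,0,0,4,3,0,
  0,0,0,0,2,1,1,1,1,3,0,0,4,0,0,2,1,3,0,0,2,0,0,3,4,0,0,4,1,0,2,0,3,0,0,0,2,1,1,0,0,2,2,0,3,0,0,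
  3,2,0,3,0,0,0,3,2,1,0,2,0,3,0,0,3,0,4,1,0,2,0,3,0,4,0,0,0,4,1,3,0,0,2,1,0,0,3,3,0,0,4,3,0,0,0,
  0,2,2,1,2,0,0,3,1,3,0,0,3,0,4,1,0,3,0,0,0,4,3,0,4,0,0,0,4,1,1,0,2,0,0,2,3,0,0,3,3,0,4,0,0,4,4,
  0,0,0,0,3,1,1,1,0,2,0,4,0,0,2,2,0,4,0,0,3,0,4,1,0,2,0,0,0,2,2,2,0,0,3,2,0,0,4,0,0,3,1,2,0,0,2,
  1,0,3,0,4,0,0,3,3,0,0,4,3,1,0,0,4,0,0,0,4,1,1,0,2,0,3,0,4,0,0,2,2,0,4,0,0,3,3,2,0,0,4,0,0,0,0,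
  4,1,1,3,2,0,0,4,0,0,4,2,0,0,0,2,1,1,0,3,0,4,0,0,2,3,0,4,0,0,3,1,0,0,4,1,0,3,0,0,0,3,1,3,0,4,0,
  0,2,2,0,3,0,0,3,1,0,0,4,4,0,0,0,4,1,3,0,4,0,0,2,1,0,0,3,0,0,0,0,3,1,1,1,1,0,2,0,3,0,0,2,2,0,0,
  4,3,2,0,0,0,0,2,1,1,0,2,4,0,0,3,0,4,0,0,2,1,0,3,0,4,2,0,0,0,3,2,0,3,0,0,4,2,0,4,0,0,0,3,1,3,0,
  0,3,3,0,0,4,0,0,4,1,2,0,4,0,0,3,1,0,3,1,0,0,0,4,0,0,0,2,1,1,1,2,0,0,2,3,0,0,0,2,1,0,2,0,0,0,3,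
  1,1,4,0,0,2,0,4,1,0,4,0,0,0,3,1,0,0,4,1,4,0,0,0,0,4,1,1,0,2,3,0,0,3,0,4,0,0,2,3,0,4,0,0,3,2,0,
  3,3,0,0,0,4,1,0,2,0,3,0,0,0,0,3,1,1,1,0,0,2,0,3,1,0,2,0,4,0,0,0,2,1,1,0,0,2,2,0,4,3,0,0,0,3,4,
  3,0,0,0,4,0,0,4,1,1,0,3,4,0,0,0,2,1,0,2,0,0,4,1,0,2,0,3,0,4,0,0,0,0,4,1,1,0,2,4,0,0,3,1,0,3,0,
  0,0,2,3,3,0,0,4,1,0,0,0,3,1,2,0,0,2,2,0,0,3,1,0,2,0,4,0,0,4,0,0,0,0,4,1,1,1,1,0,2,0,0,2,1,0,2,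
  0,3,0,4,0,0,3,2,0,4,3,0,4,0,0,0,4,2,0,4,0,0,0,2,1,1,0,4,0,0,2,0,4,1,0,2,0,3,0,0,0,3,1,0,3,1,0,
  2,0,0,4,2,0,4,0,0,0,4,1,2,4,0,0,3,0,4,0,0,2,1,0,0,4,1,0,0,0,0,2,2,2,4,0,0,4,3,0,4,0,0,0,3,1,3,
  0,4,0,0,2,2,0,3,0,4,0,0,0,4,4,1,0,2,0,4,0,0,0,0,3,1,1,4,0,0,2,1,0,0,3,2,0,4,3,0,0,0,4,1,0,2,0,
  4,0,0,0,2,1,1,0,0,2,2,0,3,0,4,0,0,3,3,0,0,4,2,0,0,0,3,1,2,0,3,0,0,2,3,0,0,4,0,0,4,1,2,0,4,0,0,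
  2,1,0,3,0,0,4,2,0,0,0,0,4,1,1,0,3,2,0,4,0,0,4,1,4,0,0,2,1,0,0,0,0,2,2,0,0,3,1,0,2,1,0,2,0,3,0,
  4,4,0,0,0,3,3,0,0,4,1,0,3,0,0,0,4,1,2,1,0,0,3,0,0,2,1,0,3,0,4,0,0,3,2,0,3,3,0,0,0,0,0,0,0,4,1,
  1,1,1,2,0,0,2,1,0,2,0,0,3,1,4,0,0,0,4,1,2,0,0,4,0,0,0,2,2,2,0,3,0,0,4,2,0,0,0,3,1,4,0,0,4,2,0,
  4,0,0,0,4,1,1,0,3,0,0,2,2,1,0,0,3,0,4,0,0,3,0,4,0,0,0,2,1,1,1,0,0,2,1,0,4,0,0,3,2,0,4,0,0,4,4,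
  0,0,0,2,2,1,0,0,3,2,0,0,0,3,1,1,1,0,0,4,0,0,2,3,0,0,3,4,0,0,4,3,0,4,0,0,0,4,1,0,2,3,0,0,3,0,0,
  0,3,1,1,2,0,4,3,0,0,0,4,3,0,0,0,2,1,1,2,0,0,2,0,3,0,0,3,0,4,0,0,3,2,1,0,0,3,2,1,0,0,0,4,1,0,4,
  0,0,0,4,2,3,0,4,0,0,3,0,4,1,1,0,0,2,2,0,0,0,0,0,4,1,2,1,0,2,0,0,3,1,0,3,0,4,0,0,0,2,1,1,0,2,0,
  0,2,3,0,0,4,0,0,3,2,1,3,0,0,3,0,4,2,0,0,0,4,3,0,0,0,4,1,2,0,3,0,4,0,0,2,0,3,3,0,4,0,0,4,2,0,3,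
  0,0,0,0,0,2,1,1,1,3,0,4,0,0,2,4,0,0,3,1,0,4,0,0,0,2,1,1,0,2,0,4,0,0,2,1,0,3,0,4,2,0,0,0,3,2,0,
  4,0,0,4,3,1,0,0,0,0,3,2,3,0,4,0,0,3,3,0,0,4,2,0,3,0,4,0,0,0,4,2,4,0,0,4,3,0,4,0,0,0,0,2,1,1,4,
  0,0,2,4,0,0,3,2,0,4,0,0,4,4,0,0,0,2,1,3,0,0,4,0,0,4,1,1,0,2,0,0,2,1,0,3,0,4,0,0,3,3,0,4,0,0,4,
  0,0,0,3,1,1,4,0,0,2,1,0,3,0,4,0,0,4,0,0,2,1,1,0,4,0,0,2,1,0,4,0,0,3,2,0,3,0,4,0,0,4,1,0,2,0,0,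
  0,3,1,2,0,3,0,0,3,1,0,0,4,3,0,0,0,4,1,3,0,0,2,3,0,0,3,2,1,0,0,3,0,4,0,0,0,0,4,1,1,2,0,3,0,0,2,
  3,0,0,4,0,0,2,1,4,0,0,3,0,0,3,1,4,0,0,2,2,0,0,3,0,4,1,0,0,0,4,1,1,0,2,0,3,1,0,0,0,4,1,0,2,0,3,
  0,0,0,0,0,3,1,1,3,1,0,0,4,1,0,2,0,0,0,2,1,3,0,0,4,2,0,3,0,4,0,0,0,3,2,1,0,2,4,0,0,0,3,0,4,1,0,
  0,0,4,1,0,2,1,0,0,3,2,0,0,0,0,2,1,3,1,0,2,0,3,0,0,4,1,0,0,0,2,1,1,0,2,2,0,0,0,2,3,0,0,3,1,0,0,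
  4,0,0,3,1,1,0,2,0,0,4,1,0,2,0,3,0,4,0,0,0,0,3,1,1,0,2,1,0,4,0,0,3,1,3,0,0,3,0,0,0,2,2,2,0,4,0,
  0,3,3,0,0,4,2,0,0,0,3,1,2,0,0,2,4,0,0,3,3,0,0,0,4,4,1,0,2,0,3,0,0,0,0,4,1,1,3,0,4,0,0,2,3,0,0,
  3,3,0,0,0,2,2,1,0,2,0,4,0,0,3,1,0,2,0,4,0,0,0,3,1,2,0,3,0,0,2,1,0,4,0,0,3,1,0,3,0,4,0,0,4,4,2,
  0,0,0,0,4,2,1,0,3,0,0,4,1,0,0,0,0,0,4,1,1,2,2,0,0,3,2,0,4,0,0,4,1,0,4,0,0,0,2,1,2,0,3,0,0,2,1,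
  0,3,3,0,0,0,4,1,1,0,0,4,0,0,0,3,1,1,0,3,0,0,2,2,0,0,3,0,4,3,0,0,0,4,0,0,2,1,2,1,0,2,0,4,0,0,3,
  1,0,2,0,0,0,2,2,3,0,0,3,2,0,0,4,2,0,0,0,3,1,0,2,0,3,1,0,3,0,4,0,0,0,4,1,2,0,0,3,3,0,0,4,4,0,0,
  0,0,3,1,1,1,0,3,0,4,0,0,2,1,0,4,0,0,3,1,0,3,0,0,4,1,0,0,0,2,1,3,0,0,2,2,0,0,3,1,0,2,0,4,0,0,4,
  1,0,2,0,3,0,4,0,0,0,3,1,2,0,0,2,0,3,0,4,1,0,0,0,4,1,3,0,0,2,3,0,0,3,2,0,4,0,0,4,0,0,0,4,1,1,4,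
  0,0,2,1,0,0,3,1,0,3,0,0,4,1,0,0,0,2,3,0,4,0,0,3,1,2,0,4,0,0,3,2,0,4,0,0,4,2]

def octP2 : ℕ := 11289602

def octRoot3 : List ℕ := [
  8388615,2621632,1082880,268544,4268048,147496]

def octOps3 : List ℕ := [
  1,1,2,0,4,4,0,0,0,2,1,0,2,0,3,1,0,2,0,0,0,3,4,0,0,4,2,0,3,0,0,0,2,1,2,3,0,0,0,3,1,3,0,0,2,0,3,
  0,0,0,3,2,2,0,4,0,0,4,1,0,0,0,4,2,0,3]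

def octP3 : ℕ := 1227

def octRoot4 : List ℕ := [
  8388689,3108,852224,135682,3186688,4210824]

def octOps4 : List ℕ := [
  1,1,1,1,1,3,0,0,2,0,3,1,0,2,0,0,4,2,0,0,0,2,1,0,2,2,3,0,0,0,3,3,0,4,0,0,4,2,0,0,0,3,1,0,2,0,3,
  3,0,4,0,0,4,0,0,4,1,1,0,2,0,4,0,0,3,2,0,0,0,0,2,2,1,4,0,0,2,1,0,0,0,3,3,2,0,0,4,0,0,4,1,2,0,0,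
  2,3,0,0,3,2,0,0,4,4,0,0,0,0,3,1,1,3,0,0,0,2,1,1,0,0,3,0,4,4,0,0,0,3,1,2,0,0,2,3,0,0,3,3,0,0,4,
  1,0,0,0,4,2,0,3,1,0,3,0,0,0,0,4,1,2,4,0,0,3,2,0,0,4,3,0,0,0,2,1,2,0,0,2,3,0,0,3,1,0,0,0,3,1,1,
  0,0,2,4,0,0,3,3,0,0,4,4,0,0,0,4,3,1,0,3,0,0,4,1,0,0,0,0,0,2,1,1,1,1,0,3,0,4,0,0,2,0,3,0,4,2,0,
  4,0,0,0,2,1,0,2,1,0,2,0,0,3,3,0,0,4,2,0,0,0,3,2,4,0,0,3,3,0,4,0,0,0,4,1,0,2,0,3,4,0,0,4,2,0,0,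
  0,0,2,1,1,3,0,0,2,1,0,0,3,2,0,0,4,0,0,3,1,2,0,0,4,3,0,0,0,4,2,2,0,0,4,0,0,0,3,2,2,4,0,0,3,2,0,
  0,4,3,0,0,0,3,1,0,4,0,0,4,1,4,0,0,2,0,3,0,0,0,4,1,1,2,0,0,2,1,0,4,0,0,4,3,0,0,0,2,2,1,0,4,0,0,
  3,2,0,4,0,0,4,1,0,0,0,3,1,0,2,0,3,0,4,4,0,0,0,4,1,1,0,4,0,0,2,0,3,3,0,0,4,0,0,0,0,3,1,1,0,2,1,
  0,3,0,4,0,0,4,3,3,0,0,4,0,0,0,2,1,2,0,4,1,0,0,0,2,3,0,0,3,2,0,3,0,4,4,0,0,0,4,1,1,0,0,0,0,3,1,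
  2,0,3,0,4,0,0,2,1,2,0,0,3,0,4,1,0,0,0,3,1,1,0,0,3,1,0,4,0,0,0,4,2,0,4,0,0,0,4,1,3,0,0,2,2,4,0,
  0,3,2,0,0,0,3,2,0,3,0,0,4,2,1,0,0,4,0,0,0,0,4,1,1,1,0,2,0,3,0,4,2,0,0,0,2,1,3,0,4,0,0,2,3,0,4,
  0,0,3,0,0,3,1,0,2,0,3,1,0,2,0,3,0,0,4,3,0,0,0,4,1,2,0,3,0,0,2,4,0,0,3,0,4,1,0,0,0,0,2,1,2,4,0,
  0,4,3,0,0,0,2,1,0,2,4,0,0,3,0,4,0,0,3,1,1,0,4,0,0,2,3,0,0,4,0,0,4,3,0,4,0,0,0,3,2,1,0,3,3,0,0,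
  4,0,0,3,2,0,3,0,4,4,0,0,0,4,1,0,2,0,4,0,0,0,4,1,1,2,0,3,0,0,2,0,4,0,0,2,3,1,0,2,0,0,0,3,1,0,2,
  0,3,0,0,4,1,0,2,0,3,0,0,0,0,0,2,1,1,1,1,0,3,1,0,0,4,0,0,2,1,3,0,0,2,0,3,0,0,4,1,0,2,0,0,0,2,1,
  3,4,0,0,0,2,1,0,3,0,0,3,2,2,0,0,4,0,0,4,0,0,3,1,1,0,3,3,0,0,4,4,0,0,0,2,1,0,2,0,3,0,4,0,0,3,1,
  2,0,0,2,0,3,0,4,0,0,4,1,0,0,0,4,1,2,0,3,4,0,0,0,2,1,0,2,2,0,0,0,3,0,4,4,0,0,0,0,2,1,1,1,0,2,0,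
  0,3,1,0,2,0,4,2,0,0,0,4,0,0,2,1,2,0,3,4,0,0,0,3,1,0,2,2,0,0,0,4,1,1,0,0,2,0,0,0,3,1,1,0,3,1,0,
  0,4,0,0,2,1,0,3,0,0,3,2,4,0,0,3,0,4,0,0,4,1,1,0,0,3,0,0,0,4,1,3,0,4,0,0,2,3,0,0,3,1,0,3,1,0,0,
  4,0,0,0,0,3,1,1,4,0,0,2,3,1,0,0,4,0,0,3,2,0,3,4,0,0,0,4,1,0,4,0,0,0,2,1,1,0,2,0,4,1,0,0,0,2,1,
  0,3,0,0,0,3,1,3,0,4,0,0,2,3,0,4,0,0,3,1,0,3,0,0,4,0,0,4,1,3,0,0,2,2,0,3,0,0,3,2,0,3,0,4,0,0,4,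
  1,0,2,0,4,0,0,0,0,4,1,1,2,0,3,0,4,0,0,3,1,0,4,3,0,0,0,4,1,0,0,0,2,2,2,0,3,3,0,0,4,0,0,3,1,0,3,
  1,0,0,4,0,0,4,4,0,0,0,4,1,1,4,0,0,2,0,3,0,4,0,0,2,1,0,2,0,3,0,0,3,4,3,0,0,0,4,2,0,0,0,0,0,3,1,
  1,1,1,0,0,2,1,0,2,0,0,4,2,0,0,0,2,2,2,0,3,1,0,0,0,3,2,0,3,0,0,4,1,1,0,0,2,0,4,0,0,0,3,1,2,0,4,
  0,0,3,1,0,3,0,0,4,2,0,0,0,4,1,4,0,0,2,1,0,2,0,3,0,0,3,2,1,0,0,0,4,1,0,4,0,0,0,0,2,1,1,3,0,4,0,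
  0,2,2,0,0,3,1,0,2,0,3,0,0,4,0,0,3,1,3,0,0,2,1,0,3,0,0,3,2,0,3,0,0,4,2,0,0,0,4,1,1,0,2,0,4,0,0,
  3,3,0,0,4,2,0,3,1,0,0,0,0,0,3,1,1,1,0,3,1,0,0,0,2,0,4,2,0,4,3,0,0,0,0,2,1,1,0,2,2,0,0,4,0,0,2,
  3,0,0,3,3,0,4,0,0,4,2,0,3,0,0,0,4,1,1,0,2,0,3,0,4,0,0,2,4,0,0,3,1,0,0,0,0,4,1,1,3,0,0,2,0,3,1,
  0,0,4,1,0,4,0,0,0,2,1,1,0,3,0,4,0,0,2,1,0,3,0,0,3,2,0,0,0,3,1,1,0,0,2,3,0,4,0,0,3,0,4,4,0,0,0,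
  4,3,3,0,4,0,0,4,3,0,0,0,0,0,4,1,1,4,1,0,2,0,3,0,0,0,2,1,1,0,4,0,0,3,1,0,2,0,0,4,2,1,0,0,0,0,3,
  1,1,0,2,0,4,0,0,2,1,0,2,0,4,0,0,3,1,0,0,4,4,4,0,0,0,0,4,3,3,2,0,0,0,0,0,2,1,1,1,0,0,2,3,0,4,0,
  0,3,0,4,1,0,0,0,2,1,1,0,0,2,3,0,0,3,1,0,4,0,0,0,3,1,0,4,3,0,0,0,4,1,0,3,4,0,0,4,1,0,2,0,4,0,0,
  0,0,3,1,2,0,4,2,0,3,0,0,0,2,2,3,0,4,0,0,4,2,0,3,3,0,0,0,0,3,1,1,0,3,0,0,2,0,3,1,0,3,0,0,4,2,0,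
  0,0,4,1,2,1,0,0,3,0,0,2,0,3,1,0,2,0,4,0,0,0,0,4,1,1,4,0,0,2,0,3,0,4,4,3,0,0,0,0,2,2,1,0,4,0,0,
  3,4,0,0,4,0,0,3,2,2,0,3,0,0,3,2,0,4,0,0,4,0,0,4,2,0,3,2]

def octP4 : ℕ := 705603

def octRoot5 : List ℕ := [
  8388627,1574920,33184,135744,4268036,2376704]

def octOps5 : List ℕ := [
  1,1,1,1,1,2,0,3,0,4,0,0,2,3,0,0,3,2,0,0,4,1,0,3,0,4,0,0,0,2,1,3,0,0,2,2,0,3,0,0,3,1,0,3,0,0,4,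
  3,0,0,0,3,2,3,0,0,3,1,0,2,0,3,1,0,0,4,0,0,4,0,0,4,1,3,0,0,2,2,0,3,0,4,0,0,3,2,0,3,0,0,4,2,0,3,
  0,4,1,0,0,0,0,0,2,1,1,1,0,3,0,0,2,2,2,0,0,3,0,4,0,0,0,2,1,0,3,3,0,0,4,1,0,2,0,3,0,0,0,3,1,1,0,
  2,0,0,2,1,0,2,0,0,3,1,0,2,0,3,0,4,0,0,4,1,0,3,0,0,0,4,2,4,0,0,3,1,0,3,0,4,0,0,0,0,3,1,2,2,0,4,
  0,0,3,1,0,4,0,0,4,0,0,2,1,0,2,3,0,0,3,2,0,0,4,0,0,3,1,1,0,0,2,1,0,0,3,2,0,3,0,4,0,0,4,3,0,0,0,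
  4,3,2,0,0,4,0,0,0,4,1,1,0,3,3,0,0,4,3,0,0,0,2,1,1,0,4,0,0,2,1,0,0,3,2,0,4,0,0,4,0,0,3,1,4,0,0,
  2,4,0,0,3,1,0,0,0,4,1,2,0,4,0,0,2,3,0,0,4,0,0,0,0,2,1,1,2,2,0,0,3,4,0,0,4,1,0,0,0,2,1,3,0,4,0,
  0,3,2,0,3,0,4,0,0,0,3,1,0,2,1,0,0,3,1,0,0,0,4,2,4,0,0,4,1,0,0,0,0,2,1,1,0,2,1,0,0,3,0,4,1,0,0,
  0,3,1,0,4,1,0,0,0,4,2,1,0,3,0,4,0,0,4,1,0,3,0,4,0,0,0,0,3,1,3,0,0,2,1,0,2,4,0,0,0,3,1,2,0,0,2,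
  4,0,0,3,2,0,4,0,0,4,0,0,4,2,1,0,3,0,0,4,3,0,0,0,0,4,2,1,0,2,1,3,0,0,0,3,0,4,1,0,4,0,0,0,0,0,3,
  1,1,1,0,4,4,0,0,0,2,1,0,2,1,0,3,0,0,4,1,0,0,0,3,1,1,0,0,2,3,0,0,3,2,0,3,0,0,0,4,1,1,0,0,2,0,4,
  0,0,0,2,2,1,2,0,4,0,0,3,1,0,4,0,0,4,0,0,3,2,3,0,4,0,0,3,0,4,1,0,2,0,0,0,4,1,0,2,0,3,1,0,2,0,0,
  0,0,3,1,1,4,0,0,2,2,0,3,0,0,3,2,0,3,0,4,0,0,0,2,3,1,0,2,0,4,0,0,0,3,1,1,0,3,0,0,3,0,4,0,0,4,3,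
  3,0,0,4,1,0,4,0,0,0,0,4,1,2,0,0,2,2,2,0,0,3,3,0,4,0,0,4,0,0,3,2,0,3,4,0,0,4,0,0,4,1,1,0,0,3,0,
  0,0,0,4,1,1,1,3,0,0,4,0,0,2,1,0,2,0,3,0,4,0,0,3,1,3,0,0,2,2,0,4,0,0,3,0,4,2,0,4,0,0,0,0,2,1,1,
  1,0,2,0,3,0,0,2,2,0,4,0,0,4,2,0,4,0,0,0,2,1,2,0,0,2,3,0,0,3,0,4,3,0,0,0,3,4,2,0,4,0,0,0,0,3,1,
  1,3,0,0,2,2,0,0,3,1,0,0,0,3,1,0,3,3,0,0,4,2,0,0,0,4,2,4,0,0,3,0,0,0,4,1,1,0,4,0,0,2,1,3,0,0,2,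
  1,0,0,3,0,4,0,0,3,3,1,0,3,0,0,4,1,0,0,0,4,1,0,2,0,0,0,0,0,2,1,1,2,1,3,0,0,0,3,2,1,0,0,0,4,1,0,
  2,3,0,0,3,3,0,0,4,0,0,0,2,1,1,2,0,0,3,0,4,1,0,0,0,3,1,3,0,0,0,0,3,1,1,4,0,0,2,0,4,0,0,2,1,1,0,
  3,0,0,2,0,3,0,0,4,1,0,2,2,0,0,3,3,0,0,4,0,0,0,4,1,1,2,0,0,3,0,4,1,0,3,0,4,0,0,0,2,2,0,3,0,4,0,
  0,3,3,2,0,3,0,0,4,1,0,0,0,4,2,0,0,0,0,2,1,1,3,1,0,4,0,0,4,2,0,3,0,4,0,0,0,2,4,0,0,3,2,1,0,2,0,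
  0,3,0,4,2,0,0,0,4,1,0,2,4,0,0,0,0,2,1,4,1,0,0,0,3,2,0,4,1,0,0,0,4,1,0,4,2,0,0,0,0,3,1,3,2,0,0,
  4,0,0,3,1,0,0,0,4,2,1,0,0,3,0,4,1,1,0,0,3,3,0,0,4,0,0,0,0,3,1,1,4,1,0,2,0,0,0,3,2,0,3,0,4,4,0,
  0,0,4,1,0,2,1,0,0,4,0,0,0,2,1,0,2,3,0,4,2,0,0,0,3,1,0,0,4,2,0,0,0,3,1,2,1,0,0,0,2,1,4,0,0,0,4,
  2,0,0,0,4,1,1,0,0,2,2,0,3,0,0,3,3,4,0,0,4,0,0,4,1,3,0,0,2,2,0,0,4,0,0,0,0,4,1,1,4,0,0,3,3,0,4,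
  0,0,4,1,3,0,0,2,0,4,0,0,0,2,1,2,0,4,0,0,3,1,0,3,0,4,1,0,3,0,0,0,4,4,1,0,0,0,0,3,2,1,0,2,0,0,3,
  2,2,0,0,3,0,4,0,0,4,1,4,0,0,3,3,0,0,4,2,0,0,0,0,4,1,2,1,0,0,4,2,0,4,0,0,0,2,2,0,3,2,0,0,4,0,0,
  4,1,0,0,0,0,0,3,1,1,1,1,0,2,0,3,0,0,2,1,1,0,0,2,0,3,0,0,3,1,2,0,0,0,4,2,0,3,0,0,0,2,1,2,0,0,2,
  2,0,3,0,4,0,0,4,2,2,0,4,0,0,0,0,3,1,1,0,3,0,4,0,0,2,3,0,4,0,0,3,2,0,4,3,0,0,0,4,2,3,0,0,3,0,4,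
  0,0,0,4,1,1,0,2,0,4,0,0,2,1,0,2,0,3,0,0,3,1,0,3,0,4,0,0,0,0,2,1,1,4,4,0,0,0,2,3,1,0,0,0,3,3,0,
  0,4,1,2,0,0,0,0,2,1,2,2,0,0,3,2,0,0,0,2,4,0,0,3,1,0,0,4,4,2,0,0,0,0,3,2,3,0,0,3,2,0,0,4,2,3,0,
  0,3,0,0,0,4,1,3,0,4,0,0,2,1,1,0,0,3,1,0,0,0,3,1,0,2,0,3,0,4,0,0,4,0,0,0,3,1,3,2,0,3,2,0,0,4,0,
  0,4,1,0,2,0,4,0,0,0,2,1,4,0,0,2,0,3,3,0,0,4,2,0,3,4,0,0,4,0,0,0,3,1,1,0,3,0,0,4,2,0,3,0,4,0,0,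
  0,4,4,1,0,4,0,0,0,0,4,1,3,4,1,0,0,0,4,1,0,2,0,3,0,0,0,2,1,4,0,0,3,3,0,0,4,4,0,0,0,4,1,1,0,3,0,
  4,0,0,2,1,0,0,3,2,0,3,0,0,4,2,0,0,0,0,0,4,1,1,2,0,3,4,0,0,4,2,0,3,0,4,0,0,0,2,1,4,0,0,2,0,3,1,
  0,0,0,4,1,2,0,3,1,0,0,0,3,1,0,0,4,1,0,3,0,0,0,0,2,1,2,1,0,0,3,1,0,4,0,0,4,2,0,3,0,0,0,2,1,4,0,
  0,2,0,0,3,1,3,0,4,0,0,0,4,2,1,0,0,0,0,3,1,1,2,0,4,0,0,2,0,4,1,0,3,3,0,0,4,0,0,0,2,1,0,3,1,0,0,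
  4,0,0,3,2,0,4,3,2,0,0,4,3,0,0,0,0,4,1,1,3,0,0,2,0,3,0,4,3,0,0,0,2,1,0,2,0,3,0,0,3,2,0,3,0,0,4]

def octP5 : ℕ := 802817

end Cfsg.Agent.Lib.M24X
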