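import Cfsg.Agent.Lib.M24X.Classes

set_option autoImplicit false
set_option maxRecDepth 100000

namespace Cfsg.Agent.Lib.M24X

def yPair : List (List ℕ) := [
  [2,3,4,23,13,6,21,14,16,0,10,9,20,11,15,7,5,18,17,19,12,22,8,1],
  [2,3,5,23,15,17,20,10,22,11,8,18,12,7,0,13,21,14,16,6,4,19,9,1],
  [2,3,6,23,11,18,5,19,17,13,14,21,8,0,15,7,9,4,12,10,16,20,22,1],
  [2,3,7,23,10,22,19,17,13,5,9,16,6,12,8,15,0,20,14,11,21,18,4,1],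
  [2,3,8,23,5,22,21,12,16,9,10,0,15,11,20,18,13,7,19,17,14,6,4,1],
  [2,3,9,23,0,13,7,21,20,10,8,17,4,22,19,18,11,12,16,5,14,15,6,1],
  [2,3,10,23,12,11,17,15,14,6,5,9,8,0,16,20,4,21,18,13,19,22,7,1],
  [2,3,11,23,22,10,18,17,15,5,4,20,12,6,21,13,0,16,14,7,8,19,9,1],
  [2,3,12,23,22,9,15,11,6,10,4,8,17,18,19,0,16,13,21,20,7,14,5,1],
  [2,3,13,23,11,12,22,15,20,6,7,21,0,8,19,14,4,9,18,10,16,17,5,1],
  [2,3,14,23,6,0,20,11,22,10,8,4,19,7,17,9,16,5,21,15,18,12,13,1],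
  [2,3,15,23,11,6,8,0,22,5,7,10,13,20,18,9,14,4,17,16,21,19,12,1],
  [2,3,16,23,20,11,5,12,14,19,0,7,6,17,21,15,9,10,13,22,8,18,4,1],
  [2,3,17,23,4,0,21,12,10,19,11,15,22,16,5,7,9,14,13,6,18,8,20,1],
  [2,3,18,23,10,6,17,19,5,13,0,16,22,14,4,20,9,15,12,11,21,7,8,1],
  [2,3,19,23,8,9,21,14,10,17,11,20,6,16,13,18,0,12,5,22,7,4,15,1],
  [2,3,20,23,11,8,19,5,13,17,9,21,18,12,22,4,14,7,0,10,16,6,15,1],
  [2,3,21,23,13,10,4,22,15,8,6,9,5,18,16,17,20,11,7,19,12,14,0,1],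
  [2,3,22,23,11,7,13,17,19,5,12,21,4,9,20,18,0,8,14,10,16,15,6,1]]

end Cfsg.Agent.Lib.M24X
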