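import Cfsg.Agent.Lib.M24X.PairData

/-!
# Commuting pairs of elements of orders 2 and 3 in `M24`.
-/

set_option autoImplicit false
set_option maxRecDepth 100000

namespace Cfsg.Agent.Lib.M24X

open Cfsg Cfsg.Agent.Lib.Golay MulAction
open scoped Pointwise

theorem maskL_lt {L : List ℕ} (h : ∀ i ∈ L, i < 24) : maskL L < 2 ^ 24 := by
  apply Nat.lt_pow_two_of_testBit
  intro i hi
  by_contra hc
  have h2 : (maskL L).testBit i = true := by simpa using hc
  have := h i ((testBit_maskL L i).mp h2)
  omega

theorem fixMask_lt (l : List ℕ) : fixMask l < 2 ^ 24 := by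
  apply maskL_lt
  intro i hi
  exact List.mem_range.mp (List.mem_filter.mp hi).1

/-- The conclusion on the numbers of fixed points. -/
def pairConcl (x s : List ℕ) : Bool :=
  (Nat.beq (pop (fixMask x)) 6 && Nat.beq (pop (fixMask s)) 8) ||
    (Nat.beq (pop (fixMask x)) 0 && Nat.beq (pop (fixMask s)) 0)

theorem pair_check : coset4All x02 (fun l => !isInvL l || Nat.beq (lk l 3) 3 ||
    yPair.any (fun y => Nat.beq (lk y 2) (lk l 3) &&
      coset5All y (fun x => !isOrd3L x || !(mulL x l == mulL l x) || pairConcl x l))) = true := by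
  decide +kernel

theorem yPair_ok : yPair.all (fun y => isPerm y && autCheck y && Nat.beq (lk y 23) 1 &&
    Nat.beq (lk y 0) 2 && Nat.beq (lk y 1) 3 && Nat.beq (lk y 3) 23) = true := by
  decide +kernel

theorem ord3_fix_le {x : Equiv.Perm GolayPt} (hx : x ∈ M24) (h3 : orderOf x = 3) :
    (Finset.univ.filter fun p => x p = p).card ≤ 6 := by
  rcases exists_conj_ord3 hx h3 with ⟨k, -, he⟩ | ⟨k, -, he⟩
  · rw [← fix_card_conj k, he, a3_card]
  · rw [← fix_card_conj k, he, b3_card]
    norm_num

theorem ord2_fix_le {x : Equiv.Perm GolayPt} (hx : x ∈ M24) (h3 : orderOf x = 2) :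
    (Finset.univ.filter fun p => x p = p).card ≤ 8 := by
  rcases exists_conj_invol hx h3 with ⟨k, -, he⟩ | ⟨k, -, he⟩
  · rw [← fix_card_conj k, he, tA_card]
  · rw [← fix_card_conj k, he, tB_card]
    norm_num

theorem exists_free_point {x s : Equiv.Perm GolayPt} (hx : x ∈ M24) (hs : s ∈ M24)
    (h₃ : orderOf x = 3) (h₂ : orderOf s = 2) : ∃ p, x p ≠ p ∧ s p ≠ p := by
  by_contra hc
  push Not at hc
  have h1 := ord3_fix_le hx h₃
  have h2 := ord2_fix_le hs h₂
  have hu : (Finset.univ : Finset GolayPt) ⊆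
      (Finset.univ.filter fun p => x p = p) ∪ (Finset.univ.filter fun p => s p = p) := by
    intro p _
    rw [Finset.mem_union, mem_fix_filter, mem_fix_filter]
    by_cases h : x p = p
    · exact Or.inl h
    · exact Or.inr (hc p h)
  have h3 := Finset.card_le_card hu
  have h4 := Finset.card_union_le (Finset.univ.filter fun p => x p = p)
    (Finset.univ.filter fun p => s p = p)
  have h5 : (Finset.univ : Finset GolayPt).card = 24 := by
    simp [Finset.card_univ, Fintype.card_option, ZMod.card]
  omega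

theorem commuting_pair_fix (x s : Equiv.Perm GolayPt) (hx : x ∈ M24) (hs : s ∈ M24)
    (h₃ : orderOf x = 3) (h₂ : orderOf s = 2) (hc : Commute x s) :
    ((Finset.univ.filter fun p => x p = p).card = 6 ∧ (Finset.univ.filter fun p => s p = p).card = 8) ∨
      ((Finset.univ.filter fun p => x p = p).card = 0 ∧ (Finset.univ.filter fun p => s p = p).card = 0) := by
  have hx3 : x ^ 3 = 1 := by rw [← h₃]; exact pow_orderOf_eq_one x
  have hs2 : s ^ 2 = 1 := by rw [← h₂]; exact pow_orderOf_eq_one s
  have hxxx : ∀ q, x (x (x q)) = q := fun q => by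
    have : (x ^ 3) q = q := by rw [hx3]; rfl
    rwa [pow_succ, pow_two, Equiv.Perm.mul_apply, Equiv.Perm.mul_apply] at this
  have hss : ∀ q, s (s q) = q := fun q => by
    have : (s ^ 2) q = q := by rw [hs2]; rfl
    rwa [pow_two, Equiv.Perm.mul_apply] at this
  have hcomm : ∀ q, s (x q) = x (s q) := fun q => by
    have := congrArg (fun f : Equiv.Perm GolayPt => f q) hc.eq
    simpa [Equiv.Perm.mul_apply] using this.symm
  obtain ⟨p, hx0, hs0⟩ := exists_free_point hx hs h₃ h₂
  have hA : x p ≠ s p := by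
    intro h
    have h1 : x (x p) = p := by rw [h, ← hcomm, h, hss]
    have h2 : x p = p := by
      have := hxxx p
      rwa [h1] at this
    exact hx0 h2
  have d1 : p ≠ s p := hs0.symm
  have d2 : p ≠ x p := hx0.symm
  have d3 : p ≠ s (x p) := fun h => hA (by
    have := congrArg s h
    rw [hss] at this
    exact this.symm)
  have d4 : p ≠ x (x p) := fun h => hx0 (by
    have := hxxx p
    rwa [← h] at this)
  have d6 : s p ≠ s (x p) := fun h => d2 (s.injective h)
  have d7 : s p ≠ x (x p) := fun h => d3 (by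
    have h2 := congrArg x h
    rw [hxxx, ← hcomm] at h2
    exact h2.symm)
  have d8 : x p ≠ s (x p) := fun h => hs0 (by
    rw [hcomm] at h
    exact (x.injective h).symm)
  have d9 : x p ≠ x (x p) := fun h => d2 (x.injective h)
  have d10 : s (x p) ≠ x (x p) := fun h => hA (by
    rw [hcomm] at h
    exact (x.injective h).symm)
  let f : Fin 5 → GolayPt := ![p, s p, x p, s (x p), x (x p)]
  have hf : Function.Injective f := by
    intro i j hij
    fin_cases i <;> fin_cases j <;> first
      | rfl
      | (exfalso; simp only [f] at hij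
         first
          | exact d1 hij
          | exact d1 hij.symm
          | exact d2 hij
          | exact d2 hij.symm
          | exact d3 hij
          | exact d3 hij.symm
          | exact d4 hij
          | exact d4 hij.symm
          | exact hA hij
          | exact hA hij.symm
          | exact d6 hij
          | exact d6 hij.symm
          | exact d7 hij
          | exact d7 hij.symm
          | exact d8 hij
          | exact d8 hij.symm
          | exact d9 hij
          | exact d9 hij.symm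
          | exact d10 hij
          | exact d10 hij.symm)
  obtain ⟨h, hh, he⟩ := exists_to_base hf
  have e1 : h p = pt 23 := he 0
  have e2 : h (s p) = pt 0 := he 1
  have e3 : h (x p) = pt 1 := he 2
  have e4 : h (s (x p)) = pt 2 := he 3
  have e5 : h (x (x p)) = pt 3 := he 4
  have i1 : h⁻¹ (pt 23) = p := by rw [← e1]; simp
  have i2 : h⁻¹ (pt 0) = s p := by rw [← e2]; simp
  have i3 : h⁻¹ (pt 1) = x p := by rw [← e3]; simp
  have i4 : h⁻¹ (pt 2) = s (x p) := by rw [← e4]; simp
  have i5 : h⁻¹ (pt 3) = x (x p) := by rw [← e5]; simp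
  have hM : h * s * h⁻¹ ∈ M24 := M24.mul_mem (M24.mul_mem hh hs) (M24.inv_mem hh)
  have v0 : lk x02 23 = 0 := by decide +kernel
  have v1 : lk x02 0 = 23 := by decide +kernel
  have v2 : lk x02 1 = 2 := by decide +kernel
  have v3 : lk x02 2 = 1 := by decide +kernel
  obtain ⟨l, hl, hle, hP⟩ := coset4_prop isPerm_x02 aut_x02 pair_check hM
    (by
      rw [perm_pt isPerm_x02 (by norm_num), v0, Equiv.Perm.mul_apply, Equiv.Perm.mul_apply, i1, e2])
    (by
      rw [perm_pt isPerm_x02 (by norm_num), v1, Equiv.Perm.mul_apply, Equiv.Perm.mul_apply, i2, hss, e1])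
    (by
      rw [perm_pt isPerm_x02 (by norm_num), v2, Equiv.Perm.mul_apply, Equiv.Perm.mul_apply, i3, e4])
    (by
      rw [perm_pt isPerm_x02 (by norm_num), v3, Equiv.Perm.mul_apply, Equiv.Perm.mul_apply, i4, hss, e3])
  have hinv : isInvL l = true := by
    have h5 : perm l * perm l = 1 := by
      rw [← hle]
      have : (h * s * h⁻¹) * (h * s * h⁻¹) = h * (s ^ 2) * h⁻¹ := by
        rw [pow_two]; simp [mul_assoc]
      rw [this, hs2]
      simp
    simp [isInvL, mulL_eq_idL_of hl h5]
  have hs3 : (h * s * h⁻¹) (pt 3) = h (s (x (x p))) := by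
    rw [Equiv.Perm.mul_apply, Equiv.Perm.mul_apply, i5]
  have hl3 : perm l (pt 3) = pt (lk l 3) := perm_pt hl (by norm_num)
  have hne3 : lk l 3 ≠ 3 := by
    intro h3
    rw [h3, ← hle, hs3, ← e5] at hl3
    have h6 := h.injective hl3
    rw [hcomm, hcomm] at h6
    exact hs0 (x.injective (x.injective h6))
  rw [hinv] at hP
  simp only [Bool.not_true, Bool.false_or, Bool.or_eq_true] at hP
  rcases hP with hP | hP
  · exact absurd (Nat.eq_of_beq_eq_true hP) hne3
  obtain ⟨y, hy, hyP⟩ := List.any_eq_true.mp hP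
  simp only [Bool.and_eq_true] at hyP
  obtain ⟨hy2, hyC⟩ := hyP
  have hy2' : lk y 2 = lk l 3 := Nat.eq_of_beq_eq_true hy2
  have hyok := List.all_eq_true.mp yPair_ok y hy
  simp only [Bool.and_eq_true, Nat.beq_eq] at hyok
  obtain ⟨⟨⟨⟨⟨yp, ya⟩, y23⟩, y0⟩, y1⟩, y3⟩ := hyok
  have hMx : h * x * h⁻¹ ∈ M24 := M24.mul_mem (M24.mul_mem hh hx) (M24.inv_mem hh)
  obtain ⟨l', hl', hle', hQ⟩ := coset5_prop yp ya hyC hMx
    (by
      rw [perm_pt yp (by norm_num), y23, Equiv.Perm.mul_apply, Equiv.Perm.mul_apply, i1, e3])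
    (by
      rw [perm_pt yp (by norm_num), y0, Equiv.Perm.mul_apply, Equiv.Perm.mul_apply, i2, ← hcomm, e4])
    (by
      rw [perm_pt yp (by norm_num), y1, Equiv.Perm.mul_apply, Equiv.Perm.mul_apply, i3, e5])
    (by
      rw [perm_pt yp (by norm_num), hy2', ← hl3, ← hle, Equiv.Perm.mul_apply, Equiv.Perm.mul_apply,
        Equiv.Perm.mul_apply, Equiv.Perm.mul_apply, i4, i5, hcomm, hcomm (x p), hcomm p])
    (by
      rw [perm_pt yp (by norm_num), y3, Equiv.Perm.mul_apply, Equiv.Perm.mul_apply, i5, hxxx, e1])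
  have hord : isOrd3L l' = true := by
    have h5 : perm l' * perm l' * perm l' = 1 := by
      rw [← hle']
      have : (h * x * h⁻¹) * (h * x * h⁻¹) * (h * x * h⁻¹) = h * (x ^ 3) * h⁻¹ := by
        rw [pow_succ, pow_two]; simp [mul_assoc]
      rw [this, hx3]
      simp
    simp [isOrd3L, mulL3_eq_idL_of hl' h5]
  have hcm : (mulL l' l == mulL l l') = true := by
    have h5 : mulL l' l = mulL l l' := by
      apply perm_inj (isPerm_mulL hl' hl) (isPerm_mulL hl hl')
      rw [perm_mulL hl' hl, perm_mulL hl hl', ← hle, ← hle']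
      have : (h * x * h⁻¹) * (h * s * h⁻¹) = h * (x * s) * h⁻¹ := by simp [mul_assoc]
      rw [this, hc.eq]
      simp [mul_assoc]
    simp [h5]
  rw [hord, hcm] at hQ
  simp only [Bool.not_true, Bool.false_or, pairConcl, Bool.or_eq_true, Bool.and_eq_true,
    Nat.beq_eq] at hQ
  have c1 : (Finset.univ.filter fun p => x p = p).card = pop (fixMask l') := by
    rw [← fix_card_conj h, hle', fix_card hl' (fixMask_lt _)]
  have c2 : (Finset.univ.filter fun p => s p = p).card = pop (fixMask l) := by
    rw [← fix_card_conj h, hle, fix_card hl (fixMask_lt _)]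
  rw [c1, c2]
  exact hQ

end Cfsg.Agent.Lib.M24X
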