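import Cfsg.Agent.Lib.M24X.Ree
import Cfsg.Agent.Lib.M24X.Classes
import Cfsg.Agent.S2063

/-!
# The index inequality in `M23`
-/

set_option autoImplicit false
set_option maxRecDepth 100000
set_option linter.unusedSimpArgs false
set_option linter.unusedVariables false
set_option linter.unusedSectionVars false
set_option linter.style.haveILetI false

namespace Cfsg.Agent.Lib.M24X.Ree

open Cfsg Cfsg.Agent.Lib.Golay Module LinearMap Cfsg.Agent.Lib.M24X

/-- The group. -/
abbrev G23 := ↥Spor.M23

theorem card_pt : Fintype.card GolayPt = 24 := by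
  simp [GolayPt, Fintype.card_option, ZMod.card]

/-- The base point. -/
def a0 : GolayPt := pt 0

theorem pt_23 : pt 23 = none := rfl

/-- Transitivity on the other points. -/
theorem exists_move (a : GolayPt) (ha : a ≠ none) : ∃ g : G23, g.1 a0 = a := by
  have h1 : idx a ≠ 23 := by
    intro h
    apply ha
    rw [← pt_idx a, h, pt_23]
  have h2 := orb1 ⟨idx a, idx_lt a⟩ (by simpa using h1)
  obtain ⟨t, ht, e⟩ := List.mem_map.1 h2
  simp only at e
  have hc := List.all_eq_true.mp T1_check t ht
  simp only [Bool.and_eq_true, List.all_eq_true] at hc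
  have hm : perm t ∈ Spor.M23 :=
    Cfsg.Agent.S2063.mem_M23_of hc.1.1 hc.1.2 (Nat.eq_of_beq_eq_true (hc.2 23 (by simp)))
  refine ⟨⟨perm t, hm⟩, ?_⟩
  show perm t (pt 0) = a
  rw [perm_pt hc.1.1 (by norm_num), e, pt_idx]

/-- Functions fixed by the generators are fixed by the group. -/
theorem fixed_all {x y : G23} (hgen : Subgroup.closure {x, y} = ⊤) {f : GolayPt → ZMod 2}
    (hx : T x.1 f = f) (hy : T y.1 f = f) (g : G23) : T g.1 f = f := by
  have hg : g ∈ Subgroup.closure ({x, y} : Set G23) := by rw [hgen]; trivial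
  induction hg using Subgroup.closure_induction with
  | mem a ha =>
    rcases ha with rfl | rfl
    · exact hx
    · exact hy
  | one => rfl
  | mul a b _ _ ha hb =>
    show T (a.1 * b.1) f = f
    rw [T_mul, ha, hb]
  | inv a _ ha =>
    have h1 : T ((a⁻¹ : G23).1 * a.1) f = T a.1 (T (a⁻¹ : G23).1 f) := T_mul _ _ _
    have h2 : T (a.1 * (a⁻¹ : G23).1) f = T (a⁻¹ : G23).1 (T a.1 f) := T_mul _ _ _
    have h3 : a.1 * (a⁻¹ : G23).1 = 1 := by
      show a.1 * (a.1)⁻¹ = 1
      group
    rw [h3, T_one, ha] at h2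
    exact h2.symm

/-- The common kernel is small. -/
theorem ker_small {x y z : G23} (hgen : Subgroup.closure {x, y} = ⊤) :
    finrank (ZMod 2) ↥(ker (T z.1 - LinearMap.id) ⊓ (ker (T y.1 - LinearMap.id) ⊓ ker (T x.1 - LinearMap.id))) ≤ 2 := by
  obtain ⟨K, hK⟩ : ∃ K, K = ker (T z.1 - LinearMap.id) ⊓ (ker (T y.1 - LinearMap.id) ⊓ ker (T x.1 - LinearMap.id)) :=
    ⟨_, rfl⟩
  rw [← hK]
  have hmem : ∀ f ∈ K, ∀ g : G23, T g.1 f = f := by
    intro f hf g
    rw [hK] at hf
    obtain ⟨-, h2, h3⟩ := hf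
    have h2' : T y.1 f - f = 0 := h2
    have h3' : T x.1 f - f = 0 := h3
    exact fixed_all hgen (sub_eq_zero.1 h3') (sub_eq_zero.1 h2') g
  let φ : ↥K →ₗ[ZMod 2] ZMod 2 × ZMod 2 :=
    ((LinearMap.proj (none : GolayPt)).prod (LinearMap.proj a0)) ∘ₗ K.subtype
  have hinj : Function.Injective φ := by
    intro f f' e
    have e1 : f.1 none = f'.1 none := congrArg Prod.fst e
    have e2 : f.1 a0 = f'.1 a0 := congrArg Prod.snd e
    apply Subtype.ext
    funext a
    by_cases ha : a = none
    · rw [ha]; exact e1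
    · obtain ⟨g, hg⟩ := exists_move a ha
      have h1 : T g.1 f.1 a0 = f.1 a0 := by rw [hmem f.1 f.2 g]
      have h2 : T g.1 f'.1 a0 = f'.1 a0 := by rw [hmem f'.1 f'.2 g]
      rw [T_apply, hg] at h1 h2
      rw [h1, h2, e2]
  have := LinearMap.finrank_le_finrank_of_injective hinj
  rwa [Module.finrank_prod, Module.finrank_self] at this

/-- The delta functions. -/
def delta (a : GolayPt) : GolayPt → ZMod 2 := fun j => if a = j then 1 else 0

theorem T_delta (g : Equiv.Perm GolayPt) (a : GolayPt) : T g (delta (g a)) = delta a := by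
  funext b
  show (if g a = g b then (1 : ZMod 2) else 0) = if a = b then 1 else 0
  simp only [g.injective.eq_iff]

/-- The sum of the ranges is large. -/
theorem sum_large {x y z : G23} (hgen : Subgroup.closure {x, y} = ⊤) :
    22 ≤ finrank (ZMod 2) ↥(range (T z.1 - LinearMap.id) ⊔ (range (T y.1 - LinearMap.id) ⊔ range (T x.1 - LinearMap.id))) := by
  obtain ⟨U, hU⟩ : ∃ U, U = range (T z.1 - LinearMap.id) ⊔ (range (T y.1 - LinearMap.id) ⊔ range (T x.1 - LinearMap.id)) :=
    ⟨_, rfl⟩
  rw [← hU]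
  have hx : ∀ f, T x.1 f - f ∈ U := by
    intro f
    rw [hU]
    exact Submodule.mem_sup_right (Submodule.mem_sup_right ⟨f, rfl⟩)
  have hy : ∀ f, T y.1 f - f ∈ U := by
    intro f
    rw [hU]
    exact Submodule.mem_sup_right (Submodule.mem_sup_left ⟨f, rfl⟩)
  have hall : ∀ g : G23, ∀ f, T g.1 f - f ∈ U := by
    intro g
    have hg : g ∈ Subgroup.closure ({x, y} : Set G23) := by rw [hgen]; trivial
    induction hg using Subgroup.closure_induction with
    | mem a ha =>
      rcases ha with rfl | rfl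
      · exact hx
      · exact hy
    | one =>
      intro f
      show T 1 f - f ∈ U
      rw [T_one, sub_self]
      exact U.zero_mem
    | mul a b _ _ ha hb =>
      intro f
      have e : T (a * b : G23).1 f - f = (T b.1 (T a.1 f) - T a.1 f) + (T a.1 f - f) := by
        show T (a.1 * b.1) f - f = _
        rw [T_mul]
        abel
      rw [e]
      exact U.add_mem (hb _) (ha _)
    | inv a _ ha =>
      intro f
      have h1 : T ((a⁻¹ : G23).1 * a.1) f = T a.1 (T (a⁻¹ : G23).1 f) := T_mul _ _ _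
      have h3 : (a⁻¹ : G23).1 * a.1 = 1 := by
        show (a.1)⁻¹ * a.1 = 1
        group
      rw [h3, T_one] at h1
      have e : T (a⁻¹ : G23).1 f - f = -(T a.1 (T (a⁻¹ : G23).1 f) - T (a⁻¹ : G23).1 f) := by
        rw [← h1]
        abel
      rw [e]
      exact U.neg_mem (ha _)
  obtain ⟨S, hS⟩ : ∃ S : Submodule (ZMod 2) (GolayPt → ZMod 2),
      S = Submodule.span (ZMod 2) (({delta none, delta a0} : Finset (GolayPt → ZMod 2)) : Set (GolayPt → ZMod 2)) := ⟨_, rfl⟩
  have hS2 : finrank (ZMod 2) ↥S ≤ 2 := by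
    rw [hS]
    exact (finrank_span_finset_le_card _).trans Finset.card_le_two
  have hdelta : ∀ a, delta a ∈ U ⊔ S := by
    intro a
    have h0 : delta a0 ∈ U ⊔ S := Submodule.mem_sup_right (by
      rw [hS]; exact Submodule.subset_span (by simp))
    by_cases ha : a = none
    · rw [ha]
      exact Submodule.mem_sup_right (by rw [hS]; exact Submodule.subset_span (by simp))
    · obtain ⟨g, hg⟩ := exists_move a ha
      have h1 := hall g (delta a)
      have h2 : T g.1 (delta a) = delta a0 := by
        rw [← hg]; exact T_delta g.1 a0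
      rw [h2] at h1
      have e : delta a = delta a0 - (delta a0 - delta a) := by abel
      rw [e]
      exact Submodule.sub_mem _ h0 (Submodule.mem_sup_left h1)
  have htop : U ⊔ S = ⊤ := by
    rw [eq_top_iff]
    intro f _
    have hf : f = ∑ a, f a • delta a := pi_eq_sum_univ f
    rw [hf]
    exact Submodule.sum_mem _ fun a _ => Submodule.smul_mem _ _ (hdelta a)
  have h3 := Submodule.finrank_add_le_finrank_add_finrank U S
  rw [htop, finrank_top, Module.finrank_fintype_fun_eq_card, card_pt] at h3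
  omega

/-- The index inequality in `M23`. -/
theorem ree {x y z : G23} (hxyz : x * y * z = 1) (hgen : Subgroup.closure {x, y} = ⊤) :
    44 ≤ dd x.1 + dd y.1 + dd z.1 := by
  have h1 : ∀ v, T z.1 (T y.1 (T x.1 v)) = v := by
    intro v
    have h2 : T (x.1 * y.1 * z.1) v = T z.1 (T y.1 (T x.1 v)) := rfl
    have h3 : x.1 * y.1 * z.1 = 1 := congrArg Subtype.val hxyz
    rw [← h2, h3, T_one]
  have h2 := scott (T z.1) (T y.1) (T x.1) h1
  have h3 := ker_small (z := z) hgen
  have h4 := sum_large (z := z) hgen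
  rw [Module.finrank_fintype_fun_eq_card, card_pt] at h2
  unfold dd
  omega

/-! ### Bounds on the ranks -/

theorem fix_ne {g : G23} : (Finset.univ.filter fun p : GolayPt => g.1 p = p).card ≠ 0 := by
  have h : none ∈ (Finset.univ.filter fun p : GolayPt => g.1 p = p) := by
    simp only [Finset.mem_filter, Finset.mem_univ, true_and]
    exact MulAction.mem_stabilizer_iff.mp (Subgroup.mem_inf.mp g.2).2
  exact Finset.card_ne_zero_of_mem h

theorem dd_two {g : G23} (h : orderOf g = 2) : dd g.1 ≤ 8 := by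
  have h2 : orderOf g.1 = 2 := by rw [Subgroup.orderOf_coe]; exact h
  obtain ⟨k, -, e⟩ := conj_tA_of_card (Subgroup.mem_inf.mp g.2).1 h2 fix_ne
  have h3 : (Finset.univ.filter fun p : GolayPt => g.1 p = p).card = 8 := by
    rw [← fix_card_conj k, e, tA_card]
  have h4 := dd_bound g.1 (n := 2) (by norm_num) (by rw [← h2]; exact pow_orderOf_eq_one _)
  rw [card_pt] at h4
  have h5 : (Finset.univ.filter fun p : GolayPt => g.1 p = p).card = 8 := h3
  simp only [Nat.add_one_sub_one] at h4
  omega

theorem dd_three {g : G23} (h : orderOf g = 3) : dd g.1 ≤ 12 := by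
  have h2 : orderOf g.1 = 3 := by rw [Subgroup.orderOf_coe]; exact h
  obtain ⟨k, -, e⟩ := conj_a3_of_card (Subgroup.mem_inf.mp g.2).1 h2 fix_ne
  have h3 : (Finset.univ.filter fun p : GolayPt => g.1 p = p).card = 6 := by
    rw [← fix_card_conj k, e, a3_card]
  have h4 := dd_bound g.1 (n := 3) (by norm_num) (by rw [← h2]; exact pow_orderOf_eq_one _)
  rw [card_pt] at h4
  simp only [Nat.add_one_sub_one] at h4
  omega

/-- The number of fixed points modulo a prime. -/
theorem fix_modEq (g : Equiv.Perm GolayPt) (p : ℕ) [hp : Fact p.Prime] (hg : g ^ p = 1) :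
    24 ≡ (Finset.univ.filter fun a : GolayPt => g a = a).card [MOD p] := by
  classical
  have h := Equiv.Perm.card_compl_support_modEq (σ := g) (p := p) (n := 1) (by rw [pow_one]; exact hg)
  rw [card_pt] at h
  have e : (g.support)ᶜ = (Finset.univ.filter fun a : GolayPt => g a = a) := by
    ext a
    simp [Equiv.Perm.mem_support]
  rw [e] at h
  exact h.symm

theorem dd_five {g : G23} (h : orderOf g = 5) : dd g.1 ≤ 16 := by
  have h2 : orderOf g.1 = 5 := by rw [Subgroup.orderOf_coe]; exact h
  have hg : g.1 ^ 5 = 1 := by rw [← h2]; exact pow_orderOf_eq_one _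
  haveI : Fact (Nat.Prime 5) := ⟨by norm_num⟩
  have h3 := fix_modEq g.1 5 hg
  have h0 := fix_ne (g := g)
  have h4 := dd_bound g.1 (n := 5) (by norm_num) hg
  rw [card_pt] at h4
  simp only [Nat.add_one_sub_one] at h4
  unfold Nat.ModEq at h3
  omega

theorem dd_seven {g : G23} (h : orderOf g = 7) : dd g.1 ≤ 18 := by
  have h2 : orderOf g.1 = 7 := by rw [Subgroup.orderOf_coe]; exact h
  have hg : g.1 ^ 7 = 1 := by rw [← h2]; exact pow_orderOf_eq_one _
  haveI : Fact (Nat.Prime 7) := ⟨by norm_num⟩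
  have h3 := fix_modEq g.1 7 hg
  have h0 := fix_ne (g := g)
  have h4 := dd_bound g.1 (n := 7) (by norm_num) hg
  rw [card_pt] at h4
  simp only [Nat.add_one_sub_one] at h4
  unfold Nat.ModEq at h3
  omega

theorem dd_any (g : G23) : dd g.1 ≤ 23 := by
  have h := dd_lt g.1
  rw [card_pt] at h
  omega

end Cfsg.Agent.Lib.M24X.Ree
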