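import Cfsg.Agent.Lib.M24X.OctadOrbits

set_option autoImplicit false
set_option maxRecDepth 100000

namespace Cfsg.Agent.Lib.M24X

def sexGens : List (List ℕ) := [
  [20,10,15,6,13,7,0,1,3,8,18,5,14,4,19,11,22,21,17,23,12,2,16,9],
  [4,22,13,12,7,8,3,17,9,1,0,20,15,19,18,23,21,11,10,14,2,5,6,16],
  [8,11,12,22,15,4,17,14,19,0,23,21,7,20,13,1,10,16,6,3,2,5,9,18],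
  [8,18,11,3,10,14,2,23,19,22,4,21,7,20,5,13,9,17,6,0,16,1,15,12]]
def sex0 : List ℕ := [
  8388615,2621632,1082880,268544,4268048,147496]

def sexRoot0 : ℕ := 3704512

def sexOps0 : List ℕ := [
  1,1,1,0,2,0,3,0,0,4,1,0,2,0,0,0,2,1,1,0,0,4,1,0,2]

def sexP0 : ℕ := 59

def sexRoot1 : ℕ := 262637

def sexOps1 : List ℕ := [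
  1,1,2,1,2,0,3,0,0,2,4,0,0,3,1,4,0,0,0,4,0,0,3,1,2,0,4,2,0,0,0,2,3,3,0,0,0,4,2,0,3,0,0,0,4,2,1,
  2,0,0,4,0,0,3,4,0,0,0,0,2,1,1,1,0,3,0,4,0,0,2,0,3,4,0,0,4,1,0,3,0,0,0,2,1,2,0,3,0,0,3,3,2,0,0,
  0,4,1,0,2,0,0,0,3,1,3,0,4,0,0,3,2,0,4,0,0,4,1,0,2,0,0,0,4,1,2,0,3,0,0,3,1,0,4,0,0,4,0,0,0,3,1,
  1,2,0,0,2,2,0,3,0,4,0,0,3,1,0,2,1,0,0,4,0,0,4,1,2,0,0,0,0,2,4,1,0,2,0,3,0,4,0,0,0,4,1,2,0,3,0,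
  0,2,4,0,0,3,2,1,0,0,0,4,1,0,2,0,4,0,0,0,0,4,1,4,1,0,0,0,3,1,1,0,2,0,4,0,0,2,4,0,0,4,3,0,0,0,4,
  2,2,0,3,0,0,3,3,0,0,4,1,0,2,0,0,0,0,0,2,1,1,1,1,0,3,0,4,0,0,2,2,0,3,0,0,0,2,3,4,0,0,0,3,1,3,0,
  4,0,0,2,1,0,2,0,3,0,0,0,4,2,4,0,0,3,4,0,0,4,2,0,0,0,0,3,1,1,3,0,4,0,0,2,3,0,0,3,3,0,0,4,1,0,2,
  0,0,0,2,1,1,0,3,0,0,2,0,3,0,0,3,1,1,0,2,0,3,0,4,0,0,2,3,0,4,1,0,0,0,3,0,4,0,0,4,3,0,4,4,0,0,0,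
  0,4,1,2,0,4,0,0,2,1,3,0,4,0,0,2,0,3,0,4,2,4,0,0,0,0,4,1,0,0,0,0,3,1,2,2,2,0,3,0,4,0,0,0,3,1,3,
  0,0,2,1,0,2,0,4,0,0,4,1,0,0,0,4,2,2,0,0,3,0,0,0,2,1,1,2,0,0,4,4,0,0,0,2,1,2,0,0,2,4,0,0,3,4,0,
  0,0,3,1,2,0,0,2,0,4,0,0,4,2,1,0,0,3,3,0,0,0,0,3,1,1,1,0,0,2,0,4,1,0,0,0,2,1,3,0,0,3,1,0,0,4,0,
  0,3,0,4,0,0,4,1,1,1,0,3,0,0,2,3,0,0,4,0,0,2,1,3,0,0,0,3,1,2,0,0,2,0,4,2,0,0,0,4,1,0,2,0,3,2,0,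
  0,4,2,0,0,0,0,0,4,1,1,3,2,0,4,0,0,4,4,0,0,0,2,4,2,0,0,0,3,2,4,0,0,3,4,0,0,4,0,0,4,2,0,4,2,0,0,
  0,0,2,1,2,0,3,1,0,3,0,0,4,2,0,0,0,2,1,0,2,0,3,1,0,0,4,0,0,3,2,0,3,0,0,4,0,0,3,1,4,0,0,2,2,0,4,
  2,0,0,0,3,1,0,2,0,0,4,1,4,0,0,0,0,4,1,1,2,0,0,4,0,0,2,1,0,2,2,0,0,3,0,4,0,0,3,2,1,0,0,3,2,0,0,
  4,2,0,0,0,4,2,0,3]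

def sexP1 : ℕ := 32400

def sexRoot2 : ℕ := 525274

def sexOps2 : List ℕ := [
  1,1,1,1,1,3,0,0,2,2,0,0,3,0,0,2,1,0,2,0,3,1,0,0,0,3,1,4,0,0,4,0,0,4,1,0,2,0,3,0,4,0,0,0,2,1,1,
  4,0,0,2,0,3,0,0,2,2,0,0,4,1,0,2,0,4,2,0,0,0,0,4,1,1,0,3,0,0,2,2,1,0,0,0,3,3,0,0,4,1,2,0,0,0,0,
  0,2,1,1,1,0,3,0,0,3,3,0,0,4,2,0,3,0,4,0,0,0,2,1,0,2,2,0,4,3,0,0,0,0,3,2,4,0,0,3,1,0,2,0,3,0,0,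
  4,1,0,0,0,4,1,1,0,2,0,0,4,1,0,0,0,0,3,1,1,2,0,3,0,0,3,1,0,2,0,0,4,1,0,0,0,2,2,2,0,3,0,4,0,0,3,
  1,0,3,0,0,4,2,0,3,0,0,0,3,1,2,0,0,2,1,0,2,0,3,0,4,0,0,3,1,0,2,0,3,0,0,4,1,0,2,0,4,0,0,0,0,4,1,
  2,0,3,0,0,2,1,2,0,0,3,3,0,0,4,2,0,3,0,4,0,0,0,3,2,3,0,0,0,4,1,2,0,4,0,0,2,1,0,3,0,0,0,0,0,2,1,
  1,1,1,0,0,2,2,0,0,3,1,1,0,0,0,0,2,2,1,0,2,0,3,0,0,3,0,4,0,0,3,1,3,0,0,2,1,0,0,3,2,0,0,4,1,0,0,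
  0,4,2,3,0,0,3,2,0,3,0,0,4,0,0,0,2,1,1,0,3,4,0,0,4,1,0,3,0,0,0,2,1,2,0,0,2,0,3,4,0,0,4,4,0,0,0,
  3,3,0,4,0,0,4,1,2,0,3,0,0,2,3,0,4,0,0,0,0,3,1,1,0,3,1,0,0,4,2,0,3,0,0,0,2,1,4,0,0,2,1,0,2,0,0,
  3,1,0,3,0,0,0,3,2,1,0,2,0,0,0,4,1,1,0,2,0,0,3,1,0,0,4,2,0,3,2,0,0,0,0,0,4,1,1,4,0,0,4,0,0,2,1,
  1,0,0,2,1,0,3,0,0,4,0,0,3,3,0,0,4,1,2,0,0,4,0,0,0,0,3,1,1,3,0,0,2,2,0,3,4,0,0,4,0,0,3,1,1,0,2,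
  0,0,2,0,4,3,0,0,0,4,1,0,2,0,4,4,0,0,0,0,2,1,1,0,2,1,0,0,4,0,0,2,1,0,2,2,0,0,4,3,0,0,0,3,1,0,0,
  4,2,2,0,0,3,0,4,0,0,0,3,1,1,4,0,0,0,2,1,0,2,2,0,0,4,0,0,3,1,4,0,0,2,4,0,0,3,0,0,4,1,0,2,2,0,0,
  3,0,4,0,0,0,4,1,3,0,4,0,0,2,2,1,0,0,3,0,0,3,1,0,2,3,0,0,3,4,0,0,0,4,1,1,0,0,2,0,3,0,0,0,0,4,1,
  1,1,0,2,0,3,1,0,0,0,2,1,3,0,0,4,0,0,3,1,3,0,0,0,4,4,4,0,0,0,0,2,1,1,0,2,2,0,0,3,0,0,2,1,1,0,0,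
  2,0,0,3,2,0,0,4,1,1,0,0,3,0,0,0,3,2,2,0,3,2,0,0,4,0,0,4,2,4,0,0,3,0,0,0,4,1,1,0,2,0,3,0,0,2,1,
  0,3,0,4,1,0,0,0,4,4]

def sexP2 : ℕ := 36864

def sexRoot3 : List ℕ := [
  11010247,1351424,4415544]

def sexOps3 : List ℕ := [
  1,2,0,3,0,4,0,0,2,2,0,0,3,4,3,0,4,0,0,0,4,1,0,2,0,4]

def sexP3 : ℕ := 103

def sexRoot4 : List ℕ := [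
  9178690,3182981,4415544]

def sexOps4 : List ℕ := [
  1,1,1,2,3,0,0,3,1,0,4,0,0,4,1,0,4,0,0,0,2,1,2,0,0,2,3,0,0,3,3,0,0,4,4,0,0,0,4,1,0,2,0,3,3,0,0,
  4,0,0,0,2,2,2,0,3,0,4,2,0,4,0,0,0,3,2,1,0,0,3,0,4,0,0,0,3,2,1,0,2,0,0,3,4,0,0,4,2,0,3,1,0,2,0,
  0,4,1,0,0,0,0,4,1,1,0,2,0,3,3,0,0,4,0,0,2,1,0,2,0,3,1,0,0,4,0,0,3,2,0,4,0,0,4,0,0,0,2,1,1,1,0,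
  4,1,0,0,0,2,1,0,2,0,4,0,0,3,1,3,0,0,0,4,3,1,0,0,4,2,0,0,0,0,3,1,3,3,0,0,0,2,1,4,0,0,2,0,3,0,4,
  0,0,3,1,0,2,0,3,2,0,0,4,0,0,0,4,1,3,0,0,2,0,3,1,0,3,0,0,4,1,0,2,0,0,0,0,3,1,1,2,3,0,0,0,2,3,0,
  4,0,0,3,1,0,4,4,0,0,0,4,2,0,4,0,0,0,2,1,2,0,0,2,3,0,0,3,2,0,4,0,0,0,3,1,1,0,0,2,0,3,2,0,3,0,0,
  4,1,0,4,0,0,0,4,1,3,0,4,0,0,2,1,0,2,0,0,3,4,0,0,4,0,0,0,4,1,3,2,0,4,0,0,4,2,0,3,1,0,0,0,0,2,2,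
  0,0,3,2,0,3,1,0,4,0,0,0,4,1,1,0,4,0,0,2,0,4,1,0,4]

def sexP4 : ℕ := 10817

def sexRoot5 : List ℕ := [
  9178690,3375280,4223245]

def sexOps5 : List ℕ := [
  1,1,1,1,1,0,3,1,0,0,4,1,0,3,0,4,0,0,0,2,1,3,0,0,3,0,4,4,0,0,0,3,3,0,4,2,0,3,0,4,0,0,0,4,1,3,0,
  0,2,0,4,1,0,3,0,0,0,0,2,1,1,1,0,0,4,4,0,0,0,2,2,0,3,2,0,3,0,0,0,3,1,1,0,0,2,3,0,4,0,0,3,0,4,0,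
  0,4,2,2,0,0,4,0,0,0,3,1,1,0,2,0,4,4,0,0,0,2,1,0,2,0,4,1,0,0,0,3,1,3,0,0,2,1,0,3,0,0,4,4,0,0,0,
  4,1,3,0,0,2,1,0,2,0,0,3,0,4,3,0,0,0,0,4,1,3,0,0,2,2,1,0,0,4,1,0,0,0,3,4,4,0,0,0,4,1,4,0,0,2,3,
  0,0,3,0,0,0,0,2,1,1,2,0,4,0,0,2,2,1,0,0,3,2,0,4,0,0,0,3,1,0,3,0,4,1,0,0,0,4,2,0,3,0,4,2,0,0,0,
  0,2,1,2,3,0,0,3,0,4,2,0,0,0,2,3,0,0,3,2,0,3,0,0,4,1,3,0,0,4,0,0,0,3,1,1,0,2,0,4,0,0,2,1,0,2,3,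
  0,4,0,0,0,3,3,0,0,4,1,0,2,0,3,0,0,0,0,3,1,1,4,0,0,2,1,0,2,0,3,1,0,0,0,3,4,0,0,4,1,0,2,4,0,0,3,
  0,4,0,0,0,2,1,3,2,0,0,4,4,0,0,0,2,1,1,0,2,0,0,4,0,0,3,1,0,4,2,0,0,0,4,1,0,3,0,4,2,0,0,0,0,3,1,
  1,0,2,0,0,4,1,0,2,0,0,0,4,1,1,2,0,0,3,0,4,0,0,2,2,0,3,0,4,1,0,0,0,3,2,0,3,0,0,4,3,1,0,2,0,0,0,
  0,0,4,1,1,1,3,0,0,2,0,3,0,4,0,0,2,2,0,3,1,0,0,4,0,0,3,1,4,0,0,3,0,4,0,0,4,1,0,4,0,0,0,2,1,2,0,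
  3,1,0,0,4,4,0,0,0,2,1,0,0,3,1,4,0,0,2,0,3,0,4,2,0,0,0,4,2,0,3,0,0,0,3,1,2,0,0,2,3,0,4,0,0,3,1,
  0,0,4,3,0,4,1,0,0,0,0,4,1,2,1,0,0,3,0,0,2,1,0,2,0,3,4,0,0,4,0,0,3,3,0,0,4,1,0,2,0,3,0,4,2,0,0,
  0,0,0,0,2,1,1,1,1,4,0,0,2,0,0,2,1,0,3,0,4,0,0,4,2,0,3,0,4,0,0,0,2,1,2,0,0,2,1,2,0,0,2,0,4,0,0,
  4,3,0,4,0,0,0,3,1,2,2,0,0,3,0,4,0,0,2,3,0,0,3,1,0,2,0,3,0,0,4,2,0,0,0,4,1,1,0,3,0,0,2,2,0,3,0,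
  0,3,0,4,2,0,4,1,0,2,0,0,0,0,0,2,1,1,4,0,0,2,2,3,0,0,3,0,4,0,0,4,1,0,2,0,0,0,2,2,0,3,4,0,0,4,1,
  0,2,3,0,0,3,0,0,0,3,1,0,2,1,1,0,0,4,0,0,3,2,0,0,4,3,0,4,0,0,0,4,2,2,0,3,0,0,3,1,0,2,0,3,0,0,4,
  1,0,0,0,0,3,1,1,4,1,0,0,0,2,4,0,0,3,1,0,0,0,2,1,1,0,2,0,4,0,0,2,0,4,0,0,3,1,4,0,0,2,4,0,0,3,1,
  0,2,1,0,0,0,4,4,0,0,0,4,1,2,0,3,0,4,0,0,2,0,3,4,0,0,4,0,0,0,4,1,2,1,0,2,0,0,3,2,0,4,0,0,4,3,0,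
  0,0,2,1,4,0,0,2,3,0,0,3,2,0,0,0,3,1,2,0,0,2,2,0,4,0,0,3,3,4,0,0,0,4,1,0,2,0,4,3,0,0,0,0,4,2,1,
  0,0,3,4,0,0,4,3,0,0,0,0,0,3,1,1,1,1,0,3,0,0,4,2,0,3,0,4,0,0,0,2,1,0,2,2,0,0,4,3,0,4,0,0,0,3,1,
  1,0,2,0,4,0,0,2,1,0,4,0,0,3,2,0,4,0,0,4,1,0,3,0,0,0,4,1,1,0,4,0,0,2,4,0,0,3,1,0,3,0,0,4,2,0,3,
  0,4,0,0,0,0,2,1,1,1,0,0,2,1,0,3,0,0,3,1,0,0,0,2,1,1,0,2,0,0,2,1,0,2,0,3,0,4,0,0,3,0,4,2,0,3,0,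
  0,0,3,1,0,2,1,0,2,0,3,0,0,4,3,0,0,0,0,3,1,1,1,3,0,0,4,0,0,2,3,0,4,0,0,3,3,0,0,4,4,0,0,0,2,2,3,
  2,0,0,0,3,4,0,0,4,2,0,3,0,0,0,3,1,4,0,0,2,0,3,2,2,0,0,4,0,0,4,2,0,4,0,0,0,4,2,3,0,4,0,0,4,1,0,
  0,0,0,4,1,1,1,0,3,0,4,0,0,2,1,0,4,0,0,3,0,4,1,0,2,0,0,0,2,1,2,2,0,0,3,0,0,2,1,0,0,3,3,0,0,4,0,
  0,3,3,0,4,1,0,0,0,4,1,1,0,2,0,0,0,0,0,4,1,1,1,1,0,2,0,3,0,0,2,0,3,1,0,2,0,3,0,0,0,2,2,0,3,1,0,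
  4,4,0,0,0,4,0,0,3,1,0,2,1,0,2,0,4,0,0,3,2,0,3,0,4,0,0,4,4,0,0,0,4,1,1,0,3,0,0,3,2,0,0,4,1,0,2,
  0,0,0,0,2,1,1,0,2,2,0,4,0,0,3,0,0,2,1,1,0,3,0,0,3,2,0,0,0,3,1,0,2,2,0,3,0,0,0,4,1,0,2,2,0,4,0,
  0,3,1,0,2,0,0,0,0,3,1,2,4,0,0,3,2,0,3,0,0,4,2,0,0,0,2,1,0,2,1,0,0,3,0,0,3,1,2,0,0,3,0,0,4,1,2,
  0,0,2,0,3,0,4,1,0,0,0,0,4,1,1,1,0,2,0,0,2,1,0,2,0,0,4,4,0,0,0,2,1,2,0,0,2,0,3,0,0,3,1,4,0,0,2,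
  1,0,0,4,1,0,0,0,4,1,0,2,0,3,2,0,4,0,0,4,2,0,3]

def sexP5 : ℕ := 172807

def sexRoot6 : List ℕ := [
  8391797,3539848,4845570]

def sexOps6 : List ℕ := [
  1,1,1,1,1,2,3,0,4,0,0,3,0,0,2,1,2,0,0,3,0,0,3,1,1,0,0,3,1,0,0,0,4,1,2,0,4,0,0,3,1,0,2,0,0,4,0,
  0,0,2,1,1,3,0,0,2,2,0,0,3,2,0,0,4,1,0,3,0,0,0,2,2,0,4,0,0,3,4,3,0,4,0,0,0,4,1,1,0,2,0,0,3,0,0,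
  0,3,1,2,4,0,0,4,0,0,2,1,4,0,0,4,0,0,3,1,3,0,4,0,0,2,0,3,0,0,4,2,1,0,0,3,0,4,3,0,0,0,0,4,1,1,3,
  0,0,4,0,0,2,1,4,0,0,2,0,4,3,0,0,0,3,1,0,2,3,0,0,3,0,4,4,3,0,0,0,0,0,0,2,1,1,1,0,3,3,0,0,4,1,0,
  2,0,3,0,0,0,2,1,1,0,3,0,0,2,2,0,0,4,0,0,3,1,2,0,3,0,4,0,0,2,0,3,0,4,1,0,4,0,0,0,4,2,0,4,1,0,2,
  0,4,0,0,0,0,2,1,1,1,0,3,0,0,3,0,4,0,0,2,2,2,0,0,3,0,4,0,0,3,1,3,0,0,2,0,0,4,1,0,2,3,0,0,4,0,0,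
  0,3,1,1,2,0,4,0,0,2,1,0,0,3,3,0,0,4,0,0,2,3,1,0,4,0,0,4,0,0,3,1,0,2,0,3,0,4,2,0,0,0,4,1,0,2,0,
  3,1,0,0,4,1,0,2,0,0,0,0,4,1,3,2,0,0,4,0,0,2,1,3,0,0,2,4,0,0,3,2,0,0,4,3,0,0,0,3,1,1,0,2,0,3,0,
  0,2,2,0,0,3,1,0,3,0,0,0,4,1,0,0,0,0,3,1,1,1,1,0,4,0,0,2,0,0,4,1,0,3,1,0,3,0,0,4,4,0,0,0,0,2,1,
  1,3,0,0,3,2,0,0,4,0,0,2,1,4,0,0,2,0,3,0,0,3,2,1,0,2,0,3,0,0,3,0,0,0,3,1,1,0,2,1,0,0,3,2,0,0,4,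
  0,0,2,1,2,0,0,2,2,0,0,3,0,4,3,0,0,0,3,1,0,2,2,0,0,3,3,0,0,4,3,0,0,0,4,2,0,3,0,4,4,0,0,0,0,4,1,
  1,2,0,0,2,4,0,0,3,4,0,0,4,0,0,2,2,1,0,3,0,0,3,3,0,0,0,3,2,0,3,2,0,0,4,0,0,4,1,0,2,1,0,3,0,0,3,
  1,0,0,4,0,0,0,0,4,1,1,1,0,4,0,0,2,2,2,0,0,3,2,0,0,4,1,0,4,0,0,0,3,1,4,0,0,3,2,0,3,0,0,4,0,0,0,
  2,1,2,1,0,0,4,2,0,4,0,0,0,2,1,1,0,0,3,1,0,0,4,1,0,2,0,3,0,0,0,3,1,0,2,0,3,3,0,0,4,2,0,0,0,4,3,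
  0,4,0,0,0,3,1,1,4,0,0,2,0,3,1,0,0,4,4,0,0,0,2,1,2,0,0,2,1,0,2,0,0,3,0,0,3,1,0,2,0,4,4,0,0,0,4,
  1,4,0,0,2,0,3,0,4,3,0,0,0,0,4,1,1,2,0,4,0,0,2,2,0,0,0,2,1,0,2,0,4,2,0,3,0,0,0,3,2,3,0,0,0,4,1,
  2,0,4,0,0,2,3,0,0,4,0,0,0,0,0,2,1,1,1,2,0,3,2,0,0,0,2,1,0,2,1,0,2,0,0,4,2,0,0,0,3,1,1,0,2,0,3,
  0,0,3,3,0,4,0,0,0,4,1,0,2,4,0,0,3,0,4,0,0,0,2,1,1,0,2,0,3,0,4,0,0,4,1,1,0,2,0,3,0,4,0,0,2,1,0,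
  4,0,0,3,2,0,4,0,0,4,0,0,0,3,1,1,0,2,1,0,3,0,0,4,0,0,2,2,3,0,0,3,0,4,2,0,4,0,0,0,3,2,1,0,3,0,4,
  0,0,3,1,0,2,0,0,4,1,0,0,0,4,3,4,0,0,0,0,4,1,2,3,0,0,3,1,0,0,0,2,1,0,2,1,0,0,3,0,0,3,1,0,2,3,0,
  4,0,0,3,0,0,4,2,0,3,1,0,3,0,0,4,4,0,0,0,0,0,2,1,1,1,2,0,3,0,0,0,2,1,0,2,2,0,0,0,3,1,2,0,4,0,0,
  2,1,0,0,4,0,0,4,2,0,3,3,0,0,4,1,0,0,0,0,2,1,1,1,0,0,2,0,0,2,2,3,0,0,3,0,0,3,1,4,0,0,2,0,3,0,4,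
  2,0,0,0,4,1,1,0,0,2,2,0,0,3,0,4,3,0,0,0,0,3,1,4,0,0,2,1,0,0,3,1,3,0,0,3,3,0,0,4,0,0,4,1,1,0,0,
  2,2,0,0,4,0,0,0,4,1,2,4,0,0,3,2,0,0,0,2,1,0,3,1,0,4,0,0,4,2,0,0,0,3,2,0,4,1,0,0,0,0,0,3,1,1,1,
  3,0,4,0,0,0,3,1,0,2,0,0,4,2,1,0,0,3,0,4,0,0,0,3,1,1,0,4,0,0,3,1,2,0,0,2,1,0,0,3,0,0,4,3,2,0,3,
  0,0,4,2,0,0,0,0,4,1,1,1,0,0,0,2,4,0,0,3,1,2,0,0,2,3,0,0,3,0,0,4,1,2,0,3,0,0,2,0,3,3,0,0,4,0,0,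
  0,0,4,1,1,1,4,0,0,2,0,4,0,0,2,0,3,2,0,3,4,0,0,4,0,0,4,1,1,0,0,0,0,2,1,3,4,0,0,4,1,0,0,0,2,1,0,
  2,0,3,1,0,0,4,0,0,3,1,2,0,0,2,3,0,0,3,0,0,4,3,1,0,0,0,0,3,1,1,2,0,3,0,0,3,3,0,0,0,2,1,3,0,0,3,
  3,0,0,0,3,2,4,0,0,3,1,0,2,0,0,0,4,0,0,4,1,1,0,2,1,0,0,3,0,4,2,0,0,0,2,1,2,0,0,2,0,4,0,0,3,2,0,
  4,0,0,4,1,0,3,0,4,2,0,0,0,0,0,0,3,1,1,1,1,0,2,2,0,3,0,0,0,2,2,0,4,0,0,3,2,0,4,2,0,3,0,4,0,0,0,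
  4,3,0,4,0,0,0,2,1,3,0,4,1,0,2,0,0,0,2,1,0,2,0,0,3,2,0,0,4,1,0,2,0,3,0,4,0,0,0,3,1,2,0,3,0,0,3,
  2,2,0,0,4,0,0,4,1,0,2,0,3,4,0,0,4,2,0,3,0,0,0,0,4,1,2,0,3,0,0,2,1,1,0,0,2,0,0,3,2,0,4,0,0,4,1,
  1,0,3,0,0,2,0,4,2,0,0,0,0,0,2,1,1,1,4,0,0,4,0,0,2,2,0,3,1,0,0,0,3,1,0,3,0,4,0,0,4,1,0,2,1,0,0,
  4,3,0,0,0,0,2,1,2,3,0,0,0,2,1,3,0,0,3,1,0,2,0,0,4,0,0,3,1,0,2,1,0,0,3,0,4,0,0,0,3,1,1,1,0,0,0,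
  2,1,1,0,0,3,2,0,3,0,0,4,1,0,0,0,3,1,0,3,0,4,0,0,4,1,0,2,1,0,0,3,2,0,0,0,0,4,1,1,2,0,0,2,0,3,1,
  0,0,0,2,0,3,2,0,3,0,0,4,1,2,0,0,2,3,0,0,3,2,0,4,0,0,0,0,0,3,1,1,3,0,0,2,2,0,4,0,0,3,1,4,0,0,3,
  0,4,0,0,4,1,0,2,0,4,1,0,0,0,0,2,1,1,3,0,0,2,0,4,0,0,2,1,0,3,0,0,3,2,3,0,0,4,3,0,0,0,4,3,0,0,0,
  3,1,1,0,2,0,3,3,0,0,4,4,0,0,0,2,1,0,2,0,3,0,4,3,0,0,0,3,2,0,3,4,0,0,4,0,0,4,1,0,2,0,0,0,4,1,2,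
  4,0,0,3,0,4,0,0,2,1,1,0,0,3,0,4,0,0,3,1,0,2,0,4,3,0,0,0,4,1,0,3,0,0,0,0,4,1,1,1,0,3,0,4,1,0,0,
  0,2,1,2,0,4,0,0,3,0,0,3,2,4,0,0,3,1,0,0,0,4,3,3,0,0,0,0,2,2,4,2,0,0,0,3,1,2,0,0,3,2,0,0,4,1,0,
  2,0,0,0,4,1,0,4,4,0,0,0,0,3,1,1,1,0,0,0,2,1,0,3,4,0,0,4,1,0,3,0,0,0,3,1,0,2,0,0,4,2,0,3,3,0,0,
  0,0,4,1,1,0,3,0,4,2,0,3,0,0,0,2,3,3,0,0,4,3,0,0,0,3,1,0,3,0,4,0,0,4,1,0,2,1,0,0,3,0,4,2,0,3,0,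
  0,0,0,0,0,4,1,1,1,1,1,0,0,2,1,0,0,4,0,0,2,0,3,1,3,0,0,3,0,4,0,0,4,1,0,2,0,3,0,0,0,2,1,1,2,0,0,
  2,0,3,4,0,0,0,2,1,0,0,3,2,1,0,0,4,0,0,4,1,2,0,4,0,0,3,1,0,2,0,0,0,0,3,1,3,0,4,0,0,4,1,0,3,0,0,
  0,0,2,2,1,1,0,2,0,4,2,0,0,0,2,2,0,3,1,0,0,4,0,0,3,2,4,0,0,3,3,0,0,0,4,1,0,2,0,3,0,4,0,0,0,3,1,
  2,0,4,4,0,0,0,2,1,0,2,0,4,2,0,0,0,3,2,0,3,0,0,4,2,0,3,0,4,0,0,0,4,1,1,0,3,0,0,0,0,3,1,1,2,0,3,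
  0,4,0,0,2,2,4,0,0,0,3,2,4,0,0,0,4,1,0,2,2,0,0,4,0,0,0,2,1,1,1,0,3,0,0,4,2,0,0,0,2,1,0,2,0,4,0,
  0,4,1,0,3,0,0,0,3,1,2,1,0,0,4,0,0,2,0,3,1,2,0,0,3,0,4,0,0,4,2,3,0,0,0,0,4,1,1,4,0,0,2,2,0,0,4,
  0,0,2,2,0,0,3,2,1,0,0,4,1,0,0,0,0,0,4,1,1,1,3,0,0,3,0,4,0,0,2,1,0,4,0,0,3,2,0,3,0,4,0,0,4,3,0,
  0,0,2,1,2,0,0,2,1,0,2,0,0,3,1,3,0,0,2,3,0,0,3,0,0,4,4,0,0,0,3,2,1,0,2,4,0,0,0,3,2,0,3,0,4,0,0,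
  4,1,0,4,0,0,0,4,1,3,0,0,2,1,0,2,0,3,0,4,0,0,3,1,0,4,0,0,4,1,0,2,0,4,0,0,0,0,0,0,2,1,1,1,2,3,0,
  4,3,0,0,0,3,1,0,2,1,0,0,0,4,2,0,3,0,4,0,0,0,2,2,1,0,3,0,0,3,1,3,0,0,3,0,4,4,0,0,0,4,2,0,3,0,0,
  0,3,1,1,0,2,0,4,0,0,2,1,0,2,0,3,0,0,3,1,0,2,0,0,4,2,0,3,0,4,0,0,0,4,1,1,4,0,0,3,0,4,0,0,2,1,0,
  2,0,3,4,0,0,0,3,1,0,2,0,3,0,0,4,0,0,0,2,1,1,1,2,0,0,4,0,0,2,4,0,0,3,1,4,0,0,2,0,3,0,4,0,0,4,1,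
  0,2,0,3,1,0,0,4,0,0,0,2,1,0,2,3,3,0,0,4,0,0,4,1,0,3,0,4,0,0,0,3,1,2,0,3,0,4,2,0,3,0,0,0,3,1,0,
  0,4,2,2,0,0,0,0,4,1,1,0,2,0,3,1,0,0,4,0,0,2,1,2,0,0,2,0,3,0,4,3,0,0,0,3,1,0,2,0,0,4,1,1,0,0,2,
  0,3,0,4,0,0,0,0,3,1,1,1,1,0,2,0,0,2,0,4,0,0,2,2,0,0,3,4,0,0,4,1,2,0,0,3,4,0,0,4,0,0,0,2,1,4,2,
  0,0,0,2,2,0,4,4,0,0,0,3,1,2,0,0,2,0,4,0,0,4,1,0,2,2,0,0,3,3,0,0,4,0,0,0,3,1,1,0,2,1,0,2,0,0,4,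
  0,0,2,3,0,0,3,3,0,0,0,4,1,2,0,3,0,0,2,1,1,0,0,2,0,3,0,0,3,3,0,0,4,3,4,0,0,0,0,0,4,1,1,2,0,0,2,
  3,0,4,0,0,3,0,4,0,0,2,1,1,0,0,2,2,0,4,0,0,3,1,2,0,0,0,4,3,0,4,0,0,0,3,2,3,2,0,0,4,0,0,3,1,0,2,
  0,3,0,4,0,0,4,3,0,4,0,0,0,4,1,2,0,0,2,1,0,0,3,2,0,3,0,0,4,1,0,4,3,0,0,0,0,0,0,2,1,1,1,0,2,2,0,
  0,3,1,0,2,0,3,0,0,4,2,0,3,0,4,2,0,0,0,0,2,1,1,0,4,0,0,2,0,3,1,0,0,4,3,0,0,0,3,2,1,2,0,0,2,0,4,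
  0,0,3,1,0,4,0,0,4,1,0,3,0,4,0,0,0,4,1,2,0,0,2,1,0,2,0,0,3,1,0,2,1,0,0,4,0,0,4,3,0,4,0,0,0,0,2,
  1,1,1,0,2,0,3,0,4,0,0,2,1,0,4,0,0,3,1,0,0,0,2,1,1,4,0,0,3,0,4,4,0,0,0,2,2,0,3,0,4,0,0,3,1,1,0,
  0,3,0,4,0,0,4,1,0,2,1,0,0,3,0,0,0,3,2,4,0,0,3,2,4,0,0,0,0,4,2,2,0,0,4,0,0,0,3,1,1,1,0,4,0,0,2,
  1,0,3,0,4,0,0,3,2,0,3,1,0,0,0,4,2,0,3,0,4,0,0,0,2,1,1,0,3,0,4,0,0,4,3,0,4,0,0,0,3,1,1,1,0,0,3,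
  0,4,0,0,2,3,2,0,0,4,0,0,3,1,4,0,0,2,3,0,0,4,0,0,4,1,0,2,0,0,0,4,1,1,0,2,4,0,0,3,0,4,0,0,2,2,0,
  0,3,1,1,0,0,3,0,0,4,4,0,0,0,0,4,1,2,2,3,0,0,4,0,0,3,2,0,0,4,1,2,0,0,3,4,0,0,4,0,0,0,2,1,0,2,1,
  0,2,0,4,0,0,3,2,0,4,0,0,0,4,1,4,0,0,2,1,0,2,0,3,0,4,0,0,3,3,0,4,0,0,4,3,0,0,0,0,0,3,1,1,1,2,0,
  0,2,2,0,3,0,4,0,0,3,4,3,0,0,0,4,2,0,3,0,0,0,2,1,1,0,3,0,0,2,4,0,0,3,2,0,4,0,0,4,1,0,3,0,0,0,3,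
  1,1,0,2,0,4,0,0,2,0,3,4,0,0,0,4,1,1,0,4,0,0,2,3,2,0,4,0,0,0,3,3,0,0,4,1,0,0,0,0,2,1,1,0,2,0,3,
  2,0,3,0,0,4,0,0,2,1,1,0,3,0,0,4,2,0,4,0,0,0,3,1,2,0,4,1,0,3,0,0,0,2,0,3,2,0,0,4,1,0,0,0,4,1,1,
  0,3,0,0,2,1,0,2,0,0,3,3,0,0,4,1,0,4,0,0,0,0,3,1,1,1,0,3,0,4,1,0,0,0,2,1,1,0,0,2,0,3,0,0,3,3,3,
  0,0,4,0,0,4,4,0,0,0,2,1,1,0,4,0,0,3,1,0,3,0,0,4,3,0,0,0,3,1,1,0,4,0,0,2,1,0,2,0,3,0,0,3,1,0,2,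
  0,3,0,4,0,0,0,4,1,4,0,0,2,3,0,0,3,3,0,0,4,1,0,2,0,3,3,0,0,0,0,0,4,1,1,0,2,1,0,2,0,4,1,0,0,0,3,
  1,0,0,4,2,0,4,0,0,0,2,1,4,0,0,2,1,0,2,0,0,3,1,2,0,0,3,0,0,0,3,3,4,0,0,4,2,0,0,0,4,1,1,0,2,0,4,
  0,0,2,1,0,4,0,0,4,1,0,3,0,4,0,0,0,0,0,4,1,1,1,1,3,0,0,2,0,3,0,0,2,1,0,4,0,0,4,0,0,2,1,1,0,0,2,
  1,0,2,0,4,0,0,3,3,0,4,0,0,4,2,4,0,0,0,0,3,1,2,0,0,2,1,0,2,0,3,0,4,0,0,3,1,0,2,0,0,4,1,0,0,0,4,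
  1,2,0,0,2,2,0,3,0,4,0,0,3,1,0,4,0,0,0,0,2,1,1,1,4,0,0,2,0,0,3,3,4,0,0,4,0,0,0,2,1,1,0,2,0,3,0,
  4,0,0,2,3,0,0,3,1,0,0,4,3,0,0,0,3,2,1,0,2,0,3,0,0,3,3,0,0,4,1,0,3,0,0,0,4,1,1,0,3,0,0,2,0,3,3,
  0,0,0,0,3,1,1,0,3,0,0,2,1,4,0,0,2,2,0,0,3,1,0,0,4,2,0,0,0,3,2,3,0,0,3,1,1,0,0,2,0,0,0,0,4,1,1,
  1,0,2,0,0,2,0,3,3,0,0,4,0,0,2,2,2,0,0,3,0,4,2,0,0,0,3,1,2,0,3,0,4,0,0,2,3,0,4,0,0,3,4,1,0,0,0,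
  0,0,0,0,3,1,1,1,3,2,0,3,0,0,4,2,0,3,0,0,0,2,1,0,2,2,2,0,0,3,0,0,3,1,0,2,0,0,4,1,0,0,0,3,1,1,0,
  3,3,0,0,4,0,0,2,2,0,4,0,0,3,1,0,2,0,4,0,0,4,2,0,3,0,0,0,4,1,4,0,0,2,3,0,0,3,0,4,1,0,0,0,0,2,1,
  3,1,0,4,0,0,4,1,0,4,0,0,0,2,1,1,0,2,0,0,2,3,1,0,0,0,4,0,0,3,1,2,0,3,0,4,0,0,2,1,0,0,3,0,4,4,0,
  0,0,4,2,2,3,0,0,3,0,4,0,0,3,4,0,0,0,0,3,1,1,3,0,0,2,2,0,0,4,3,0,0,0,2,2,3,0,0,4,4,0,0,0,3,1,1,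
  0,3,4,0,0,0,2,0,3,1,0,3,0,0,4,3,0,0,0,4,1,1,0,4,0,0,3,1,0,0,4,1,0,3,0,0,0,0,4,1,2,2,0,4,0,0,3,
  0,4,1,0,3,0,0,0,2,1,1,0,0,2,1,0,4,0,0,3,1,0,2,0,3,0,4,0,0,4,4,0,0,0,3,2,1,0,3,0,0,4,0,0,4,1,2,
  0,0,2,1,0,0,3,4,0,0,4,2,0,0,0,0,0,2,1,1,1,1,4,0,0,4,0,0,3,1,0,0,4,3,0,0,0,2,1,1,0,4,0,0,0,3,2,
  3,0,0,3,2,3,0,0,3,0,0,4,2,0,3,0,0,0,4,1,1,0,4,0,0,3,1,0,3,0,0,4,1,0,0,0,0,2,1,1,1,0,0,2,0,3,4,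
  0,0,4,2,0,3,0,4,0,0,0,2,1,2,0,4,0,0,3,4,0,0,0,3,1,1,0,2,0,0,2,0,3,0,0,4,3,1,0,3,0,4,0,0,0,0,4,
  1,1,1,0,0,2,2,0,4,0,0,3,1,0,2,0,4,1,0,0,0,4,3,0,4,0,0,0,2,1,1,0,4,0,0,3,1,0,3,0,4,0,0,4,3,0,0,
  0,3,1,2,0,0,2,1,0,0,3,2,0,0,0,0,0,3,1,1,1,2,0,3,0,0,2,1,0,2,0,4,0,0,3,2,0,0,0,2,1,4,0,0,3,2,0,
  3,0,0,4,2,0,3,0,0,0,3,3,3,0,0,4,1,0,2,0,0,0,4,1,0,2,1,0,3,0,0,4,1,0,3,0,4,0,0,0,0,2,1,1,1,0,2,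
  0,4,0,0,2,2,0,3,0,4,1,0,0,0,3,2,0,3,0,4,0,0,4,4,0,0,0,2,1,4,0,0,2,1,0,2,0,0,3,0,4,0,0,3,1,1,0,
  2,0,3,0,0,2,1,0,2,0,4,0,0,3,0,4,0,0,4,1,1,0,0,2,3,0,0,3,1,0,2,0,3,0,0,4,3,0,4,1,0,0,0,0,0,3,1,
  3,4,0,0,0,2,1,1,0,4,0,0,2,1,0,3,0,0,3,3,0,4,0,0,4,2,0,3,0,0,0,3,1,4,0,0,2,1,0,3,0,0,3,1,0,2,0,
  4,0,0,0,4,1,3,0,4,0,0,2,0,4,1,0,3,0,0,0,0,4,1,2,1,0,2,0,4,0,0,4,1,0,0,0,2,1,3,0,0,3,2,0,0,4,1,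
  0,2,0,3,0,0,0,3,1,2,0,0,2,1,0,3,0,0,3,2,0,3,0,0,4,2,0,3,0,0,0,4,2,1,0,0,3,3,0,0,4,0,0,0,0,4,1,
  1,1,2,0,0,2,1,0,3,0,4,0,0,3,2,0,0,4,1,0,0,0,2,1,1,0,3,0,0,2,0,3,3,0,0,4,3,0,4,1,0,0,0,0,3,1,3,
  4,0,0,0,2,4,0,0,4,2,0,0,0,4,2,0,3,2,0,0,4,4,0,0,0,0,2,1,1,1,3,0,0,2,0,3,0,4,1,0,0,0,2,1,0,2,0,
  0,4,1,2,0,0,2,0,0,0,2,1,0,2,2,0,0,3,0,4,3,0,0,0,3,1,1,0,0,2,2,0,4,0,0,3,4,0,0,4,1,0,0,0,4,1,1,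
  0,2,0,0,2,1,0,3,0,0,3,2,0,3,0,4,0,0,4,0,0,0,3,1,1,2,0,3,0,4,0,0,3,0,4,4,0,0,0,2,2,1,0,3,0,4,0,
  0,3,3,0,0,4,2,0,0,0,3,1,3,0,0,2,0,3,0,4,1,0,0,0,4,1,0,2,1,0,2,0,0,3,2,0,0,4,1,0,4,0,0,0,0,4,1,
  1,0,3,0,4,4,0,0,0,2,1,2,0,3,0,4,0,0,2,4,0,0,3,0,4,3,0,4,0,0,0,3,1,0,2,1,0,3,0,4,4,0,0,0,3,0,4,
  1,0,0,0,4,1,2,0,3,0,0,2,1,0,4,0,0,3,1,0,2,0,4,0,0,4,2,0,0,0,0,0,0,4,1,1,1,1,1,0,0,2,1,0,2,0,0,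
  3,0,0,2,1,0,2,3,0,0,3,0,4,0,0,3,1,0,2,4,0,0,3,1,0,0,4,1,0,2,0,0,0,4,1,0,2,1,0,3,0,0,3,2,0,4,0,
  0,4,4,0,0,0,0,2,1,1,2,0,4,0,0,2,0,3,3,0,0,4,1,0,2,0,3,0,0,0,2,1,0,2,0,3,0,4,0,0,3,2,3,0,4,0,0,
  3,3,0,0,4,0,0,0,3,1,1,2,0,0,3,2,0,3,0,0,0,2,1,2,0,4,0,0,3,0,4,0,0,3,1,0,3,0,4,2,0,0,0,4,1,2,0,
  0,2,2,0,0,4,2,0,3,0,0,0,0,4,1,1,4,0,0,2,1,0,2,0,4,0,0,3,3,0,4,0,0,4,1,0,0,0,2,1,0,2,2,0,3,0,0,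
  4,0,0,3,1,3,0,0,2,0,3,1,0,0,0,4,3,0,0,0,0,2,1,1,1,0,4,1,0,2,0,0,0,2,2,0,4,3,0,4,0,0,0,3,1,1,0,
  0,2,2,0,0,4,4,0,0,0,4,1,3,0,0,2,4,0,0,3,1,0,3,0,4,0,0,4,0,0,0,2,2,1,3,0,0,2,4,0,0,4,3,0,0,0,3,
  1,3,0,4,0,0,2,0,4,1,0,0,0,4,3,1,3,0,0,0,4,2,0,0,0,0,3,1,1,2,0,0,2,0,4,4,0,0,0,2,1,1,0,0,2,2,0,
  0,3,0,4,0,0,3,2,0,3,1,0,3,0,4,0,0,4,1,0,3,0,0,0,4,1,4,0,0,2,1,0,4,0,0,3,4,0,0,4,0,0,0,4,1,2,2,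
  0,0,3,0,4,1,0,2,0,0,0,3,2,3,0,0,0,4,1,0,2,1,0,4,0,0,3,4,0,0,4,0,0,0,0,3,1,1,1,0,2,4,0,0,3,0,4,
  3,0,0,0,2,2,0,3,0,4,0,0,3,1,0,2,2,0,0,0,4,1,1,0,2,0,0,2,1,0,0,3,1,0,0,4,4,0,0,0,0,2,3,2,1,0,0,
  3,1,0,3,0,0,4,3,0,0,0,4,2,0,3,2,0,3,0,4,0,0,4,1,0,2,0,0,0,0,3,1,1,0,2,2,0,0,3,1,0,2,0,0,0,2,2,
  4,0,0,4,2,0,3,0,0,0,3,1,0,0,4,2,1,0,0,3,0,4,2,0,3,0,0,0,0,4,1,3,1,0,0,4,1,0,2,0,3,0,4,0,0,0,2,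
  3,2,0,3,0,0,0,3,1,2,0,0,2,0,4,0,0,4,2,4,0,0,3,2,0,4,0,0,4,1,0,2,0,3,0,0,0,0,0,4,1,1,3,3,0,0,0,
  2,1,2,0,3,0,0,2,4,0,0,3,0,4,1,0,0,0,3,1,2,0,3,0,0,2,0,3,0,4,2,0,0,0,4,2,2,0,4,0,0,3,1,0,0,4,0,
  0,0,2,1,4,1,0,0,0,2,1,1,0,0,4,0,0,3,1,1,0,0,2,4,0,0,3,1,0,2,0,4,0,0,4,2,0,0,0,0,3,1,2,0,3,2,0,
  0,0,2,1,4,0,0,2,4,0,0,3,2,0,4,0,0,4,0,0,3,1,3,0,0,3,2,0,0,4,4,0,0,0,4,4,0,0,0,4,1,2,3,0,4,0,0,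
  4,0,0,2,1,4,0,0,3,0,4,1,2,0,0,0,0,3,0,4]

def sexP6 : ℕ := 2764813

end Cfsg.Agent.Lib.M24X
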