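import Cfsg.Agent.Lib.M24X.Classes
import Cfsg.Prelude.Def_Spor_Mathieu

set_option autoImplicit false
set_option maxRecDepth 100000

namespace Cfsg.Agent.Lib.M24X

def dSq : ℕ := 340831
def gProj : List ℕ := [23,22,11,15,17,9,19,13,20,5,16,2,21,7,18,3,10,4,14,6,8,12,1,0]
def uSq : List ℕ := [2,6,8,18,12,10,3,14,1,0,15,5,16,4,21,22,13,20,9,19,17,11,7,23]
def vSq : List ℕ := [16,1,3,13,8,15,6,22,18,2,21,7,9,12,20,10,4,5,0,19,11,17,14,23]

end Cfsg.Agent.Lib.M24X
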