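import Cfsg.Agent.Lib.M24X.OctadOrbits

set_option autoImplicit false
set_option maxRecDepth 100000

namespace Cfsg.Agent.Lib.M24X

def trGens : List (List ℕ) := [
  [10,21,9,6,13,20,17,1,22,14,2,18,4,11,7,23,16,15,8,0,5,3,12,19],
  [2,17,3,0,11,1,21,20,13,7,10,16,8,12,14,6,4,5,18,19,9,15,22,23],
  [7,9,21,6,11,20,23,17,22,5,1,18,16,13,19,2,8,10,12,14,3,0,4,15],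
  [13,11,8,18,21,12,0,17,6,3,1,19,10,7,16,5,15,22,20,23,2,14,9,4]]
def tr0 : List ℕ := [
  8536111,3704512,4536592]

def trRoot0 : ℕ := 3704512

def trOps0 : List ℕ := [
  1,0,4]

def trP0 : ℕ := 7

def trRoot1 : ℕ := 1573998

def trOps1 : List ℕ := [
  1,1,2,3,0,0,3,4,0,0,4,1,0,4,0,0,0,2,1,3,0,4,0,0,2,3,0,4,0,0,3,0,4,1,2,0,0,0,0,3,3,4,0,0,4,1,0,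
  4,0,0,0,4,1,1,0,2,0,0,2,3,0,4,0,0,3,0,4,0,0,0,2,1,1,4,0,0,2,4,0,0,4,4,0,0,0,2,1,0,4,1,0,4,0,0,
  0,3,1,0,2,4,0,0,4,4,0,0,0,4,1,0,2,1,0,0,3,0,4,1,0,0,0,0,3,2,1,0,0,3,1,0,4,0,0,4,1,3,0,0,2,0,3,
  0,0,0,4,1,1,0,2,0,0,2,1,0,2,0,0,3,0,4,1,3]

def trP1 : ℕ := 1765

def trRoot2 : ℕ := 262637

def trOps2 : List ℕ := [
  1,1,1,1,1,2,0,0,2,0,3,1,0,2,0,3,0,0,4,0,0,2,1,2,0,3,0,0,2,3,0,0,4,2,0,0,0,3,1,2,0,4,0,0,4,0,0,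
  4,1,2,0,0,2,1,0,0,4,0,0,0,2,1,2,1,0,3,0,0,3,0,4,1,0,3,0,0,0,2,1,1,0,4,0,0,3,2,0,0,4,0,0,4,1,2,
  0,0,2,4,0,0,3,3,0,0,4,3,0,4,0,0,0,0,3,1,2,1,0,3,0,0,0,2,1,4,0,0,3,2,0,0,4,0,0,3,2,0,4,0,0,4,2,
  0,3,0,4,0,0,0,4,1,1,0,2,4,0,0,3,4,0,0,4,0,0,2,1,3,0,0,0,4,1,0,3,0,4,0,0,0,0,2,1,1,1,0,2,0,3,0,
  4,0,0,2,2,4,0,0,3,0,0,3,1,0,2,1,0,4,0,0,3,0,0,4,1,0,3,2,0,4,0,0,0,0,2,1,1,0,2,2,0,0,3,0,4,0,0,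
  3,1,0,2,0,0,4,1,1,0,0,3,0,0,0,3,1,1,0,3,0,4,2,0,0,0,2,1,0,2,0,3,0,4,0,0,3,1,0,4,2,0,0,0,4,2,4,
  0,0,0,0,4,1,3,0,0,2,1,0,2,0,4,0,0,4,1,0,3,0,4,4,0,0,0,0,0,3,1,2,1,4,0,0,4,1,0,0,0,3,2,0,3,0,4,
  0,0,4,1,0,2,0,3,3,0,0,4,0,0,0,2,1,1,0,2,4,0,0,0,2,3,0,0,3,2,1,0,0,3,0,0,4,1,0,2,0,3,2,0,0,4,0,
  0,0,3,1,0,2,1,0,0,3,2,2,0,0,3,1,0,0,0,4,1,0,2,1,0,0,0,0,0,4,1,1,1,1,0,0,2,0,3,0,4,0,0,2,4,0,0,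
  3,2,0,4,0,0,4,1,0,2,0,0,0,2,1,2,0,3,0,0,2,1,0,0,3,1,2,0,3,0,0,4,0,0,4,1,3,0,0,2,4,0,0,3,0,4,0,
  0,0,3,1,1,0,2,0,3,4,0,0,4,1,0,0,0,2,1,3,0,0,2,0,3,0,4,0,0,3,1,0,2,0,3,0,0,4,1,0,3,0,4,0,0,0,4,
  2,2,0,3,0,4,0,0,3,4,0,0,4,2,0,3,0,4,2,0,0,0,0,0,0,2,1,1,1,3,3,0,0,4,1,0,0,0,2,0,3,1,0,0,4,4,1,
  0,0,0,0,3,1,3,0,4,0,0,2,1,0,2,0,3,0,4,0,0,3,1,0,2,0,3,0,0,4,0,0,4,1,1,0,3,0,4,0,0,2,1,2,0,0,3,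
  0,0,4,3,0,0,0,0,2,1,1,2,0,3,4,0,0,0,2,3,0,4,0,0,3,2,0,3,0,4,1,0,0,0,4,1,0,2,0,3,0,4,0,0,0,3,2,
  2,0,0,3,1,0,0,4,2,0,3,0,4,0,0,0,4,1,0,2,1,0,2,0,4,0,0,3,1,0,2,0,3,0,4,0,0,4,1,0,2,0,3,0,4,0,0,
  0,0,3,1,1,1,0,2,0,0,2,1,0,4,0,0,3,1,0,2,0,3,0,4,0,0,4,4,0,0,0,2,1,2,0,0,2,4,0,0,3,1,0,3,0,0,4,
  1,0,2,0,0,0,3,1,3,0,4,0,0,2,2,0,0,3,1,0,2,0,0,4,1,0,0,0,4,1,1,0,3,0,0,3,3,0,4,0,0,0,0,4,1,1,1,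
  0,0,2,0,3,2,4,0,0,0,4,3,0,4,0,0,0,2,1,2,0,3,1,0,2,0,0,0,2,0,3,3,0,0,4,1,0,2,0,4,1,0,0,0,0,3,1,
  1,0,3,3,0,0,4,0,0,2,2,0,3,0,0,0,4,1,1,1,0,0,3,0,0,2,0,3,4,3,0,0,0,4,0,0,0,0,3,1,1,1,2,0,4,0,0,
  2,1,0,0,3,0,4,1,0,0,0,2,1,1,0,0,2,3,0,0,3,2,0,3,0,4,0,0,4,4,0,0,0,3,2,0,3,1,0,2,0,0,4,1,0,2,0,
  3,0,0,0,4,1,1,0,2,0,3,0,0,3,2,0,3,0,0,4,2,0,4,0,0,0,0,2,1,3,2,0,0,4,3,0,4,0,0,0,2,1,4,0,0,3,2,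
  0,3,0,0,4,3,0,0,0,3,1,2,0,3,0,0,3,4,0,0,0,4,1,0,2,2,0,4,0,0,3,1,0,0,4,1,0,3,0,0,0,0,3,1,1,1,0,
  0,2,1,0,0,3,1,0,4,0,0,4,2,0,0,0,2,1,2,0,0,2,0,4,1,0,2,0,3,0,4,0,0,0,3,1,0,2,2,0,0,4,0,0,4,1,2,
  0,0,2,2,0,4,0,0,3,2,0,3,0,0,4,3,0,0,0,0,4,1,1,1,0,2,0,3,0,4,0,0,2,0,4,3,0,0,0,2,1,0,2,1,0,0,3,
  2,0,0,4,2,0,0,0,3,1,1,0,0,2,0,3,2,2,0,0,0,4,1,0,0,0,4,1,4,0,0,2,3,0,0,3,2,0,4,0,0,4,2,0,4,0,0,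
  0,0,0,4,1,1,1,0,2,2,0,3,0,0,4,0,0,2,1,2,0,0,2,0,3,3,0,0,4,1,0,0,0,4,1,0,3,0,4,1,0,0,0,0,2,1,1,
  4,0,0,3,1,0,0,0,2,0,3,1,0,2,1,0,0,3,2,0,0,0,0,3,1,1,4,0,0,3,0,4,0,0,2,1,1,0,3,0,0,2,4,0,0,0,0,
  4,1,2,0,3,1,0,2,0,3,0,4,0,0,0,2,1,2,0,3,0,4,0,0,2,1,0,3,0,0,3,1,0,3,0,0,0,3,2,1,0,0,3,1,0,3,0,
  0,4,4,0,0,0,4,1,3,0,4,0,0,2,0,3,3,0,4,0,0,4]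

def trP2 : ℕ := 112901

def trRoot3 : List ℕ := [
  8388615,2621632,1082880,268544,4268048,147496]

def trOps3 : List ℕ := [
  1,2,0,0,2,1,0,0,3,0,4]

def trP3 : ℕ := 28

def trRoot4 : List ℕ := [
  8388619,1574928,328320,6328320,9536,147492]

def trOps4 : List ℕ := [
  1,1,1,1,0,4,0,0,2,0,3,4,0,0,0,2,1,3,4,0,0,0,2,1,0,0,3,2,0,0,4,1,0,2,0,3,0,4,0,0,0,3,1,4,0,0,2,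
  1,0,0,3,0,4,3,0,4,0,0,0,4,1,2,0,4,0,0,2,4,0,0,3,1,0,0,0,0,2,1,1,0,3,4,0,0,4,0,0,2,1,3,0,4,0,0,
  3,0,4,0,0,3,3,0,4,0,0,4,2,4,0,0,4,3,0,0,0,0,3,1,3,0,0,2,1,0,3,0,4,0,0,3,2,0,3,0,0,4,1,0,0,0,4,
  1,1,0,3,0,4,0,0,2,3,0,4,0,0,3,3,0,0,4,1,0,3]

def trP4 : ℕ := 2369

def trRoot5 : List ℕ := [
  8388801,1051392,2621446,300032,204832,4210712]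

def trOps5 : List ℕ := [
  1,2,1,1,1,0,0,2,1,0,2,0,3,0,4,0,0,4,1,0,2,0,0,0,2,3,2,2,0,0,0,4,2,0,3,0,4,0,0,0,3,2,2,0,0,3,2,
  0,3,0,0,4,4,4,0,0,0,0,4,1,1,0,4,0,0,2,0,0,0,3,1,1,2,0,0,3,1,0,2,0,3,0,0,4,1,0,2,0,0,0,2,1,1,0,
  3,0,0,2,1,4,0,0,0,4,2,0,0,0,3,1,2,0,3,0,4,0,0,2,0,3,4,0,0,4,1,0,0,0,4,1,4,0,0,2,1,4,0,0,0,3,2,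
  0,3,0,0,4,1,0,0,0,0,4,1,2,2,0,0,3,3,0,4,0,0,0,2,1,1,0,0,2,0,4,3,0,0,0,3,2,1,0,2,1,0,4,0,0,0,3,
  1,0,3,0,4,0,0,0,4,1,2,0,4,0,0,3,1,0,4,0,0,4,1,0,3,0,0,0,0,0,2,1,1,1,0,4,1,0,0,0,2,2,4,0,0,3,1,
  0,4,0,0,0,3,1,1,0,3,0,0,2,1,0,2,0,3,0,4,0,0,3,0,4,0,0,4,1,1,0,4,0,0,3,0,0,0,2,1,2,1,0,0,4,0,0,
  3,2,2,0,0,4,2,0,4,0,0,0,4,1,1,0,2,0,3,0,0,3,2,0,0,4,1,0,4,0,0,0,0,3,1,2,0,3,1,0,3,0,4,0,0,4,1,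
  0,3,0,0,0,2,3,0,4,2,0,0,0,3,1,1,0,0,2,0,3,1,0,2,0,3,0,0,0,4,1,0,2,1,0,3,0,0,3,0,4,3,0,0,0,0,4,
  1,1,1,0,0,2,1,0,0,3,3,0,0,4,2,0,0,0,2,1,4,0,0,3,0,4,2,0,0,0,3,1,2,0,0,2,0,3,1,0,4,0,0,0,4,1,0,
  0,0,0,3,1,1,3,0,4,0,0,2,1,2,0,0,2,0,3,4,0,0,4,0,0,3,3,2,0,0,0,4,2,0,3,0,4,0,0,0,2,1,2,0,0,2,1,
  2,0,0,3,1,0,2,0,3,0,0,0,3,2,0,3,0,4,0,0,4,1,1,0,0,2,0,4,1,0,0,0,0,3,1,2,1,0,0,3,0,0,2,1,0,4,0,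
  0,3,0,4,1,2,0,0,2,0,3,3,0,0,4,0,0,0,4,1,1,0,2,0,0,2,1,2,0,0,2,0,4,0,0,3,1,0,4,2,0,0,0,4,1,0,2,
  0,3,1,0,3,0,0,4,3,0,0,0,0,0,4,1,1,2,0,0,2,1,2,0,0,3,0,4,2,0,3,0,0,0,3,2,4,0,0,3,0,0,4,2,0,3,0,
  0,0,3,1,2,0,0,2,4,1,0,3,0,0,0,3,0,4,1,0,4,3,0,4,0,0,0,0,4,1,1,0,3,0,4,0,0,3,2,3,0,0,3,0,4,0,0,
  4,1,0,2,0,3,0,4]

def trP5 : ℕ := 37643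

def trRoot6 : List ℕ := [
  8388627,1574920,33184,135744,4268036,2376704]

def trOps6 : List ℕ := [
  1,1,1,1,1,1,0,3,0,0,2,4,0,0,3,3,2,0,0,0,4,1,0,3,0,0,0,2,1,1,0,0,2,1,0,3,0,4,1,0,0,0,3,1,0,3,0,
  4,0,0,4,2,0,0,0,3,1,4,0,0,2,1,0,0,3,3,0,4,0,0,4,2,0,3,0,0,0,4,1,4,0,0,2,1,0,4,0,0,3,1,0,4,0,0,
  4,0,0,0,2,1,1,1,0,2,0,3,0,4,0,0,2,1,3,0,0,3,2,0,0,4,0,0,0,2,3,1,2,0,0,2,0,3,0,0,0,3,1,0,2,1,0,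
  3,0,4,0,0,3,1,0,2,1,0,0,3,0,0,4,0,0,4,1,3,0,0,2,1,0,2,0,0,3,1,0,3,0,4,0,0,4,1,0,3,0,4,0,0,0,0,
  3,2,1,1,0,2,3,0,0,0,2,4,0,0,3,2,0,3,0,4,0,0,4,2,0,3,0,0,0,3,1,3,0,4,3,0,4,0,0,0,2,2,0,0,3,1,3,
  0,0,2,0,3,0,4,0,0,4,0,0,4,1,3,0,4,0,0,2,1,0,0,3,2,0,0,4,2,0,4,0,0,0,0,4,1,1,1,0,2,0,4,0,0,2,2,
  0,3,0,0,3,1,0,3,0,0,4,3,0,0,0,2,1,3,0,4,0,0,3,3,0,0,0,3,2,3,0,0,3,1,0,3,1,0,0,0,0,4,1,4,0,0,2,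
  1,0,3,0,4,0,0,3,1,0,3,0,0,4,2,0,4,0,0,0,0,0,2,1,1,1,2,0,0,3,2,1,0,0,0,4,1,0,2,0,0,0,2,1,1,4,0,
  0,2,0,3,0,0,3,1,0,2,0,0,4,0,0,4,1,2,0,3,0,4,0,0,2,1,0,0,3,1,0,3,0,0,4,1,0,2,0,4,0,0,0,0,2,1,1,
  1,0,4,0,0,2,3,0,0,3,0,4,0,0,3,1,1,0,2,0,0,2,1,0,2,0,0,3,3,0,0,4,2,0,3,0,0,0,4,2,3,0,0,0,0,3,1,
  1,4,0,0,2,2,0,4,0,0,3,3,0,4,0,0,4,1,0,0,0,2,4,1,0,3,4,0,0,0,0,3,1,1,0,0,3,4,0,0,4,4,0,0,0,4,1,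
  1,0,2,3,0,0,0,3,1,0,0,4,2,2,0,0,0,0,0,4,1,1,2,0,0,4,4,0,0,0,2,1,0,2,4,0,0,4,3,0,4,0,0,0,3,1,2,
  0,4,0,0,2,3,0,4,1,0,0,0,4,0,0,4,1,1,0,2,0,4,0,0,2,1,0,3,3,0,0,4,0,0,4,2,0,0,0,0,0,3,1,1,1,0,2,
  1,2,0,0,2,0,4,0,0,3,1,2,0,0,3,2,0,0,0,4,4,0,0,0,2,1,1,0,0,3,1,0,3,0,0,0,3,1,1,0,0,2,1,0,0,3,4,
  0,0,0,4,1,4,0,0,2,0,3,1,0,0,4,1,0,3,0,0,0,0,2,1,2,0,4,1,0,4,0,0,0,2,1,3,0,0,3,3,0,0,4,1,0,2,0,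
  0,0,3,2,1,0,4,4,0,0,0,3,3,0,0,4,4,0,0,0,4,1,0,2,1,0,3,3,0,0,0,3,1,0,4,0,0,4,1,0,0,0,0,3,1,1,1,
  0,3,0,4,0,0,2,2,0,3,3,0,0,0,3,1,0,4,0,0,4,3,0,0,0,2,1,1,0,2,0,0,2,4,0,0,3,0,4,2,0,3,0,4,0,0,0,
  3,1,4,0,0,2,2,0,3,0,0,3,0,4,1,4,0,0,2,0,4,0,0,0,4,1,3,0,0,3,0,4,1,0,0,0,0,4,1,1,2,0,4,3,0,0,0,
  2,1,0,0,3,1,0,0,4,3,0,0,0,2,3,1,0,0,4,1,0,0,0,3,1,2,0,4,0,0,4,0,0,4,2,0,4,0,0,0,0,4,1,1,1,1,0,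
  0,2,0,0,2,2,1,0,0,3,2,0,0,0,3,1,0,3,4,0,0,4,1,0,3,0,0,0,0,2,1,1,4,0,0,2,2,0,0,4,1,0,0,0,2,1,1,
  0,0,3,3,0,0,4,0,0,3,1,1,0,2,0,0,2,1,1,0,0,0,3,1,0,2,0,0,0,4,2,2,0,3,0,0,3,4,0,0,4,0,0,0,3,1,1,
  1,0,2,0,3,0,0,3,4,0,0,4,3,0,0,0,2,4,2,0,4,0,0,0,3,1,1,0,0,3,3,0,0,4,0,0,4,1,1,0,2,0,0,2,0,0,0,
  4,1,1,0,2,4,0,0,3,1,0,2,0,0,4,1,0,0,0,2,1,1,0,2,0,3,0,4,0,0,3,1,0,3,0,0,4,0,0,4,1,1,0,3,0,0,2,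
  1,0,2,0,0,3,3,0,0,0,0,0,0,2,1,1,1,2,4,0,0,3,1,0,2,0,4,0,0,0,2,1,0,2,1,0,3,0,4,0,0,4,3,0,0,0,3,
  1,1,0,4,0,0,2,0,3,3,0,0,0,4,1,0,2,1,0,3,0,0,3,1,0,0,4,0,0,0,2,1,1,0,4,0,0,2,3,4,0,0,4,4,0,0,0,
  3,1,2,0,4,0,0,2,0,4,1,0,3,0,0,0,4,1,1,0,3,0,0,2,3,0,0,3,0,4,1,0,3,0,0,0,0,3,1,1,1,0,2,0,3,0,4,
  0,0,3,1,0,2,0,4,0,0,4,3,0,4,0,0,0,2,2,0,0,4,3,1,0,0,4,0,0,0,4,1,3,1,0,0,4,1,0,4,0,0,0,3,1,1,0,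
  3,0,4,0,0,2,3,0,0,3,1,0,0,0,4,1,1,0,0,4,0,0,0,0,2,1,1,1,2,0,3,0,0,2,3,0,0,3,2,0,0,4,1,0,0,0,2,
  2,4,0,0,3,3,0,4,0,0,0,3,1,2,0,0,2,1,0,0,0,4,2,4,0,0,3,0,4,1,0,4,0,0,0,0,3,1,1,1,0,2,0,4,0,0,3,
  3,0,0,4,2,0,0,0,2,2,1,0,4,0,0,4,0,0,3,1,3,0,0,2,3,0,0,3,0,0,0,4,1,1,1,0,3,0,0,3,0,4,0,0,2,1,0,
  2,3,0,0,3,2,0,0,4,1,0,3,0,0,0,3,1,3,0,0,3,3,0,4,0,0,4,0,0,4,1,0,2,0,3,1,0,2,0,4,0,0,0,0,0,3,1,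
  1,1,1,0,3,0,4,0,0,4,4,0,0,0,2,2,0,3,1,0,0,4,2,0,4,0,0,0,3,3,0,4,0,0,4,1,2,0,4,0,0,2,0,0,0,2,1,
  2,0,3,0,0,3,1,1,0,0,3,4,0,0,4,2,0,0,0,4,1,1,0,0,3,2,0,0,4,0,0,0,3,1,1,1,0,0,2,0,4,0,0,2,1,2,0,
  3,0,0,4,0,0,3,1,0,2,1,0,3,0,0,4,2,0,3,0,0,0,4,1,3,0,0,2,2,0,3,0,4,0,0,4,0,0,0,4,1,3,2,0,0,4,0,
  0,2,1,0,4,0,0,3,2,2,0,0,4,3,0,0,0,4,2,2,0,0,4,2,0,0,0,0,0,4,1,1,2,1,0,0,3,4,0,0,4,2,0,0,0,2,1,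
  0,3,1,0,3,0,0,0,3,1,0,2,0,3,2,0,0,4,0,0,4,1,0,4,1,0,4,0,0,0,0,2,1,1,0,3,0,4,1,0,2,0,0,0,2,1,0,
  4,0,0,3,1,0,2,3,0,0,0,4,2,0,0,0,3,1,4,0,0,2,1,0,2,0,3,4,0,0,4,1,0,2,0,0,0,3,1,4,0,0,2,0,3,0,4,
  4,0,0,0,4,2,3,0,0,3,2,0,0,4,0,0,0,4,1,1,1,0,2,0,4,0,0,2,0,3,0,4,0,0,3,2,4,0,0,3,0,4,0,0,4,1,1,
  0,0,2,0,4,3,0,0,0,0,0,0,3,1,1,1,1,0,2,4,0,0,4,0,0,2,1,1,0,0,2,0,0,3,1,0,2,1,0,0,3,4,0,0,0,4,1,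
  3,0,0,2,3,0,0,3,2,0,0,4,3,0,0,0,0,2,2,0,3,1,2,0,4,0,0,2,0,3,0,4,3,0,0,0,4,1,0,2,0,0,0,3,1,1,2,
  0,0,2,0,4,0,0,2,1,2,0,0,4,3,0,0,0,3,1,4,0,0,2,1,0,0,3,0,0,4,1,0,3,0,4,1,0,2,0,3,0,0,0,0,4,1,1,
  1,0,0,3,0,0,2,1,0,2,0,3,0,4,1,0,4,0,0,0,3,1,0,3,2,0,0,4,0,0,4,2,0,3,1,0,0,0,0,0,2,1,1,4,0,0,2,
  3,2,0,0,4,1,0,0,0,3,2,3,0,0,3,0,4,2,0,0,0,4,1,0,4,4,0,0,0,0,2,1,3,0,4,2,0,3,0,0,0,3,3,0,0,4,2,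
  0,0,0,3,1,4,4,0,0,0,2,1,0,4,0,0,4,1,0,4,0,0,0,4,1,2,3,0,0,3,4,0,0,4,0,0,2,1,0,2,0,4,3,0,0,0,3,
  1,0,4,4,0,0,0,4,1,3,0,0,3,0,4,0,0,0,0,3,1,1,1,0,2,0,0,2,0,3,1,0,3,0,4,0,0,4,1,0,2,2,0,3,0,0,3,
  0,4,0,0,0,2,1,2,1,0,4,0,0,3,0,0,2,3,0,0,3,1,3,0,4,0,0,4,0,0,4,2,4,0,0,0,0,3,1,1,0,0,2,4,0,0,3,
  0,4,2,0,3,0,0,0,4,1,1,3,0,0,2,4,0,0,3,0,0,2,3,0,4,0,0,4,1,0,2,3,0,0,4,0,0,0,0,4,1,2,3,0,0,3,1,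
  0,3,0,4,0,0,4,1,0,4,0,0,0,2,2,1,0,0,3,2,2,0,0,0,0,3,1,1,0,2,1,0,0,3,0,4,0,0,2,2,3,0,0,4,0,0,3,
  1,0,2,0,4,0,0,4,2,0,3,2,0,3,0,0,4,0,0,0,4,1,1,2,0,0,2,0,0,2,3,0,4,0,0,3,1,0,2,0,0,4,1,0,3,3,0,
  0,0,0,0,0,4,1,1,2,4,0,0,3,1,0,2,0,0,4,4,0,0,0,2,1,1,4,0,0,3,0,4,0,0,2,1,1,0,0,0,4,0,0,3,1,0,2,
  2,0,3,0,0,3,1,0,2,1,0,0,3,0,0,4,1,0,0,0,4,1,1,0,3,0,4,3,0,0,0,2,1,0,2,0,0,3,1,0,2,0,0,4,2,0,4,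
  2,0,0,0,0,0,2,1,1,1,0,3,0,0,3,2,3,0,0,3,2,0,0,0,4,1,0,3,0,0,0,2,1,1,0,3,0,4,0,0,3,1,0,3,0,4,0,
  0,4,2,1,0,2,0,0,0,0,3,1,1,2,0,0,2,1,0,3,0,0,0,2,1,0,4,0,0,3,2,0,0,4,2,0,4,0,0,0,4,1,1,0,2,0,0,
  2,1,0,3,0,4,0,0,4,1,0,0,0,0,3,1,1,2,0,4,0,0,3,1,1,0,0,2,0,3,1,0,0,4,0,0,4,0,0,2,1,1,1,0,2,0,0,
  2,0,0,2,0,0,3,1,3,0,0,3,1,0,0,4,2,0,3,0,0,0,4,1,1,0,3,2,0,0,0,3,1,0,3,0,0,4,2,0,0,0,0,4,1,1,1,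
  2,0,0,2,2,0,3,0,0,3,0,0,2,1,0,2,0,3,0,0,3,3,0,0,4,1,1,0,0,3,4,0,0,0,0,2,2,0,3,2,0,3,4,0,0,4,0,
  0,4,2,4,0,0,4,3,0,0,0,0,4,1,1,0,2,0,3,0,4,0,0,2,1,0,2,0,0,3,1,0,3,0,4,1,0,4,0,0,0,4,1,0,3,2,0,
  0,4]

def trP6 : ℕ := 602119

end Cfsg.Agent.Lib.M24X
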