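import Cfsg.Agent.Lib.M24X.OctadOrbits

set_option autoImplicit false
set_option maxRecDepth 100000

namespace Cfsg.Agent.Lib.M24X

def yGens : List (List ℕ) := [
  [1,0,11,2,17,8,9,21,20,6,15,3,4,10,18,16,7,12,19,5,14,13,22,23],
  [0,1,21,10,13,18,22,15,17,2,7,8,16,11,14,19,9,4,20,3,6,12,5,23],
  [23,0,17,7,15,11,3,14,16,12,9,8,21,18,10,6,13,22,20,5,4,2,19,1],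
  [0,23,6,7,12,21,11,15,22,8,10,20,18,17,19,3,4,2,5,14,13,16,9,1]]
def yRoot0 : List ℕ := [
  8388615,2621632,1082880,268544,4268048,147496]
def yOps0 : List ℕ := [
  1,1,0,2,1,0,4,0,0,3,2,0,0,4,0,0,2,2,0,3,0,4,0,0,3,1,0,3,0,4,0,0,4,1,0,2,0,4]
def yP0 : ℕ := 163

def yRoot1 : List ℕ := [
  8388621,2097936,4981760,1118272,43136,147490]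
def yOps1 : List ℕ := [
  1,1,1,1,1,3,0,0,2,0,3,1,0,0,4,0,0,3,1,0,2,0,3,0,0,4,3,3,0,0,4,4,0,0,0,0,2,1,1,0,2,0,3,0,0,2,4,
  0,0,0,3,1,1,0,2,0,3,2,0,3,0,0,4,0,0,2,1,4,0,0,3,0,4,0,0,3,1,0,2,0,4,4,0,0,0,4,1,1,0,0,2,0,3,3,
  0,0,0,0,4,1,1,0,2,0,3,3,0,0,0,2,2,0,4,4,0,0,0,3,1,1,0,0,3,2,0,0,0,4,1,2,0,0,4,3,0,0,0,0,0,2,1,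
  1,1,2,0,0,2,1,0,0,3,1,0,4,0,0,0,4,1,1,0,0,4,4,0,0,0,0,2,1,1,0,0,3,3,0,4,0,0,4,0,0,3,1,2,3,0,0,
  3,1,0,0,0,2,4,0,0,3,1,4,0,0,0,4,1,0,2,0,3,0,4,3,0,0,0,0,4,1,1,0,0,2,1,0,0,3,1,0,2,0,0,4,4,1,0,
  0,0,0,0,3,1,1,1,0,2,0,4,0,0,2,1,0,2,0,3,0,0,3,2,1,0,0,3,0,4,2,0,0,0,4,0,0,2,1,4,0,0,4,2,3,0,0,
  3,0,4,0,0,0,3,1,1,0,2,0,3,0,0,2,3,2,0,0,0,3,2,0,3,2,0,0,0,4,1,0,2,3,0,0,3,3,0,0,4,4,0,0,0,0,4,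
  1,1,2,0,4,0,0,2,3,0,0,4,3,0,0,0,2,1,0,3,1,0,0,4,0,0,3,1,0,0,4,2,0,3,0,4,2,0,0,0,0,0,4,1,1,2,0,
  0,2,1,3,0,0,2,0,3,0,4,2,0,4,0,0,0,3,1,3,0,4,0,0,4,0,0,0,2,1,1,3,0,0,2,0,4,0,0,2,1,0,0,3,1,0,2,
  0,0,0,3,1,1,0,4,0,0,2,1,0,3,0,0,3,1,0,3,0,4,0,0,4,1,0,2,0,3,1,0,0,0,0,4,2,1,0,4,1,0,0,0,3,1,0,
  4,0,0,4,1,0,3,0,0,0,0,0,2,1,1,1,1,0,3,0,0,2,1,0,2,0,0,3,1,0,2,0,3,0,0,4,1,0,3,0,4,0,0,0,2,2,1,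
  1,0,0,2,0,0,3,2,0,4,0,0,4,1,0,3,0,0,0,3,1,4,0,0,2,1,2,0,0,0,3,2,0,3,0,4,0,0,4,1,0,3,0,0,0,4,1,
  1,0,3,0,0,2,1,0,2,0,4,4,0,0,0,3,2,2,0,0,4,0,0,4,1,0,2,0,4,0,0,0,0,2,1,1,2,0,3,0,0,2,4,0,0,3,1,
  0,2,0,4,0,0,4,1,0,0,0,2,2,4,0,0,3,1,0,3,0,4,0,0,4,1,3,0,0,0,0,3,2,2,0,0,3,2,0,0,4,0,0,4,2,3,0,
  0,3,2,0,0,4,2,0,4,0,0,0,0,3,1,1,1,0,3,2,0,0,4,0,0,2,1,0,0,0,2,1,0,2,1,0,4,0,0,4,4,0,0,0,3,2,3,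
  0,0,3,3,0,0,0,4,1,0,3,3,0,0,4,0,0,0,4,1,1,0,2,2,0,4,0,0,3,0,4,0,0,2,1,4,0,0,2,2,0,3,0,4,0,0,3,
  0,4,0,0,3,2,0,4,1,0,2,0,0,0,4,1,1,0,4,0,0,2,4,0,0,3,3,0,4,0,0,4,1,0,0,0,0,0,3,1,1,1,4,0,0,2,2,
  4,0,0,3,0,0,3,0,4,2,0,3,0,4,0,0,0,2,1,2,0,4,0,0,2,3,0,0,0,3,1,1,0,2,0,0,3,1,0,4,0,0,0,4,1,1,0,
  3,2,0,0,0,2,2,0,0,4,2,0,0,0,0,2,1,1,3,0,0,2,0,3,2,0,0,4,0,0,2,3,1,0,0,4,3,0,0,0,3,2,1,0,2,0,0,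
  3,3,0,0,4,1,0,2,0,4,0,0,0,4,2,0,3,2,0,0,4,0,0,0,3,1,1,1,0,0,2,0,3,0,4,1,0,4,0,0,0,2,1,0,2,1,0,
  2,0,3,0,0,4,2,0,4,0,0,0,3,1,1,0,2,0,0,2,3,0,0,3,2,0,4,0,0,4,0,0,4,1,3,0,0,2,0,3,1,0,0,4,0,0,0,
  4,1,1,1,0,3,0,0,2,1,0,3,0,0,3,2,0,0,4,4,0,0,0,2,1,3,0,4,0,0,2,1,0,2,0,4,0,0,3,0,0,3,1,0,2,3,0,
  0,3,1,0,4,0,0,4,1,0,0,0,4,1,0,2,1,0,4,0,0,3,2,0,4,0,0,0,0,0,4,1,1,1,0,2,1,0,2,0,4,0,0,3,1,0,0,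
  0,2,1,2,0,0,2,1,0,0,3,4,0,0,0,4,1,0,3,0,4,1,0,3,0,0,0,0,2,1,2,1,0,0,3,0,0,2,1,0,2,1,0,2,0,3,0,
  0,3,1,0,3,0,4,0,0,4,1,0,3,0,0,0,4,2,4,0,0,3,1,0,0,4,4,0,0,0,0,3,1,1,2,0,0,2,4,0,0,3,2,0,0,4,0,
  0,2,1,1,0,3,0,4,0,0,2,0,3,0,4,1,0,2,0,0,0,3,1,2,0,0,2,0,3,0,0,4,2,2,0,0,3,0,0,0,4,1,1,1,0,2,0,
  0,3,0,4,2,0,0,0,2,1,1,0,0,0,3,1,3,0,0,2,0,3,4,0,0,4,3,0,0,0,4,2]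
def yP1 : ℕ := 132317

def yRoot2 : List ℕ := [
  8388636,2097921,294978,589984,4331520,1074176]
def yOps2 : List ℕ := [
  1,1,2,1,1,0,2,2,0,4,0,0,3,3,4,0,0,0,4,0,0,2,2,2,3,0,0,0,4,2,3,0,0,0,0,3,3,1,0,3,0,0,4,1,1,0,3,
  0,0,0,0,4,1,0,2,1,0,2,0,4,0,0,3,1,0,0,4,1,0,2,0,0,0,0,3,1,1,2,0,3,0,0,3,1,0,4,0,0,4,2,0,0,0,2,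
  3,1,0,2,0,4,0,0,4,1,2,0,0,2,0,4,0,0,0,3,1,1,0,2,2,0,0,0,2,1,0,2,0,0,3,4,0,0,4,1,0,0,0,4,1,4,0,
  0,2,1,4,0,0,4,0,0,3,1,0,2,0,3,0,4,0,0,4,2,0,3,0,0,0,0,4,1,1,1,0,2,0,0,2,0,3,2,0,4,0,0,0,2,1,0,
  2,1,0,4,0,0,3,3,0,0,4,0,0,3,1,1,0,4,0,0,4,1,0,2,0,0,0,4,1,1,0,4,0,0,2,4,0,0,3,0,4,2,4,0,0,3,0,
  0,0,0,0,2,1,1,1,0,2,2,0,0,3,2,0,4,0,0,0,2,3,2,0,3,0,0,4,1,0,4,0,0,0,3,1,2,0,0,2,2,0,0,3,0,4,0,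
  0,4,1,1,0,2,0,3,0,4,0,0,3,0,0,0,2,1,1,2,0,0,2,4,0,0,3,4,0,0,4,1,2,0,0,2,0,0,0,2,1,2,0,3,0,0,2,
  0,3,0,0,3,2,1,0,4,0,0,3,1,0,2,0,0,4,0,0,4,2,1,3,0,0,2,0,0,4,0,0,0,3,1,3,4,0,0,4,0,0,2,1,3,0,4,
  0,0,2,2,0,3,1,0,0,0,4,4,0,0,0,3,1,1,0,2,0,3,0,0,2,1,0,2,0,4,0,0,4,0,0,4,1,1,0,2,0,3,0,0,2,1,0,
  3,0,4,0,0,0,0,4,1,2,4,0,0,3,0,0,2,1,0,0,3,1,0,3,0,4,1,0,0,0,4,1,1,0,0,2,3,0,0,4,0,0,0,0,3,1,1,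
  1,1,0,4,0,0,2,3,0,0,3,2,0,0,4,3,0,0,0,2,1,2,0,3,0,0,2,1,0,0,3,0,4,2,0,3,0,0,0,3,1,0,2,0,3,0,4,
  2,0,0,0,0,2,1,1,1,0,4,0,0,3,2,0,0,4,1,0,2,0,4,4,0,0,0,0,2,1,0,2,1,0,0,3,0,4,1,0,0,0,3,1,1,0,0,
  2,0,0,4,1,0,2,0,0,0,3,1,1,2,0,0,3,2,0,0,4,1,0,4,0,0,0,2,3,0,0,3,1,1,0,0,2,2,0,0,3,1,0,3,0,4,0,
  0,4,4,0,0,0,4,1,3,0,4,0,0,2,3,0,0,3,3,0,0,4,1,0,3,0,0,0,0,4,1,1,1,0,2,0,0,3,1,0,2,0,0,4,0,0,3,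
  2,0,3,1,0,0,4,2,0,4,0,0,0,4,1,1,0,4,0,0,3,1,0,0,4,3,0,0,0,0,0,4,1,2,1,0,2,1,0,2,0,0,3,3,0,0,4,
  0,0,3,1,0,2,1,0,0,4,1,0,0,0,4,1,4,0,0,2,0,4,1,0,3,0,4,0,0,0,0,2,1,1,1,0,2,0,3,0,4,0,0,3,3,0,4,
  0,0,4,2,0,0,0,2,2,0,3,0,0,0,3,2,1,2,0,0,2,2,0,0,3,0,0,3,1,1,0,0,3,2,0,0,4,2,0,3,0,4,0,0,0,4,1,
  0,3,0,4,0,0,0,4,1,1,4,0,0,2,0,3,0,0,2,1,0,2,2,0,4,0,0,4,0,0,3,1,0,2,0,3,0,4,0,0,4,1,4,0,0,3,2,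
  0,0,0,0,0,0,2,1,1,1,2,4,0,0,3,2,0,0,0,2,2,0,3,1,0,3,0,0,0,3,1,0,2,0,4,3,0,0,0,4,2,0,3,4,0,0,4,
  0,0,0,2,1,1,2,0,3,0,0,2,0,4,0,0,2,1,1,0,0,2,2,0,0,4,1,0,0,0,3,1,0,3,1,0,0,4,1,0,4,0,0,0,4,1,2,
  0,0,3,2,0,0,0,0,3,1,2,1,0,0,3,0,4,1,0,0,0,2,1,0,0,3,1,0,2,0,3,1,0,4,0,0,0,4,1,4,0,0,3,4,0,0,4,
  0,0,0,4,1,1,3,0,0,2,4,0,0,3,2,0,0,4,0,0,2,4,3,0,0,0,3,1,0,2,1,0,0,3,1,0,0,4,0,0,4,2,3,0,0,3,3,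
  0,0,4,0,0,0,0,2,1,1,1,3,0,0,2,0,3,1,0,3,1,0,0,0,4,1,0,0,0,2,1,0,2,0,0,0,2,1,2,1,0,2,0,0,0,2,3,
  2,0,0,4,1,0,3,0,0,0,3,1,2,0,3,0,4,0,0,3,0,0,4,3,0,0,0,3,1,1,2,0,4,0,0,3,0,4,1,0,0,0,2,0,3,3,0,
  4,3,0,0,0,4,1,4,0,0,4,0,0,0,4,1,1,0,0,4,1,0,2,1,0,3,0,0,4,0,0,0,0,3,1,1,1,0,4,0,0,2,1,0,4,0,0,
  3,3,0,4,2,0,0,0,4,2,0,3,0,0,0,2,1,1,0,4,4,0,0,0,2,2,1,0,0,3,1,0,0,0,3,2,0,4,4,0,0,0,4,1,2,0,0,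
  2,0,3,0,0,0,3,1,2,0,3,0,4,0,0,2,0,0,4,1,2,0,3,1,0,0,4,0,0,2,1,3,0,0,2,1,0,0,3,0,4,0,0,3,2,0,3,
  0,4,0,0,4,1,2,0,0,2,2,0,0,3,0,0,0,0,4,1,1,2,4,0,0,3,0,0,2,1,2,0,0,0,3,3,3,0,0,4,0,0,4,1,0,2,0,
  3,0,0,0,2,1,1,0,3,0,4,0,0,2,1,4,0,0,3,1,0,0,4,0,0,3,2,0,3,1,0,0,4,0,0,4,2,4,0,0,3,3,0,0,0,0,3,
  1,1,3,0,4,0,0,2,2,0,0,0,3,4,1,0,4,0,0,0,0,4,1,1,1,0,4,0,0,2,2,0,0,4,0,0,2,1,0,2,0,3,0,0,3,1,0,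
  3,0,4,1,0,0,0,4,1,3,0,0,3,0,0,0,0,0,3,1,1,1,1,0,2,1,0,0,4,0,0,2,3,2,0,0,0,3,1,0,3,4,0,0,4,0,0,
  4,2,0,3,4,0,0,4,0,0,0,2,1,0,2,1,0,2,1,0,0,3,0,0,4,0,0,3,1,0,2,2,1,0,0,4,0,0,3,1,1,0,0,0,0,4,1,
  1,3,0,0,3,4,0,0,4,0,0,2,2,0,3,2,0,0,4,2,0,3,0,4,0,0,0,3,2,2,0,0,3,0,0,0,0,2,1,1,2,0,4,0,0,2,2,
  3,0,0,3,0,0,4,1,0,0,0,2,1,1,2,0,3,0,0,4,1,0,0,0,2,1,1,0,0,0,3,2,2,0,3,0,0,0,4,3,0,4,0,0,0,3,1,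
  2,0,4,0,0,2,1,0,2,0,4,2,0,0,0,3,1,4,0,0,2,0,4,2,0,0,0,4,1,2,0,0,2,0,4,0,0,0,4,1,1,0,3,0,0,2,3,
  0,0,3,1,2,0,0,3,0,0,4,0,0,0,3,1,1,1,0,2,0,0,2,2,4,0,0,4,0,0,3,3,1,0,2,0,0,0,0,2,1,1,1,0,0,2,0,
  3,0,0,2,2,1,0,0,3,3,0,4,0,0,0,3,1,2,0,0,2,0,0,4,1,0,2,0,3,0,0,0,3,1,0,2,1,0,2,1,0,0,4,0,0,4,2,
  3,0,0,3,0,4,4,0,0,0,0,4,1,3,0,4,0,0,2,0,3,1,0,2,2,0,0,0,4,2,0,3,0,4,0,0,0,0,4,1,1,2,0,3,3,0,0,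
  0,3,1,0,3,0,0,4,2,0,3,0,4,0,0,0,2,1,0,2,2,3,0,4,0,0,4,0,0,4,4,1,0,0,0,0,3,1,1,0,2,4,0,0,4,0,0,
  2,2,0,0,3,2,0,3,0,0,4,3,0,4,0,0,0,4,1,2,0,3,0,4,0,0,2,1,0,3,0,0,3,4,0,0,0,0,0,4,1,1,1,1,1,0,0,
  2,0,4,0,0,3,2,0,0,4,1,0,3,1,0,0,0,0,2,1,3,0,4,0,0,2,2,0,3,4,0,0,0,3,0,0,3,1,1,0,2,0,4,0,0,2,4,
  0,0,3,2,0,3,0,0,4,4,1,0,0,0,0,4,1,1,2,0,0,4,0,0,2,2,0,0,4,1,0,2,0,0,0,0,2,1,1,1,1,0,4,0,0,3,0,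
  0,3,2,0,3,0,4,0,0,4,3,0,0,0,2,2,1,0,4,0,0,3,1,4,0,0,2,0,3,0,0,4,1,0,3,0,0,0,3,1,2,1,0,0,4,4,0,
  0,0,2,1,0,4,0,0,3,1,0,4,4,0,0,0,4,4,0,0,0,4,1,1,0,0,2,2,0,3,0,0,3,1,0,3,0,4,0,0,4,3,0,0,0,0,3,
  1,1,4,0,0,2,0,3,1,2,0,0,2,0,3,0,4,0,0,4,2,0,3,0,4,0,0,0,2,1,3,2,0,0,0,2,1,0,4,0,0,3,1,0,2,0,3,
  0,0,4,1,0,2,0,3,0,0,0,3,1,0,2,1,0,2,0,0,3,1,0,4,3,0,4,0,0,0,0,4,1,3,0,0,2,3,0,0,3,0,4,1,3,0,0,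
  3,0,4,0,0,0,0,4,1,1,2,2,0,0,3,0,4,0,0,3,1,1,0,0,2,0,4,0,0,0,2,1,1,0,0,2,3,0,4,0,0,3,1,0,2,0,0,
  0,3,1,3,0,0,2,1,0,2,0,0,3,0,4,3,0,0,0,4,1,2,0,3]
def yP2 : ℕ := 418169


end Cfsg.Agent.Lib.M24X
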